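import Groth.Prelude.Def_Found
import Mathlib

/-!
Finiteness of integral closures reduces to purely inseparable extensions.
-/

set_option autoImplicit false

universe u

open IntermediateField

namespace Groth.Calg2.N2Insep

/-- The fixed field of all automorphisms of a normal extension is purely inseparable. -/
theorem isPurelyInseparable_fixedField (K M : Type u) [Field K] [Field M] [Algebra K M]
    [FiniteDimensional K M] [Normal K M] :
    IsPurelyInseparable K (fixedField (⊤ : Subgroup (M ≃ₐ[K] M))) := by
  classical
  rw [isPurelyInseparable_iff_natSepDegree_eq_one]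
  intro x
  rw [← minpoly.algebraMap_eq (A := K) (algebraMap (fixedField (⊤ : Subgroup (M ≃ₐ[K] M))) M).injective x]
  set y := algebraMap (fixedField (⊤ : Subgroup (M ≃ₐ[K] M))) M x
  have hy : IsIntegral K y := Algebra.IsIntegral.isIntegral y
  rw [Polynomial.natSepDegree_eq_of_splits _ (Normal.splits inferInstance y), Finset.card_eq_one]
  refine ⟨y, Finset.ext fun z => ?_⟩
  rw [Multiset.mem_toFinset, Finset.mem_singleton, Polynomial.mem_aroots]
  refine ⟨fun ⟨_, hz⟩ => ?_, fun hz => ⟨minpoly.ne_zero hy, by rw [hz]; exact minpoly.aeval K y⟩⟩
  have hmin : minpoly K y = minpoly K z :=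
    minpoly.eq_of_irreducible_of_monic (minpoly.irreducible hy) hz (minpoly.monic hy)
  obtain ⟨g, hg⟩ := MulAction.mem_orbit_iff.1 ((Normal.minpoly_eq_iff_mem_orbit M).1 hmin.symm)
  rw [← hg]
  exact x.2 ⟨g, Subgroup.mem_top g⟩

/-- A Noetherian domain with finite integral closures in finite purely inseparable extensions of its
fraction field has finite integral closure in every finite extension. -/
theorem finite_of_purelyInseparable (A : Type u) [CommRing A] [IsDomain A] [IsNoetherianRing A]
    (h : ∀ (K' : Type u) [Field K'] [Algebra A K'] [Algebra (FractionRing A) K']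
      [IsScalarTower A (FractionRing A) K'], FiniteDimensional (FractionRing A) K' →
      IsPurelyInseparable (FractionRing A) K' → Module.Finite A (integralClosure A K'))
    (L : Type u) [Field L] [Algebra A L] [Algebra (FractionRing A) L]
    [IsScalarTower A (FractionRing A) L] [FiniteDimensional (FractionRing A) L] :
    Module.Finite A (integralClosure A L) := by
  let K := FractionRing A
  let Ω := AlgebraicClosure L
  let M : IntermediateField K Ω := IntermediateField.normalClosure K L Ω
  haveI : Normal K M := normalClosure.normal K L Ω
  haveI : FiniteDimensional K M := normalClosure.is_finiteDimensional K L Ω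
  let f : L →ₐ[K] M := (IsScalarTower.toAlgHom K L Ω).codRestrict M.toSubalgebra
    fun x => AlgHom.fieldRange_le_normalClosure (IsScalarTower.toAlgHom K L Ω) ⟨x, rfl⟩
  let I : IntermediateField K M := fixedField (⊤ : Subgroup (M ≃ₐ[K] M))
  haveI : IsPurelyInseparable K I := isPurelyInseparable_fixedField K M
  haveI : Algebra.IsSeparable I M :=
    FixedPoints.isSeparable (⊤ : Subgroup (M ≃ₐ[K] M)) M
  haveI : Module.Finite A (integralClosure A I) := h I inferInstance inferInstance
  let R' := integralClosure A I
  haveI : IsNoetherianRing R' := IsNoetherianRing.of_finite A R'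
  haveI : IsFractionRing R' I := integralClosure.isFractionRing_of_finite_extension K I
  haveI : IsIntegrallyClosed R' := integralClosure.isIntegrallyClosedOfFiniteExtension K
  haveI : IsScalarTower R' I M := IsScalarTower.of_algebraMap_eq fun _ => rfl
  haveI : FiniteDimensional I M := Module.Finite.of_restrictScalars_finite K I M
  haveI : Module.Finite R' (integralClosure R' M) := IsIntegralClosure.finite R' I M (integralClosure R' M)
  haveI : IsScalarTower A R' M := IsScalarTower.of_algebraMap_eq fun a => by
    rw [IsScalarTower.algebraMap_apply A K M, IsScalarTower.algebraMap_apply K I M,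
      ← IsScalarTower.algebraMap_apply A K I]
    rfl
  haveI : Module.Finite A (integralClosure R' M) := Module.Finite.trans R' _
  haveI : IsNoetherian A (integralClosure R' M) := isNoetherian_of_isNoetherianRing_of_finite A _
  let i : integralClosure A L →ₗ[A] integralClosure R' M :=
    { toFun := fun x => ⟨f x.1, ((x.2.map (f.restrictScalars A)).tower_top : IsIntegral R' (f x.1))⟩
      map_add' := fun x y => Subtype.ext (map_add f x.1 y.1)
      map_smul' := fun a x => Subtype.ext ((f.restrictScalars A).toLinearMap.map_smul a x.1) }
  exact Module.Finite.of_injective i fun x y hxy =>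
    Subtype.ext (f.injective (congrArg Subtype.val hxy))

end Groth.Calg2.N2Insep
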