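import Mathlib

/-!
Lifting normality along a prime element in the Jacobson radical, and normality of power series rings.
-/

set_option autoImplicit false

universe u

open scoped nonZeroDivisors

namespace Groth.Calg2.PowerSeriesNormal

variable {R : Type u} [CommRing R] [IsDomain R]

lemma isAlmostIntegral_div_iff {a b : R} (hb : b ≠ 0) :
    IsAlmostIntegral R (algebraMap R (FractionRing R) a / algebraMap R (FractionRing R) b) ↔
      ∃ d : R, d ≠ 0 ∧ ∀ n : ℕ, b ^ n ∣ d * a ^ n := by
  have hb' : algebraMap R (FractionRing R) b ≠ 0 :=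
    (map_ne_zero_iff _ (IsFractionRing.injective R (FractionRing R))).2 hb
  constructor
  · rintro ⟨d, hd, h⟩
    refine ⟨d, nonZeroDivisors.ne_zero hd, fun n => ?_⟩
    obtain ⟨r, hr⟩ := h n
    refine ⟨r, IsFractionRing.injective R (FractionRing R) ?_⟩
    rw [Algebra.smul_def, div_pow, mul_div_assoc', eq_div_iff (pow_ne_zero n hb')] at hr
    simp only [map_mul, map_pow, ← hr]
    exact mul_comm _ _
  · rintro ⟨d, hd, h⟩
    refine ⟨d, mem_nonZeroDivisors_of_ne_zero hd, fun n => ?_⟩
    obtain ⟨r, hr⟩ := h n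
    refine ⟨r, ?_⟩
    rw [Algebra.smul_def, div_pow, mul_div_assoc', eq_div_iff (pow_ne_zero n hb'),
      ← map_pow, ← map_pow, ← map_mul, ← map_mul, hr, mul_comm]

variable [IsNoetherianRing R]

/-- One step of the approximation. -/
lemma mem_step {x : R} (hx : Prime x) [IsIntegrallyClosed (R ⧸ Ideal.span {x})] {b w d : R}
    (hb : b ≠ 0) (hd : d ≠ 0) (hw : ¬ x ∣ w) (N : ℕ) (h : ∀ n : ℕ, b ^ n ∣ d * (x ^ N * w) ^ n) :
    ∃ v s : R, x ^ N * w = b * v + x ^ (N + 1) * s := by
  obtain ⟨j, β, hβ, rfl⟩ := WfDvdMonoid.max_power_factor hb hx.irreducible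
  obtain ⟨e, δ, hδ, rfl⟩ := WfDvdMonoid.max_power_factor hd hx.irreducible
  have hndvd : ∀ n, ¬ x ∣ δ * w ^ n := fun n hc =>
    (hx.dvd_or_dvd hc).elim hδ fun h' => hw (hx.dvd_of_dvd_pow h')
  have hjN : j ≤ N := by
    by_contra hjN
    obtain ⟨r, hr⟩ := h (e + 1)
    refine hndvd (e + 1) ⟨x ^ ((e + 1) * (j - N) - e - 1) * (β ^ (e + 1) * r), ?_⟩
    have hk : (e + 1) * N + e + ((e + 1) * (j - N) - e) = (e + 1) * j := by
      have : (e + 1) * j = (e + 1) * N + (e + 1) * (j - N) := by rw [← mul_add]; congr 1; omega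
      have : e + 1 ≤ (e + 1) * (j - N) := Nat.le_mul_of_pos_right _ (by omega)
      omega
    have h1 : e + 1 ≤ (e + 1) * (j - N) := Nat.le_mul_of_pos_right _ (by omega)
    apply mul_left_cancel₀ (pow_ne_zero ((e + 1) * N + e) hx.ne_zero)
    obtain ⟨K, hK⟩ : ∃ K, K = (e + 1) * (j - N) - e - 1 := ⟨_, rfl⟩
    have hs : (e + 1) * (j - N) - e = K + 1 := by omega
    rw [← hK]
    calc x ^ ((e + 1) * N + e) * (δ * w ^ (e + 1)) = x ^ e * δ * (x ^ N * w) ^ (e + 1) := by ring
      _ = (x ^ j * β) ^ (e + 1) * r := hr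
      _ = x ^ ((e + 1) * N + e + ((e + 1) * (j - N) - e)) * (β ^ (e + 1) * r) := by rw [hk]; ring
      _ = _ := by rw [hs]; ring
  obtain ⟨i, rfl⟩ := Nat.exists_eq_add_of_le hjN
  have hdiv : ∀ n, β ^ n ∣ δ * w ^ n := fun n => by
    obtain ⟨r, hr⟩ := h n
    have h1 : β ^ n * r = x ^ (e + n * i) * (δ * w ^ n) := by
      apply mul_left_cancel₀ (pow_ne_zero (n * j) hx.ne_zero)
      calc x ^ (n * j) * (β ^ n * r) = (x ^ j * β) ^ n * r := by ring
        _ = x ^ e * δ * (x ^ (j + i) * w) ^ n := hr.symm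
        _ = _ := by ring
    obtain ⟨r', rfl⟩ : x ^ (e + n * i) ∣ r :=
      hx.pow_dvd_of_dvd_mul_left _ (fun hc => hβ (hx.dvd_of_dvd_pow hc)) ⟨_, h1⟩
    exact ⟨r', mul_left_cancel₀ (pow_ne_zero (e + n * i) hx.ne_zero) (by rw [← h1]; ring)⟩
  haveI : (Ideal.span {x}).IsPrime := (Ideal.span_singleton_prime hx.ne_zero).2 hx
  let π := Ideal.Quotient.mk (Ideal.span {x})
  have hπ : ∀ y, ¬ x ∣ y → π y ≠ 0 := fun y hy h0 =>
    hy (Ideal.mem_span_singleton.1 (Ideal.Quotient.eq_zero_iff_mem.1 h0))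
  have halm : IsAlmostIntegral (R ⧸ Ideal.span {x})
      (algebraMap _ (FractionRing (R ⧸ Ideal.span {x})) (π w) / algebraMap _ _ (π β)) :=
    (isAlmostIntegral_div_iff (hπ β hβ)).2 ⟨π δ, hπ δ hδ, fun n => by
      simpa only [map_pow, map_mul] using map_dvd π (hdiv n)⟩
  obtain ⟨v₀, hv₀⟩ := IsIntegrallyClosed.isIntegral_iff.1 halm.isIntegral
  obtain ⟨v, rfl⟩ := Ideal.Quotient.mk_surjective v₀
  rw [eq_div_iff ((map_ne_zero_iff _ (IsFractionRing.injective _ _)).2 (hπ β hβ)), ← map_mul] at hv₀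
  have hv := Ideal.Quotient.eq.1 ((map_mul π v β).trans (IsFractionRing.injective _ _ hv₀))
  obtain ⟨s, hs⟩ := Ideal.mem_span_singleton.1 hv
  refine ⟨x ^ i * v, -s, ?_⟩
  linear_combination -(x ^ (j + i)) * hs

/-- A Noetherian domain with a prime element in the Jacobson radical whose quotient is normal is
normal. -/
theorem isIntegrallyClosed_of_prime {x : R} (hx : Prime x)
    (hjac : Ideal.span {x} ≤ Ideal.jacobson ⊥) [IsIntegrallyClosed (R ⧸ Ideal.span {x})] :
    IsIntegrallyClosed R := by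
  refine (isIntegrallyClosed_iff (FractionRing R)).2 fun {t} ht => ?_
  obtain ⟨a, b, hb, rfl⟩ := IsFractionRing.div_surjective (A := R) t
  have hb0 : b ≠ 0 := nonZeroDivisors.ne_zero hb
  have key : ∀ (N : ℕ) (a : R), IsAlmostIntegral R
      (algebraMap R (FractionRing R) a / algebraMap R (FractionRing R) b) →
      ∃ u w, a = b * u + x ^ N * w := by
    intro N
    induction N with
    | zero => exact fun a _ => ⟨0, a, by ring⟩
    | succ N ih =>
      intro a ha
      obtain ⟨u, w, rfl⟩ := ih a ha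
      by_cases hw : x ∣ w
      · obtain ⟨w', rfl⟩ := hw
        exact ⟨u, w', by ring⟩
      have ha' : IsAlmostIntegral R
          (algebraMap R (FractionRing R) (x ^ N * w) / algebraMap R (FractionRing R) b) := by
        have hu := (completeIntegralClosure R (FractionRing R)).algebraMap_mem u
        have := (completeIntegralClosure R (FractionRing R)).sub_mem ha hu
        rwa [map_add, add_div, map_mul, mul_div_cancel_left₀ _
          ((map_ne_zero_iff _ (IsFractionRing.injective R (FractionRing R))).2 hb0),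
          add_sub_cancel_left] at this
      obtain ⟨d, hd, hd'⟩ := (isAlmostIntegral_div_iff hb0).1 ha'
      obtain ⟨v, s, hvs⟩ := mem_step hx hb0 hd hw N hd'
      exact ⟨u + v, s, by rw [hvs]; ring⟩
  have hmem : a ∈ Ideal.span {b} := by
    rw [← Ideal.Quotient.eq_zero_iff_mem]
    rw [← Submodule.mem_bot R, ← Ideal.iInf_pow_smul_eq_bot_of_le_jacobson (M := R ⧸ Ideal.span {b})
      (Ideal.span {x}) hjac, Submodule.mem_iInf]
    intro N
    obtain ⟨u, w, rfl⟩ := key N a ht.isAlmostIntegral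
    rw [map_add, Ideal.Quotient.eq_zero_iff_mem.2 (Ideal.mul_mem_right u _ (Ideal.mem_span_singleton_self b)),
      zero_add, ← mul_one (x ^ N * w), map_mul]
    exact Submodule.smul_mem_smul (Ideal.mul_mem_right w _ (Ideal.pow_mem_pow (Ideal.mem_span_singleton_self x) N))
      (Submodule.mem_top (x := (Ideal.Quotient.mk (Ideal.span {b}) 1)))
  obtain ⟨c, rfl⟩ := Ideal.mem_span_singleton.1 hmem
  exact ⟨c, by rw [map_mul, mul_div_cancel_left₀ _
    ((map_ne_zero_iff _ (IsFractionRing.injective R (FractionRing R))).2 hb0)]⟩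

/-- Power series over a normal Noetherian domain form a normal domain. -/
theorem isIntegrallyClosed_powerSeries [IsIntegrallyClosed R] : IsIntegrallyClosed (PowerSeries R) := by
  haveI : IsNoetherianRing (PowerSeries R) := inferInstance
  have hX : Prime (PowerSeries.X : PowerSeries R) := PowerSeries.X_prime
  haveI : IsIntegrallyClosed (PowerSeries R ⧸ Ideal.span {(PowerSeries.X : PowerSeries R)}) := by
    let f : PowerSeries R →+* R := PowerSeries.constantCoeff
    have hf : Function.Surjective f := fun r => ⟨PowerSeries.C r, PowerSeries.constantCoeff_C r⟩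
    have hk : RingHom.ker f = Ideal.span {PowerSeries.X} := by
      ext g
      rw [RingHom.mem_ker, Ideal.mem_span_singleton, PowerSeries.X_dvd_iff]
    exact IsIntegrallyClosed.of_equiv
      ((RingHom.quotientKerEquivOfSurjective hf).symm.trans (Ideal.quotEquivOfEq hk))
  refine isIntegrallyClosed_of_prime hX ?_
  exact IsAdicComplete.le_jacobson_bot _

end Groth.Calg2.PowerSeriesNormal
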