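import Groth.Agent.Calg2.CompleteStructure
import Groth.Agent.Calg2.PowerSeriesNormal
import Groth.Agent.Calg1.Tate
import Groth.Agent.Calg1.NagataBasic

/-!
Power series rings over normal N-2 domains are N-2; complete Noetherian local rings are Nagata.
-/

set_option autoImplicit false

universe u

open IsLocalRing

namespace Groth.Calg2.CompleteNagata

theorem isN2_field (k : Type u) [Field k] : CAlg.IsN2 k := by
  intro L _ _ _ _ hfd
  haveI : Module.Finite k (FractionRing k) :=
    Module.Finite.of_surjective (Algebra.linearMap k (FractionRing k)) (fun x => by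
      obtain ⟨a, b, hb, rfl⟩ := IsFractionRing.div_surjective (A := k) x
      exact ⟨a / b, map_div₀ (algebraMap k (FractionRing k)) a b⟩)
  haveI : Module.Finite k L := Module.Finite.trans (FractionRing k) L
  exact Module.Finite.of_injective (integralClosure k L).val.toLinearMap Subtype.val_injective

theorem isN2_of_ringEquiv {A B : Type u} [CommRing A] [IsDomain A] [CommRing B] [IsDomain B]
    [IsNoetherianRing A] (e : A ≃+* B) (h : CAlg.IsN2 A) : CAlg.IsN2 B := by
  letI := e.toRingHom.toAlgebra
  haveI : Module.Finite A B := Module.Finite.of_surjective (Algebra.linearMap A B) e.surjective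
  exact Groth.Calg1.isN2_of_finite e.injective h

theorem powerSeries_normal_isN2 {A : Type u} [CommRing A] [IsDomain A] [IsNoetherianRing A]
    [IsIntegrallyClosed A] (hA : CAlg.IsN2 A) :
    IsIntegrallyClosed (PowerSeries A) ∧ CAlg.IsN2 (PowerSeries A) := by
  have hn := PowerSeriesNormal.isIntegrallyClosed_powerSeries (R := A)
  haveI := hn
  haveI : (Ideal.span {(PowerSeries.X : PowerSeries A)}).IsPrime := PowerSeries.span_X_isPrime
  refine ⟨hn, Groth.Calg1.isN2_of_tate (PowerSeries.X : PowerSeries A) ?_⟩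
  let f : PowerSeries A →+* A := PowerSeries.constantCoeff
  have hf : Function.Surjective f := fun r => ⟨PowerSeries.C r, PowerSeries.constantCoeff_C r⟩
  have hk : RingHom.ker f = Ideal.span {PowerSeries.X} := by
    ext g
    rw [RingHom.mem_ker, Ideal.mem_span_singleton, PowerSeries.X_dvd_iff]
  exact isN2_of_ringEquiv ((RingHom.quotientKerEquivOfSurjective hf).symm.trans (Ideal.quotEquivOfEq hk)) hA

theorem mvPowerSeries_normal_isN2 {A : Type u} [CommRing A] [IsDomain A] [IsNoetherianRing A]
    [IsIntegrallyClosed A] (hA : CAlg.IsN2 A) (n : ℕ) :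
    ∃ _ : IsDomain (MvPowerSeries (Fin n) A),
      IsIntegrallyClosed (MvPowerSeries (Fin n) A) ∧ CAlg.IsN2 (MvPowerSeries (Fin n) A) := by
  induction n with
  | zero =>
    let e : MvPowerSeries (Fin 0) A ≃+* A := (MvPowerSeries.isEmptyEquiv (σ := Fin 0) (R := A)).toRingEquiv
    haveI := e.toMulEquiv.isDomain A
    exact ⟨inferInstance, IsIntegrallyClosed.of_equiv e.symm, isN2_of_ringEquiv e.symm hA⟩
  | succ n ih =>
    obtain ⟨hd, hn, hN⟩ := ih
    obtain ⟨h1, h2⟩ := powerSeries_normal_isN2 (A := MvPowerSeries (Fin n) A) hN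
    let e : MvPowerSeries (Fin (n + 1)) A ≃+* PowerSeries (MvPowerSeries (Fin n) A) :=
      (MvPowerSeries.finSuccEquiv A n).toRingEquiv
    haveI := e.toMulEquiv.isDomain (PowerSeries (MvPowerSeries (Fin n) A))
    exact ⟨inferInstance, IsIntegrallyClosed.of_equiv e.symm, isN2_of_ringEquiv e.symm h2⟩

theorem isN2_cohen {Λ : Type u} [CommRing Λ] [IsDomain Λ] (h : IsField Λ ∨ CAlg.IsCohenRing Λ) :
    IsNoetherianRing Λ ∧ IsIntegrallyClosed Λ ∧ CAlg.IsN2 Λ := by
  rcases h with hF | ⟨_, hdvr, hcomp, p, hp, hm⟩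
  · letI := hF.toField
    exact ⟨inferInstance, inferInstance, isN2_field Λ⟩
  · haveI := hdvr
    haveI : IsAdicComplete (maximalIdeal Λ) Λ := hcomp
    refine ⟨inferInstance, inferInstance, ?_⟩
    haveI : (Ideal.span {(p : Λ)}).IsMaximal := hm ▸ maximalIdeal.isMaximal Λ
    haveI : (Ideal.span {(p : Λ)}).IsPrime := Ideal.IsMaximal.isPrime inferInstance
    haveI : IsAdicComplete (Ideal.span {(p : Λ)}) Λ := hm ▸ hcomp
    refine Groth.Calg1.isN2_of_tate (p : Λ) ?_
    letI := Ideal.Quotient.field (Ideal.span {(p : Λ)})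
    exact isN2_field _

/-- Complete Noetherian local domains are N-2. -/
theorem isN2_of_isAdicComplete (R : Type u) [CommRing R] [IsDomain R] [IsLocalRing R]
    [IsNoetherianRing R] [IsAdicComplete (maximalIdeal R) R] : CAlg.IsN2 R := by
  obtain ⟨Λ, _, n, f, hcase, hinj, hfin, -⟩ := CompleteStructure.exists_finite_injective R
  obtain ⟨hnoe, hdom, -⟩ := CompleteStructure.isNoetherianRing_of_coefficient hcase
  obtain ⟨-, hn, hN⟩ := isN2_cohen hcase
  obtain ⟨_, -, h2⟩ := mvPowerSeries_normal_isN2 hN n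
  letI := f.toAlgebra
  haveI : Module.Finite (MvPowerSeries (Fin n) Λ) R := hfin
  exact Groth.Calg1.isN2_of_finite hinj h2

/-- Complete Noetherian local rings are Nagata. -/
theorem isNagata_of_isAdicComplete (R : Type u) [CommRing R] [IsLocalRing R] [IsNoetherianRing R]
    [IsAdicComplete (maximalIdeal R) R] : CAlg.IsNagata R := by
  refine ⟨inferInstance, fun p _ => ?_⟩
  let π := Ideal.Quotient.mk p
  haveI : IsLocalRing (R ⧸ p) := IsLocalRing.of_surjective' π Ideal.Quotient.mk_surjective
  have hm : (maximalIdeal R).map π = maximalIdeal (R ⧸ p) := by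
    have hmax : ((maximalIdeal R).map π).IsMaximal :=
      Ideal.IsMaximal.map_of_surjective_of_ker_le Ideal.Quotient.mk_surjective
        (by rw [Ideal.mk_ker]; exact IsLocalRing.le_maximalIdeal (Ideal.IsPrime.ne_top inferInstance))
    exact IsLocalRing.eq_maximalIdeal hmax
  have hs : Function.Surjective (AdicCompletion.of (maximalIdeal R) (R ⧸ p)) := fun z => by
    obtain ⟨w, rfl⟩ := AdicCompletion.map_surjective (maximalIdeal R) (Submodule.mkQ_surjective p) z
    obtain ⟨c, rfl⟩ := AdicCompletion.of_surjective (maximalIdeal R) R w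
    exact ⟨Submodule.mkQ p c, (AdicCompletion.map_of (maximalIdeal R) (Submodule.mkQ p) c).symm⟩
  haveI : IsAdicComplete (maximalIdeal R) (R ⧸ p) :=
    AdicCompletion.of_bijective_iff.1 ⟨AdicCompletion.of_injective _ _, hs⟩
  haveI : IsAdicComplete (maximalIdeal (R ⧸ p)) (R ⧸ p) := by
    rw [← hm]
    exact (IsAdicComplete.map_algebraMap_iff (maximalIdeal R) (R ⧸ p) (S := R ⧸ p)).2 inferInstance
  exact isN2_of_isAdicComplete (R ⧸ p)

end Groth.Calg2.CompleteNagata
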