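import Groth.Agent.Calg2.CohenRing
import Groth.Agent.Calg1.CoefficientField
import Groth.Agent.Calg6.PowerSeries
import Groth.Agent.Ega41Adic.PowerSeries

/-!
The Cohen structure theorem: complete local rings as quotients of power series rings, complete Noetherian
local domains as finite extensions of power series rings.
-/

set_option autoImplicit false

universe u

open IsLocalRing MvPowerSeries Groth.SGA7.PS

namespace Groth.Calg2.CompleteStructure

/-- A coefficient field, or a Cohen ring mapping onto the residue field. -/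
theorem exists_coefficient (R : Type u) [CommRing R] [IsLocalRing R]
    [IsAdicComplete (maximalIdeal R) R] :
    ∃ (Λ : Type u) (_ : CommRing Λ) (ι : Λ →+* R), Function.Surjective ((residue R).comp ι) ∧
      (IsField Λ ∨ (CAlg.IsCohenRing Λ ∧ ∃ p : ℕ, p.Prime ∧ (p : R) ≠ 0 ∧ (p : R) ∈ maximalIdeal R ∧
        ∀ (J : Ideal Λ), J.IsMaximal → J = Ideal.span {(p : Λ)})) := by
  classical
  obtain ⟨p, hp⟩ := CharP.exists (ResidueField R)
  rcases CharP.char_is_prime_or_zero (ResidueField R) p with hprime | rfl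
  · haveI := Fact.mk hprime
    have hpm : (p : R) ∈ maximalIdeal R := by
      rw [← residue_eq_zero_iff, map_natCast]
      exact CharP.cast_eq_zero (ResidueField R) p
    by_cases hp0 : (p : R) = 0
    · haveI : CharP R p := (CharP.charP_iff_prime_eq_zero hprime).2 hp0
      letI : Algebra (Ega41Sep.ZModU.{u} p) R :=
        ((ZMod.castHom dvd_rfl R).comp ULift.ringEquiv.toRingHom).toAlgebra
      letI : Algebra (Ega41Sep.ZModU.{u} p) (ResidueField R) :=
        ((residue R).comp (algebraMap (Ega41Sep.ZModU.{u} p) R)).toAlgebra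
      haveI := Ega41Sep.formallySmooth_zmodU p (ResidueField R)
      let g : ResidueField R →ₐ[Ega41Sep.ZModU.{u} p] R ⧸ maximalIdeal R :=
        { RingHom.id (ResidueField R) with commutes' := fun _ => rfl }
      obtain ⟨σ, hσ⟩ := Algebra.FormallySmooth.exists_mkₐ_comp_eq_of_isAdicComplete
        (R := Ega41Sep.ZModU.{u} p) (I := maximalIdeal R) g
      exact ⟨ResidueField R, inferInstance, σ.toRingHom, fun y => ⟨y, AlgHom.congr_fun hσ y⟩,
        Or.inl (Field.toIsField _)⟩
    · obtain ⟨Λ, _, _, hΛ, ⟨e⟩⟩ := CohenRing.exists_cohenRing p (ResidueField R)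
      obtain ⟨hdom, hdvr, hcomp, q, hq, hmq⟩ := hΛ
      have hqp : q = p := by
        have hq0 : (q : ResidueField R) = 0 := by
          have h0 : residue Λ (q : Λ) = 0 :=
            (residue_eq_zero_iff _).2 (hmq ▸ Ideal.mem_span_singleton_self _)
          rw [← map_natCast e q, ← map_natCast (residue Λ) q, h0, map_zero]
        exact ((Nat.prime_dvd_prime_iff_eq hprime hq).1
          ((CharP.cast_eq_zero_iff (ResidueField R) p q).1 hq0)).symm
      subst hqp
      haveI : (Ideal.span {(q : Λ)}).IsMaximal := hmq ▸ IsLocalRing.maximalIdeal.isMaximal Λ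
      have hq0 : (q : Λ) ≠ 0 := fun h0 => by
        refine hdvr.not_a_field' ?_
        rw [hmq, h0]; exact Ideal.span_singleton_eq_bot.2 rfl
      let g₀ : Λ →+* R ⧸ maximalIdeal R ^ (0 + 1) :=
        (Ideal.quotEquivOfEq (pow_one (maximalIdeal R)).symm).toRingHom.comp
          (e.toRingHom.comp (residue Λ))
      obtain ⟨g, hg⟩ := CohenRing.exists_lift_filtration (p := q)
        (fun x hx => (mul_eq_zero.1 hx).resolve_left hq0) (maximalIdeal R)
        (fun n => maximalIdeal R ^ (n + 1)) (fun n => Ideal.pow_le_pow_right (by omega))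
        (fun n => Ideal.pow_le_pow_right (by omega))
        (fun n => by rw [← pow_add]; exact Ideal.pow_le_pow_right (by omega))
        (fun n x hx => by rw [pow_succ' (maximalIdeal R) (n + 1)]; exact Ideal.mul_mem_mul hpm hx) g₀
      refine ⟨Λ, inferInstance, g, fun y => ?_,
        Or.inr ⟨⟨hdom, hdvr, hcomp, q, hq, hmq⟩, q, hq, hp0, hpm,
          fun J hJ => (IsLocalRing.eq_maximalIdeal hJ).trans hmq⟩⟩
      obtain ⟨l, hl⟩ := residue_surjective (e.symm y)
      obtain ⟨c, rfl⟩ := residue_surjective y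
      refine ⟨l, Ideal.Quotient.eq.2 ?_⟩
      have h := hg 1 l c (by
        refine Eq.trans ?_ (congrArg (fun z => Ideal.quotEquivOfEq (pow_one (maximalIdeal R)).symm z)
          (congrArg e hl.symm))
        rw [e.apply_symm_apply]
        exact (Ideal.quotEquivOfEq_mk _ _).symm)
      simpa using h
  · haveI := CharP.charP_to_charZero (ResidueField R)
    obtain ⟨s, hs⟩ := Groth.Calg1.exists_section R
    exact ⟨ResidueField R, inferInstance, s, fun y => ⟨y, RingHom.congr_fun hs y⟩,
      Or.inl (Field.toIsField _)⟩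

section Eval

variable {Λ R : Type u} [CommRing Λ] [CommRing R] [IsLocalRing R]
  [IsAdicComplete (maximalIdeal R) R] {n : ℕ}

/-- Evaluation at elements of the maximal ideal. -/
noncomputable def ev (ι : Λ →+* R) (a : Fin n → R) (ha : ∀ i, a i ∈ maximalIdeal R) :
    MvPowerSeries (Fin n) Λ →+* R :=
  letI := ι.toAlgebra
  (Calg6.evalAdic (k := Λ) (maximalIdeal R) a ha).toRingHom

theorem ev_C (ι : Λ →+* R) (a : Fin n → R) (ha : ∀ i, a i ∈ maximalIdeal R) (l : Λ) :
    ev ι a ha (C l) = ι l :=
  letI := ι.toAlgebra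
  (Calg6.evalAdic (k := Λ) (maximalIdeal R) a ha).commutes l

theorem ev_X (ι : Λ →+* R) (a : Fin n → R) (ha : ∀ i, a i ∈ maximalIdeal R) (i : Fin n) :
    ev ι a ha (X i) = a i :=
  letI := ι.toAlgebra
  Calg6.evalAdic_X (k := Λ) (maximalIdeal R) a ha i

theorem map_varIdeal_ev (ι : Λ →+* R) (a : Fin n → R) (ha : ∀ i, a i ∈ maximalIdeal R) :
    (varIdeal (Fin n) Λ).map (ev ι a ha) = Ideal.span (Set.range a) := by
  rw [varIdeal, Ideal.map_span, ← Set.range_comp]
  congr 1
  exact congrArg Set.range (funext (ev_X ι a ha))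

/-- Complete local rings with finitely generated maximal ideal are quotients of power series rings. -/
theorem surjective_ev (ι : Λ →+* R) (hι : Function.Surjective ((residue R).comp ι))
    (a : Fin n → R) (ha : ∀ i, a i ∈ maximalIdeal R) (hgen : Ideal.span (Set.range a) = maximalIdeal R) :
    Function.Surjective (ev ι a ha) := by
  have hm : (varIdeal (Fin n) Λ).map (ev ι a ha) = maximalIdeal R := (map_varIdeal_ev ι a ha).trans hgen
  haveI : IsHausdorff ((varIdeal (Fin n) Λ).map (ev ι a ha)) R := by rw [hm]; infer_instance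
  refine Calg6.surjective_of_map_varIdeal _ fun x => ?_
  obtain ⟨l, hl⟩ := hι (residue R x)
  refine ⟨l, ?_⟩
  rw [hm, ev_C, ← residue_eq_zero_iff, map_sub, sub_eq_zero]
  exact hl.symm

end Eval

theorem isPrecomplete_pi {P : Type u} [CommRing P] (I : Ideal P) [IsPrecomplete I P] (n : ℕ) :
    IsPrecomplete I (Fin n → P) := by
  classical
  refine ⟨fun f hf => ?_⟩
  have hc : ∀ i : Fin n, ∃ L : P, ∀ m, f m i ≡ L [SMOD (I ^ m • ⊤ : Submodule P P)] := fun i => by
    refine IsPrecomplete.prec' _ fun {m k} hmk => ?_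
    refine ((hf hmk).map (LinearMap.proj i)).mono ?_
    rw [Submodule.map_smul'']
    exact Submodule.smul_mono le_rfl le_top
  choose L hL using hc
  refine ⟨L, fun m => ?_⟩
  rw [SModEq.sub_mem]
  rw [pi_eq_sum_univ (f m - L) (R := P)]
  refine Submodule.sum_mem _ fun i _ => ?_
  refine Submodule.smul_mem_smul ?_ Submodule.mem_top
  have := SModEq.sub_mem.1 (hL i m)
  rwa [smul_eq_mul, Ideal.mul_top] at this

/-- Modules with finite reduction over a complete ring are finite. -/
theorem finite_of_finite_quotient {P R : Type u} [CommRing P] [CommRing R] (I : Ideal P)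
    [IsAdicComplete I P] [Algebra P R] [IsHausdorff (I.map (algebraMap P R)) R]
    [Module.Finite P (R ⧸ I.map (algebraMap P R))] : Module.Finite P R := by
  obtain ⟨n, s, hs⟩ := Module.Finite.exists_fin (R := P) (M := R ⧸ I.map (algebraMap P R))
  choose t ht using fun i => Ideal.Quotient.mk_surjective (s i)
  haveI : IsHausdorff I R := (IsHausdorff.map_algebraMap_iff (I := I) (S := R) (M := R)).1 inferInstance
  haveI := isPrecomplete_pi I n
  let f : (Fin n → P) →ₗ[P] R := Fintype.linearCombination P t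
  refine Module.Finite.of_surjective f (surjective_of_mkQ_comp_surjective (I := I) (f := f) fun y => ?_)
  obtain ⟨y, rfl⟩ := Submodule.mkQ_surjective _ y
  have hy : Ideal.Quotient.mk (I.map (algebraMap P R)) y ∈ Submodule.span P (Set.range s) :=
    hs ▸ Submodule.mem_top
  obtain ⟨c, hc⟩ := (Submodule.mem_span_range_iff_exists_fun P).1 hy
  refine ⟨c, (Submodule.Quotient.eq _).2 ?_⟩
  rw [Ideal.smul_top_eq_map, Submodule.restrictScalars_mem, ← Ideal.Quotient.eq, ← hc]
  simp only [f, Fintype.linearCombination_apply, map_sum, Algebra.smul_def, map_mul, ← ht]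
  rfl

/-- Quotients by ideals containing a power of the maximal ideal are finite over a ring surjecting onto
the residue field. -/
theorem finite_quotient_of_pow_le {Λ R : Type u} [CommRing Λ] [CommRing R] [IsLocalRing R]
    [IsNoetherianRing R] [Algebra Λ R] (hι : Function.Surjective ((residue R).comp (algebraMap Λ R)))
    (J : Ideal R) (N : ℕ) (hN : maximalIdeal R ^ N ≤ J) : Module.Finite Λ (R ⧸ J) := by
  classical
  have key : ∀ N : ℕ, ∃ V : Submodule Λ R, V.FG ∧
      ∀ x : R, ∃ v ∈ V, x - v ∈ maximalIdeal R ^ N := by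
    intro N
    induction N with
    | zero => exact ⟨⊥, Submodule.fg_bot, fun x => ⟨0, zero_mem _, by simp⟩⟩
    | succ N ih =>
      obtain ⟨V, hV, h⟩ := ih
      obtain ⟨G, hG⟩ := (inferInstance : IsNoetherianRing R).noetherian (maximalIdeal R ^ N)
      refine ⟨V ⊔ Submodule.span Λ (G : Set R), hV.sup (Submodule.fg_span G.finite_toSet), fun x => ?_⟩
      obtain ⟨v, hv, hxv⟩ := h x
      suffices hs : ∀ y ∈ maximalIdeal R ^ N, ∃ w ∈ Submodule.span Λ (G : Set R),
          y - w ∈ maximalIdeal R ^ (N + 1) by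
        obtain ⟨w, hw, hw'⟩ := hs _ hxv
        exact ⟨v + w, add_mem (Submodule.mem_sup_left hv) (Submodule.mem_sup_right hw),
          by rwa [← sub_sub]⟩
      intro y hy
      rw [← hG] at hy
      induction hy using Submodule.span_induction with
      | mem g hg => exact ⟨g, Submodule.subset_span hg, by simp⟩
      | zero => exact ⟨0, zero_mem _, by simp⟩
      | add a b _ _ ha hb =>
        obtain ⟨wa, hwa, ha⟩ := ha
        obtain ⟨wb, hwb, hb⟩ := hb
        exact ⟨wa + wb, add_mem hwa hwb, by rw [add_sub_add_comm]; exact add_mem ha hb⟩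
      | smul r a hamem ha =>
        obtain ⟨wa, hwa, ha⟩ := ha
        obtain ⟨l, hl⟩ := hι (residue R r)
        refine ⟨l • wa, Submodule.smul_mem _ l hwa, ?_⟩
        have h1 : r - algebraMap Λ R l ∈ maximalIdeal R := by
          rw [← residue_eq_zero_iff, map_sub, sub_eq_zero]
          exact hl.symm
        have h2 : a ∈ maximalIdeal R ^ N := hG ▸ hamem
        change r * a - l • wa ∈ _
        rw [Algebra.smul_def, show r * a - algebraMap Λ R l * wa =
          (r - algebraMap Λ R l) * a + algebraMap Λ R l * (a - wa) by ring, pow_succ']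
        refine add_mem (Ideal.mul_mem_mul h1 h2) (Ideal.mul_mem_left _ _ ?_)
        rwa [← pow_succ']
  obtain ⟨V, hV, h⟩ := key N
  haveI := Module.Finite.iff_fg.2 hV
  refine Module.Finite.of_surjective ((Ideal.Quotient.mkₐ Λ J).toLinearMap.comp V.subtype) fun y => ?_
  obtain ⟨x, rfl⟩ := Ideal.Quotient.mk_surjective y
  obtain ⟨v, hv, hxv⟩ := h x
  exact ⟨⟨v, hv⟩, (Ideal.Quotient.eq.2 (hN hxv)).symm⟩

/-- Elements cutting out the maximal ideal, as many as the dimension. -/
theorem exists_parameters (R : Type u) [CommRing R] [IsLocalRing R] [IsNoetherianRing R] :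
    ∃ (d : ℕ) (a : Fin d → R), (d : WithBot ℕ∞) ≤ ringKrullDim R ∧ (∀ i, a i ∈ maximalIdeal R) ∧
      ∃ N, maximalIdeal R ^ N ≤ Ideal.span (Set.range a) := by
  classical
  obtain ⟨s, hs, hcard⟩ := (maximalIdeal R).exists_finset_card_eq_height_of_isNoetherianRing
  have hrad : maximalIdeal R ≤ (Ideal.span (s : Set R)).radical := by
    rw [Ideal.radical_eq_sInf]
    refine le_sInf fun q ⟨hq, hqp⟩ => ?_
    exact hs.2 ⟨hqp, hq⟩ (IsLocalRing.le_maximalIdeal hqp.ne_top)
  obtain ⟨N, hN⟩ := Ideal.exists_pow_le_of_le_radical_of_fg hrad (IsNoetherian.noetherian _)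
  refine ⟨s.card, fun i => (s.equivFin.symm i : R), ?_, fun i => ?_, N, hN.trans ?_⟩
  · rw [← IsLocalRing.maximalIdeal_height_eq_ringKrullDim, ← hcard]
    exact le_of_eq (by simp)
  · exact hs.1.2 (Ideal.subset_span (s.equivFin.symm i).2)
  · refine Ideal.span_mono fun x hx => ⟨s.equivFin ⟨x, hx⟩, ?_⟩
    simp

theorem isNoetherianRing_of_coefficient {Λ : Type u} [CommRing Λ]
    (h : IsField Λ ∨ CAlg.IsCohenRing Λ) : IsNoetherianRing Λ ∧ IsDomain Λ ∧ ringKrullDim Λ ≤ 1 := by
  rcases h with hF | ⟨hdom, hdvr, -⟩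
  · letI := hF.toField
    exact ⟨inferInstance, inferInstance, by rw [ringKrullDim_eq_zero_of_field]; exact zero_le_one⟩
  · refine ⟨inferInstance, hdom, ?_⟩
    exact Ring.krullDimLE_iff.1 inferInstance

theorem ringKrullDim_mvPowerSeries_le {Λ : Type u} [CommRing Λ] [IsNoetherianRing Λ] (d : ℕ) :
    ringKrullDim (MvPowerSeries (Fin d) Λ) ≤ ringKrullDim Λ + d := by
  classical
  let s : Finset (MvPowerSeries (Fin d) Λ) := Finset.univ.image X
  have hs : (s : Set (MvPowerSeries (Fin d) Λ)) = Set.range X := by simp [s]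
  have hjac : (s : Set (MvPowerSeries (Fin d) Λ)) ⊆ Ring.jacobson (MvPowerSeries (Fin d) Λ) := by
    rw [← Ideal.jacobson_bot, hs]
    exact fun x hx => IsAdicComplete.le_jacobson_bot (Ideal.span (Set.range X)) (Ideal.subset_span hx)
  refine (ringKrullDim_le_ringKrullDim_quotient_add_card s hjac).trans (add_le_add ?_ ?_)
  · have hker : Ideal.span (s : Set (MvPowerSeries (Fin d) Λ)) =
        RingHom.ker (constantCoeff : MvPowerSeries (Fin d) Λ →+* Λ) := by
      rw [hs]; exact Ega41Adic.varIdeal_eq_ker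
    have hsurj : Function.Surjective (constantCoeff : MvPowerSeries (Fin d) Λ →+* Λ) :=
      fun l => ⟨C l, constantCoeff_C l⟩
    exact le_of_eq (ringKrullDim_eq_of_ringEquiv
      ((Ideal.quotEquivOfEq hker).trans (RingHom.quotientKerEquivOfSurjective hsurj)))
  · have : s.card ≤ d := Finset.card_image_le.trans (by simp)
    exact_mod_cast this

theorem ringKrullDim_le_of_finite_injective {S R : Type u} [CommRing S] [CommRing R] [Algebra S R]
    [Module.Finite S R] : ringKrullDim R ≤ ringKrullDim S := by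
  refine Order.krullDim_le_of_strictMono (fun q => PrimeSpectrum.comap (algebraMap S R) q) fun a b hab => ?_
  exact Ideal.IsIntegral.comap_lt_comap (R := S) hab

/-- Complete Noetherian local domains are finite extensions of power series rings. -/
theorem exists_finite_injective (R : Type u) [CommRing R] [IsDomain R] [IsLocalRing R]
    [IsNoetherianRing R] [IsAdicComplete (maximalIdeal R) R] :
    ∃ (Λ : Type u) (_ : CommRing Λ) (n : ℕ) (f : MvPowerSeries (Fin n) Λ →+* R),
      (IsField Λ ∨ CAlg.IsCohenRing Λ) ∧ Function.Injective f ∧ f.Finite ∧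
      Function.Surjective ((residue R).comp f) := by
  obtain ⟨Λ, _, ι, hι, hcase⟩ := exists_coefficient R
  -- the elements
  obtain ⟨n, a, ha, hfin, hdim⟩ : ∃ (n : ℕ) (a : Fin n → R) (ha : ∀ i, a i ∈ maximalIdeal R),
      (letI := ι.toAlgebra; Module.Finite Λ (R ⧸ Ideal.span (Set.range a))) ∧
        ringKrullDim (MvPowerSeries (Fin n) Λ) ≤ ringKrullDim R := by
    letI := ι.toAlgebra
    rcases hcase with hF | ⟨hC, p, hp, hp0, hpm, hmax⟩
    · obtain ⟨d, a, hd, ha, N, hN⟩ := exists_parameters R
      refine ⟨d, a, ha, finite_quotient_of_pow_le hι _ N hN, ?_⟩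
      letI := hF.toField
      exact ((ringKrullDim_mvPowerSeries_le (Λ := Λ) d).trans
        (by rw [ringKrullDim_eq_zero_of_field, zero_add])).trans hd
    · obtain ⟨hnoeth, -, hdimΛ⟩ := isNoetherianRing_of_coefficient (Or.inr hC)
      let π := Ideal.Quotient.mk (Ideal.span {(p : R)})
      haveI : Nontrivial (R ⧸ Ideal.span {(p : R)}) :=
        Ideal.Quotient.nontrivial_iff.2 fun h => (maximalIdeal.isMaximal R).ne_top
          (top_le_iff.1 (h ▸ (Ideal.span_singleton_le_iff_mem _).2 hpm))
      haveI : IsLocalRing (R ⧸ Ideal.span {(p : R)}) :=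
        IsLocalRing.of_surjective' π Ideal.Quotient.mk_surjective
      obtain ⟨d, b, hd, hb, N, hN⟩ := exists_parameters (R ⧸ Ideal.span {(p : R)})
      choose a hab using fun i => Ideal.Quotient.mk_surjective (b i)
      have ha : ∀ i, a i ∈ maximalIdeal R := fun i => by
        intro hu
        exact hb i (hab i ▸ hu.map π)
      refine ⟨d, a, ha, ?_, ?_⟩
      · obtain ⟨hdom, hdvr, hcomp, q, hq, hmq⟩ := hC
        let Q := R ⧸ Ideal.span (Set.range a)
        haveI : IsAdicComplete (maximalIdeal Λ) Λ := hcomp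
        haveI : Nontrivial Q := Ideal.Quotient.nontrivial_iff.2 fun h =>
          (maximalIdeal.isMaximal R).ne_top (top_le_iff.1 (h ▸ Ideal.span_le.2 (by rintro _ ⟨i, rfl⟩; exact ha i)))
        haveI : IsLocalRing Q := IsLocalRing.of_surjective' (Ideal.Quotient.mk _) Ideal.Quotient.mk_surjective
        have hmΛ : maximalIdeal Λ = Ideal.span {(p : Λ)} := hmax _ (maximalIdeal.isMaximal Λ)
        have hmap : (maximalIdeal Λ).map (algebraMap Λ Q) = Ideal.span {(p : Q)} := by
          rw [hmΛ, Ideal.map_span, Set.image_singleton, map_natCast]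
        haveI : IsHausdorff ((maximalIdeal Λ).map (algebraMap Λ Q)) Q := by
          refine IsHausdorff.of_le_jacobson _ _ ?_
          rw [IsLocalRing.jacobson_eq_maximalIdeal _ bot_ne_top, hmap, Ideal.span_singleton_le_iff_mem]
          intro hu
          obtain ⟨y, hy⟩ := hu.exists_right_inv
          obtain ⟨y, rfl⟩ := Ideal.Quotient.mk_surjective y
          rw [← map_natCast (Ideal.Quotient.mk (Ideal.span (Set.range a))), ← map_mul,
            ← map_one (Ideal.Quotient.mk (Ideal.span (Set.range a))), Ideal.Quotient.eq] at hy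
          have h1 := (Ideal.span_le.2 (by rintro _ ⟨i, rfl⟩; exact ha i) : Ideal.span (Set.range a) ≤ maximalIdeal R) hy
          have h2 : (p : R) * y ∈ maximalIdeal R := Ideal.mul_mem_right _ _ hpm
          exact (maximalIdeal.isMaximal R).ne_top ((Ideal.eq_top_iff_one _).2 (by simpa using sub_mem h2 h1))
        haveI : Module.Finite Λ (Q ⧸ (maximalIdeal Λ).map (algebraMap Λ Q)) := by
          have hle : maximalIdeal R ^ N ≤ Ideal.span {(p : R)} ⊔ Ideal.span (Set.range a) := by
            have h1 : (maximalIdeal R ^ N).map π ≤ (Ideal.span (Set.range a)).map π := by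
              rw [Ideal.map_pow, Ideal.map_span, ← Set.range_comp, show π ∘ a = b from funext hab]
              refine (Ideal.pow_right_mono ?_ N).trans hN
              exact IsLocalRing.le_maximalIdeal
                (fun h => (maximalIdeal.isMaximal R).ne_top (by
                  have := Ideal.comap_map_of_surjective π Ideal.Quotient.mk_surjective (maximalIdeal R)
                  rw [h, Ideal.comap_top, ← RingHom.ker_eq_comap_bot, Ideal.mk_ker,
                    sup_eq_left.2 ((Ideal.span_singleton_le_iff_mem _).2 hpm)] at this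
                  exact this.symm))
            rw [Ideal.map_le_iff_le_comap, Ideal.comap_map_of_surjective π Ideal.Quotient.mk_surjective,
              ← RingHom.ker_eq_comap_bot, Ideal.mk_ker, sup_comm] at h1
            exact h1
          haveI := finite_quotient_of_pow_le (Λ := Λ) hι _ N hle
          let ψ : (R ⧸ (Ideal.span {(p : R)} ⊔ Ideal.span (Set.range a))) →ₐ[Λ]
              Q ⧸ (maximalIdeal Λ).map (algebraMap Λ Q) :=
            Ideal.Quotient.liftₐ _ ((Ideal.Quotient.mkₐ Λ _).comp (Ideal.Quotient.mkₐ Λ _)) (fun x hx => by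
              rw [AlgHom.comp_apply, Ideal.Quotient.mkₐ_eq_mk, Ideal.Quotient.mkₐ_eq_mk, Ideal.Quotient.eq_zero_iff_mem, hmap]
              have := Ideal.mem_map_of_mem (Ideal.Quotient.mk (Ideal.span (Set.range a))) hx
              rw [Ideal.map_sup, Ideal.map_span, Set.image_singleton, Ideal.map_quotient_self, sup_bot_eq, map_natCast] at this
              exact this)
          refine Module.Finite.of_surjective ψ.toLinearMap fun y => ?_
          obtain ⟨y, rfl⟩ := Ideal.Quotient.mk_surjective y
          obtain ⟨y, rfl⟩ := Ideal.Quotient.mk_surjective y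
          exact ⟨Ideal.Quotient.mk _ y, rfl⟩
        exact finite_of_finite_quotient (maximalIdeal Λ)
      · have h1 : ringKrullDim (R ⧸ Ideal.span {(p : R)}) + 1 ≤ ringKrullDim R :=
          ringKrullDim_quotient_succ_le_of_nonZeroDivisor (mem_nonZeroDivisors_of_ne_zero hp0)
        refine le_trans (ringKrullDim_mvPowerSeries_le (Λ := Λ) d) (le_trans ?_ h1)
        rw [add_comm (ringKrullDim _) 1]
        exact add_le_add hdimΛ hd
  letI := (ev ι a ha).toAlgebra
  letI := ι.toAlgebra
  haveI : IsScalarTower Λ (MvPowerSeries (Fin n) Λ) R :=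
    IsScalarTower.of_algebraMap_eq fun l => (ev_C ι a ha l).symm
  have hI : (varIdeal (Fin n) Λ).map (algebraMap (MvPowerSeries (Fin n) Λ) R) = Ideal.span (Set.range a) :=
    map_varIdeal_ev ι a ha
  haveI : IsHausdorff ((varIdeal (Fin n) Λ).map (algebraMap (MvPowerSeries (Fin n) Λ) R)) R := by
    refine IsHausdorff.of_le_jacobson _ _ ?_
    rw [IsLocalRing.jacobson_eq_maximalIdeal _ bot_ne_top, hI, Ideal.span_le]
    rintro _ ⟨i, rfl⟩; exact ha i
  haveI : IsAdicComplete (varIdeal (Fin n) Λ) (MvPowerSeries (Fin n) Λ) := Calg6.isAdicComplete_varIdeal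
  haveI : Module.Finite Λ (R ⧸ (varIdeal (Fin n) Λ).map (algebraMap (MvPowerSeries (Fin n) Λ) R)) := by
    rw [hI]; exact hfin
  haveI : Module.Finite (MvPowerSeries (Fin n) Λ)
      (R ⧸ (varIdeal (Fin n) Λ).map (algebraMap (MvPowerSeries (Fin n) Λ) R)) :=
    Module.Finite.of_restrictScalars_finite Λ _ _
  haveI hfinR : Module.Finite (MvPowerSeries (Fin n) Λ) R := finite_of_finite_quotient (varIdeal (Fin n) Λ)
  have hcase' : IsField Λ ∨ CAlg.IsCohenRing Λ := hcase.imp_right And.left
  refine ⟨Λ, inferInstance, n, ev ι a ha, hcase', ?_, hfinR, fun y => ?_⟩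
  · obtain ⟨hnoeth, hdom, -⟩ := isNoetherianRing_of_coefficient hcase'
    by_contra hni
    obtain ⟨z, hz, hz0⟩ : ∃ z, z ∈ RingHom.ker (ev ι a ha) ∧ z ≠ 0 := by
      by_contra! h
      exact hni ((injective_iff_map_eq_zero _).2 fun z hz => h z hz)
    have h1 : ringKrullDim (MvPowerSeries (Fin n) Λ ⧸ RingHom.ker (ev ι a ha)) + 1 ≤
        ringKrullDim (MvPowerSeries (Fin n) Λ) :=
      le_trans (add_le_add_left (ringKrullDim_le_of_surjective
        (Ideal.Quotient.factor ((Ideal.span_singleton_le_iff_mem _).2 hz)) (Ideal.Quotient.factor_surjective _)) 1)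
        (ringKrullDim_quotient_succ_le_of_nonZeroDivisor (mem_nonZeroDivisors_of_ne_zero hz0))
    letI : Algebra (MvPowerSeries (Fin n) Λ ⧸ RingHom.ker (ev ι a ha)) R :=
      (RingHom.kerLift (ev ι a ha)).toAlgebra
    haveI : Module.Finite (MvPowerSeries (Fin n) Λ ⧸ RingHom.ker (ev ι a ha)) R :=
      RingHom.Finite.of_comp_finite (f := Ideal.Quotient.mk (RingHom.ker (ev ι a ha)))
        (g := RingHom.kerLift (ev ι a ha)) hfinR
    have h2 : ringKrullDim R ≤ ringKrullDim (MvPowerSeries (Fin n) Λ ⧸ RingHom.ker (ev ι a ha)) :=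
      ringKrullDim_le_of_finite_injective
    obtain ⟨d, hd⟩ : ∃ d : ℕ, ringKrullDim R = d := by
      have h0 : 0 ≤ ringKrullDim R := ringKrullDim_nonneg_of_nontrivial
      have hlt : ringKrullDim R ≠ ⊤ := ringKrullDim_ne_top
      generalize hx : ringKrullDim R = x at h0 hlt
      match x, h0, hlt with
      | ⊥, h0, _ => simp at h0
      | ((⊤ : ℕ∞) : WithBot ℕ∞), _, hlt => exact absurd rfl hlt
      | (((d : ℕ) : ℕ∞) : WithBot ℕ∞), _, _ => exact ⟨d, rfl⟩
    have := (add_le_add_left h2 1).trans (h1.trans hdim)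
    rw [hd] at this
    have : d + 1 ≤ d := by exact_mod_cast this
    omega
  · obtain ⟨l, hl⟩ := hι y
    exact ⟨C l, by rw [RingHom.comp_apply, ev_C]; exact hl⟩

end Groth.Calg2.CompleteStructure
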