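import Groth.Agent.Limits.ProConsImage
import Mathlib.AlgebraicGeometry.Morphisms.FinitePresentation

/-!
# Criteria for pro-constructible and ind-constructible subsets of schemes
-/

universe u

open CategoryTheory Limits AlgebraicGeometry Topology Groth.Limits

namespace Groth.Calg2.ProCons

variable {X Y : Scheme.{u}}

theorem isConstructible_of_isCompact [CompactSpace X] [QuasiSeparatedSpace X] {U : Set X}
    (hU : IsOpen U) (hUc : IsCompact U) : IsConstructible U :=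
  (show IsRetrocompact U from fun V hVc hVo => QuasiSeparatedSpace.inter_isCompact _ _ hU hUc hVo hVc).isConstructible hU

/-- A subset which is `PC` on a qcqs scheme is separated from each point outside by a constructible. -/
theorem exists_constructible_sep [CompactSpace X] [QuasiSeparatedSpace X] {E : Set X} (hE : PC E)
    {p : X} (hp : p ∉ E) : ∃ T : Set X, IsConstructible T ∧ E ⊆ T ∧ p ∉ T := by
  let κ := {T : Set X // IsConstructible T ∧ p ∈ T}
  have : Nonempty κ := ⟨⟨Set.univ, by simpa using IsConstructible.empty.compl, trivial⟩⟩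
  by_contra H
  push Not at H
  obtain ⟨y, hy⟩ := nonempty_iInter_of_directed (fun T : κ => E ∩ T.1)
    (fun T => hE.inter (pc_of_isConstructible T.2.1))
    (fun S T => ⟨⟨S.1 ∩ T.1, S.2.1.inter T.2.1, S.2.2, T.2.2⟩,
      fun z hz => ⟨hz.1, hz.2.1⟩, fun z hz => ⟨hz.1, hz.2.2⟩⟩)
    (fun T => by
      by_contra hne
      refine (H T.1ᶜ T.2.1.compl (fun z hz hzT => hne ⟨z, hz, hzT⟩)) T.2.2)
  rw [Set.mem_iInter] at hy
  have hyE : y ∈ E := (hy (Classical.arbitrary κ)).1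
  have hne : p ≠ y := fun h => hp (h ▸ hyE)
  rcases not_and_or.1 (fun h : p ⤳ y ∧ y ⤳ p => hne (h.1.antisymm h.2).eq) with h | h
  all_goals
    rw [specializes_iff_forall_open] at h
    push Not at h
    obtain ⟨O, hO, h1, h2⟩ := h
  · obtain ⟨V, ⟨hV₁, hV₂⟩, hyV, hVO⟩ :=
      PrespectralSpace.isTopologicalBasis.exists_subset_of_mem_open h1 hO
    exact (hy ⟨Vᶜ, (isConstructible_of_isCompact hV₁ hV₂).compl, fun hh => h2 (hVO hh)⟩).2 hyV
  · obtain ⟨V, ⟨hV₁, hV₂⟩, hpV, hVO⟩ :=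
      PrespectralSpace.isTopologicalBasis.exists_subset_of_mem_open h1 hO
    exact h2 (hVO (hy ⟨V, isConstructible_of_isCompact hV₁ hV₂, hpV⟩).2)

theorem eq_sInter_of_pc [CompactSpace X] [QuasiSeparatedSpace X] {E : Set X} (hE : PC E) :
    E = ⋂₀ {T : Set X | IsConstructible T ∧ E ⊆ T} := by
  refine Set.Subset.antisymm (Set.subset_sInter fun T hT => hT.2) fun y hy => ?_
  by_contra h
  obtain ⟨T, hT, hET, hyT⟩ := exists_constructible_sep hE h
  exact hyT (hy T ⟨hT, hET⟩)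

theorem isProConstructible_of_pc {E : Set X} (hE : PC E) : ProCons.IsProConstructible E := by
  intro x
  obtain ⟨W, hW, hxW, -⟩ := exists_isAffineOpen_mem_and_subset (U := ⊤) (Set.mem_univ x)
  have : IsAffine W.toScheme := hW
  exact ⟨(W : Set X), W.isOpen, hxW, {T : Set W.toScheme | IsConstructible T ∧ ⇑W.ι ⁻¹' E ⊆ T},
    fun T hT => (hT.1 : IsConstructible T).isLocallyConstructible, eq_sInter_of_pc (hE.preimage W.ι)⟩

theorem isProConstructible_sInter (S : Set (Set X)) (hS : ∀ s ∈ S, IsConstructible s) :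
    ProCons.IsProConstructible (⋂₀ S) := fun x =>
  ⟨Set.univ, isOpen_univ, trivial, (fun s => (Subtype.val ⁻¹' s : Set ↥(Set.univ : Set X))) '' S, by
    rintro _ ⟨s, hs, rfl⟩
    exact ((hS s hs).preimage_of_isOpenEmbedding isOpen_univ.isOpenEmbedding_subtypeVal).isLocallyConstructible,
    by ext y; simp⟩

theorem pc_of_qcImage [QuasiSeparatedSpace X] {E : Set X} (hE : QCImage E) : PC E := by
  intro W hW
  have : CompactSpace W.toScheme := isCompact_iff_compactSpace.mp hW.isCompact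
  simpa [Scheme.Opens.range_ι] using hE.inter_range W.ι

theorem pc_image (f : X ⟶ Y) [QuasiCompact f] {E : Set X} (hE : PC E) : PC (f '' E) := by
  intro W hW
  have h := (hE.qcImage_inter_isCompact (f ⁻¹ᵁ W) (f.isCompact_preimage hW.isCompact)).image f
  rwa [show (↑(f ⁻¹ᵁ W) : Set X) = f ⁻¹' (W : Set Y) from rfl, Set.image_inter_preimage] at h

/-- An ind-constructible subset contains, around each of its points and in arbitrarily small affine
opens, a constructible subset. -/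
theorem exists_constructible_of_ind {E : Set X} (hE : ProCons.IsIndConstructible E) {x : X} (hx : x ∈ E)
    (O : X.Opens) (hxO : x ∈ O) :
    ∃ W : X.Opens, IsAffineOpen W ∧ W ≤ O ∧ ∃ y : W.toScheme, W.ι y = x ∧
      ∃ T : Set W.toScheme, IsConstructible T ∧ y ∈ T ∧ T ⊆ ⇑W.ι ⁻¹' E := by
  obtain ⟨U, hU, hxU, S, hS, hEU⟩ := hE x
  obtain ⟨W, hW, hxW, hWU⟩ := exists_isAffineOpen_mem_and_subset (U := (⟨U, hU⟩ : X.Opens) ⊓ O) ⟨hxU, hxO⟩
  have : IsAffine W.toScheme := hW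
  let j : W.toScheme → U := fun y => ⟨y.1, (hWU y.2).1⟩
  have hj : IsOpenEmbedding j :=
    IsOpenEmbedding.of_comp _ hU.isOpenEmbedding_subtypeVal W.ι.isOpenEmbedding
  obtain ⟨T, hT, hxT⟩ : (⟨x, hxU⟩ : U) ∈ ⋃₀ S := hEU ▸ hx
  refine ⟨W, hW, fun z hz => (hWU hz).2, ⟨x, hxW⟩, rfl, j ⁻¹' T,
    ((hS T hT).preimage_of_isOpenEmbedding hj).isConstructible, hxT, fun z hz => ?_⟩
  have h1 : j z ∈ (Subtype.val ⁻¹' E : Set U) := hEU ▸ ⟨T, hT, hz⟩
  exact h1

/-- Criterion for ind-constructibility. -/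
theorem isIndConstructible_of {E : Set X}
    (h : ∀ V : X.Opens, IsAffineOpen V → ∀ y : V.toScheme, V.ι y ∈ E →
      ∃ T : Set V.toScheme, IsConstructible T ∧ y ∈ T ∧ T ⊆ ⇑V.ι ⁻¹' E) :
    ProCons.IsIndConstructible E := by
  intro x
  obtain ⟨V, hV, hxV, -⟩ := exists_isAffineOpen_mem_and_subset (U := ⊤) (Set.mem_univ x)
  refine ⟨(V : Set X), V.isOpen, hxV, {T : Set V.toScheme | IsConstructible T ∧ T ⊆ ⇑V.ι ⁻¹' E},
    fun T hT => (hT.1 : IsConstructible T).isLocallyConstructible, ?_⟩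
  refine Set.Subset.antisymm (fun y hy => ?_) (Set.sUnion_subset fun T hT => hT.2)
  obtain ⟨T, hT, hyT, hTE⟩ := h V hV y hy
  exact ⟨T, ⟨hT, hTE⟩, hyT⟩

theorem isIndConstructible_image (f : X ⟶ Y) [LocallyOfFinitePresentation f] {E : Set X}
    (hE : ProCons.IsIndConstructible E) : ProCons.IsIndConstructible (f '' E) := by
  refine isIndConstructible_of fun V hV y hy => ?_
  obtain ⟨x, hxE, hxy⟩ := hy
  have hxV : x ∈ f ⁻¹ᵁ V := by
    show f x ∈ V
    rw [hxy]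
    exact y.2
  obtain ⟨W, hW, hWV, w, hw, T, hT, hwT, hTE⟩ := exists_constructible_of_ind hE hxE _ hxV
  have : IsAffine W.toScheme := hW
  have : IsAffine V.toScheme := hV
  refine ⟨f.resLE V W hWV '' T, (f.resLE V W hWV).isConstructible_image hT, ⟨w, hwT, ?_⟩, ?_⟩
  · refine V.ι.isOpenEmbedding.injective ?_
    rw [← Scheme.Hom.comp_apply, Scheme.Hom.resLE_comp_ι, Scheme.Hom.comp_apply, hw, hxy]
  · rintro _ ⟨z, hz, rfl⟩
    exact ⟨W.ι z, hTE hz, (Scheme.Hom.comp_apply _ _ _).symm.trans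
      ((congr($(Scheme.Hom.resLE_comp_ι f hWV) z)).symm.trans (Scheme.Hom.comp_apply _ _ _))⟩

/-- An ind-constructible set containing all generizations of a point is a neighbourhood of it. -/
theorem mem_interior_of_generizations {E : Set X} (hE : ProCons.IsIndConstructible E) {x : X}
    (h : ∀ x', x' ⤳ x → x' ∈ E) : x ∈ interior E := by
  obtain ⟨W, hW, hxW, -⟩ := exists_isAffineOpen_mem_and_subset (U := ⊤) (Set.mem_univ x)
  have : IsAffine W.toScheme := hW
  let κ := {V : Set W.toScheme // IsOpen V ∧ IsCompact V ∧ (⟨x, hxW⟩ : W.toScheme) ∈ V}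
  have : Nonempty κ := ⟨⟨Set.univ, isOpen_univ, isCompact_univ, trivial⟩⟩
  have hpc : PC (⇑W.ι ⁻¹' E)ᶜ := by
    rw [← Set.preimage_compl]
    exact (pc_compl_of_isIndConstructible hE).preimage W.ι
  by_contra hx
  obtain ⟨y, hy⟩ := nonempty_iInter_of_directed (fun V : κ => (⇑W.ι ⁻¹' E)ᶜ ∩ V.1)
    (fun V => hpc.inter (pc_of_isConstructible (isConstructible_of_isCompact V.2.1 V.2.2.1)))
    (fun S T => ⟨⟨S.1 ∩ T.1, S.2.1.inter T.2.1,
        QuasiSeparatedSpace.inter_isCompact _ _ S.2.1 S.2.2.1 T.2.1 T.2.2.1, S.2.2.2, T.2.2.2⟩,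
      fun z hz => ⟨hz.1, hz.2.1⟩, fun z hz => ⟨hz.1, hz.2.2⟩⟩)
    (fun V => by
      by_contra hne
      refine hx (mem_interior.2 ⟨⇑W.ι '' V.1, ?_, W.ι.isOpenEmbedding.isOpenMap _ V.2.1,
        ⟨⟨x, hxW⟩, V.2.2.2, rfl⟩⟩)
      rintro _ ⟨z, hz, rfl⟩
      exact by_contra fun hzE => hne ⟨z, hzE, hz⟩)
  rw [Set.mem_iInter] at hy
  refine (hy (Classical.arbitrary κ)).1 (h _ ?_)
  have hyx : y ⤳ (⟨x, hxW⟩ : W.toScheme) := by
    rw [specializes_iff_forall_open]
    intro O hO hxO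
    obtain ⟨V, ⟨hV₁, hV₂⟩, hxV, hVO⟩ :=
      PrespectralSpace.isTopologicalBasis.exists_subset_of_mem_open hxO hO
    exact hVO (hy ⟨V, hV₁, hV₂, hxV⟩).2
  exact hyx.map W.ι.continuous

/-- A morphism open at a point lifts generizations of its image. -/
theorem exists_specializes_of_image_mem_nhds (f : X ⟶ Y) {x : X}
    (h : ∀ U ∈ nhds x, f '' U ∈ nhds (f x)) {y' : Y} (hy' : y' ⤳ f x) :
    ∃ x' : X, x' ⤳ x ∧ f x' = y' := by
  obtain ⟨W, hW, hxW, -⟩ := exists_isAffineOpen_mem_and_subset (U := ⊤) (Set.mem_univ x)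
  have : IsAffine W.toScheme := hW
  have hpt : PC ({y'} : Set Y) := by
    refine pc_of_exists_nhds fun y => ?_
    obtain ⟨U, hU, hyU, -⟩ := exists_isAffineOpen_mem_and_subset (U := ⊤) (Set.mem_univ y)
    refine ⟨U, hU, hyU, ?_⟩
    by_cases hyy : y' ∈ U
    · rw [Set.inter_eq_left.2 (Set.singleton_subset_iff.2 hyy), ← Scheme.range_fromSpecResidueField]
      exact qcImage_range _
    · rw [show ({y'} : Set Y) ∩ (U : Set Y) = ∅ from Set.singleton_inter_eq_empty.2 hyy]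
      exact qcImage_empty
  let F : Set W.toScheme := ⇑(W.ι ≫ f) ⁻¹' {y'}
  let κ := {V : Set W.toScheme // IsOpen V ∧ IsCompact V ∧ (⟨x, hxW⟩ : W.toScheme) ∈ V}
  have : Nonempty κ := ⟨⟨Set.univ, isOpen_univ, isCompact_univ, trivial⟩⟩
  obtain ⟨z, hz⟩ := nonempty_iInter_of_directed (fun V : κ => F ∩ V.1)
    (fun V => (hpt.preimage _).inter (pc_of_isConstructible (isConstructible_of_isCompact V.2.1 V.2.2.1)))
    (fun S T => ⟨⟨S.1 ∩ T.1, S.2.1.inter T.2.1,
        QuasiSeparatedSpace.inter_isCompact _ _ S.2.1 S.2.2.1 T.2.1 T.2.2.1, S.2.2.2, T.2.2.2⟩,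
      fun z hz => ⟨hz.1, hz.2.1⟩, fun z hz => ⟨hz.1, hz.2.2⟩⟩)
    (fun V => by
      have h1 := h (⇑W.ι '' V.1) ((W.ι.isOpenEmbedding.isOpenMap _ V.2.1).mem_nhds ⟨⟨x, hxW⟩, V.2.2.2, rfl⟩)
      obtain ⟨O, hO, hOo, hxO⟩ := mem_nhds_iff.1 h1
      obtain ⟨_, ⟨z, hz, rfl⟩, hzy⟩ := hO (hy'.mem_open hOo hxO)
      exact ⟨z, by simpa [F] using hzy, hz⟩)
  rw [Set.mem_iInter] at hz
  refine ⟨W.ι z, ?_, by simpa [F] using (hz (Classical.arbitrary κ)).1⟩
  have hzx : z ⤳ (⟨x, hxW⟩ : W.toScheme) := by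
    rw [specializes_iff_forall_open]
    intro O hO hxO
    obtain ⟨V, ⟨hV₁, hV₂⟩, hxV, hVO⟩ :=
      PrespectralSpace.isTopologicalBasis.exists_subset_of_mem_open hxO hO
    exact hVO (hz ⟨V, hV₁, hV₂, hxV⟩).2
  exact hzx.map W.ι.continuous

end Groth.Calg2.ProCons
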