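import Groth.Agent.SpectralTopology.SpreadQuasiAffine
import Groth.Agent.Limits.IsoDescent
import Groth.Agent.Calg2.ProConsCriteria
import Groth.Agent.S4599
import Groth.Agent.SpectralTopology.FpCancel

/-!
# EGA IV 8.10.5 over quasi-compact quasi-separated (not necessarily Noetherian) stages
-/

set_option autoImplicit false
set_option backward.isDefEq.respectTransparency false

universe u

open AlgebraicGeometry CategoryTheory CategoryTheory.Limits Topology

namespace Groth.Calg2.DescendProps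

open Groth.SpectralTopology (prop_snd_snd_iff exists_isPullback_fst_self mono_iff_isIso_fst_self)

/-- `Q` descends along limit systems with affine transition maps, for morphisms of finite
presentation into a quasi-compact quasi-separated stage. -/
def BaseDesc (Q : MorphismProperty Scheme.{u}) : Prop :=
  ∀ {I : Type u} [SmallCategory I] [IsCofiltered I] (D : I ⥤ Scheme.{u}) (c : Cone D)
    (_ : IsLimit c) [∀ (i j : I) (a : i ⟶ j), IsAffineHom (D.map a)]
    {i : I} [CompactSpace (D.obj i)] [QuasiSeparatedSpace (D.obj i)]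
    {X₀ : Scheme.{u}} (f₀ : X₀ ⟶ D.obj i)
    [LocallyOfFinitePresentation f₀] [QuasiCompact f₀] [QuasiSeparated f₀],
    Q (pullback.snd f₀ (c.π.app i)) → ∃ (j : I) (φ : j ⟶ i), Q (pullback.snd f₀ (D.map φ))

variable {I : Type u} [SmallCategory I] [IsCofiltered I] {D : I ⥤ Scheme.{u}} {c : Cone D}
  [∀ (i j : I) (a : i ⟶ j), IsAffineHom (D.map a)] (hc : IsLimit c) {i₀ : I}
  [CompactSpace (D.obj i₀)] [QuasiSeparatedSpace (D.obj i₀)] {X₀ Y₀ : Scheme.{u}} (f₀ : X₀ ⟶ Y₀)
  (g₀ : Y₀ ⟶ D.obj i₀) [LocallyOfFinitePresentation g₀] [QuasiCompact g₀] [QuasiSeparated g₀]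
  [LocallyOfFinitePresentation (f₀ ≫ g₀)] [QuasiCompact (f₀ ≫ g₀)] [QuasiSeparated (f₀ ≫ g₀)]
  {X Y : Scheme.{u}} {f : X ⟶ Y} {g : Y ⟶ c.pt} {qY : Y ⟶ Y₀} {qX : X ⟶ X₀}

include hc in
/-- The form of the milestones. -/
theorem exists_stage {Q : MorphismProperty Scheme.{u}} [Q.RespectsIso] (h : BaseDesc Q)
    (hY : IsPullback qY g g₀ (c.π.app i₀)) (hX : IsPullback qX f f₀ qY) (hQ : Q f) :
    ∃ (i : I) (φ : i ⟶ i₀) (Xi Yi : Scheme.{u}) (fi : Xi ⟶ Yi) (gi : Yi ⟶ D.obj i) (pY : Yi ⟶ Y₀)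
      (pX : Xi ⟶ X₀), IsPullback pY gi g₀ (D.map φ) ∧ IsPullback pX fi f₀ pY ∧ Q fi := by
  have : LocallyOfFinitePresentation f₀ := Groth.SpectralTopology.lfp_of_comp f₀ g₀
  have : QuasiCompact f₀ := QuasiCompact.of_comp f₀ g₀
  have : QuasiSeparated f₀ := QuasiSeparated.of_comp f₀ g₀
  let E := Groth.Limits.pullbackDiagram D i₀ g₀
  let k₀ : Over i₀ := Over.mk (𝟙 i₀)
  have : CompactSpace (E.obj k₀) :=
    have : CompactSpace (D.obj k₀.left) := inferInstanceAs (CompactSpace (D.obj i₀))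
    QuasiCompact.compactSpace_of_compactSpace (pullback.fst (D.map k₀.hom) g₀)
  have : QuasiSeparatedSpace (E.obj k₀) :=
    have : QuasiSeparatedSpace (D.obj k₀.left) := inferInstanceAs (QuasiSeparatedSpace (D.obj i₀))
    quasiSeparatedSpace_of_quasiSeparated (pullback.fst (D.map k₀.hom) g₀)
  let p : E.obj k₀ ⟶ Y₀ := pullback.snd (D.map (𝟙 i₀)) g₀
  have hp : (Groth.Limits.pullbackCone D i₀ g₀ c).π.app k₀ ≫ p = pullback.snd (c.π.app i₀) g₀ :=
    pullback.lift_snd _ _ _
  have hQ' : Q (pullback.snd (pullback.snd f₀ p)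
      ((Groth.Limits.pullbackCone D i₀ g₀ c).π.app k₀)) := by
    rw [prop_snd_snd_iff Q, hp]
    exact Groth.Limits.prop_snd_of_isPullback Q hY hX hQ
  obtain ⟨k, ψ, hk⟩ := h E (Groth.Limits.pullbackCone D i₀ g₀ c)
    (Groth.Limits.isLimitPullbackCone D i₀ g₀ hc) (pullback.snd f₀ p) hQ'
  rw [prop_snd_snd_iff Q] at hk
  have hψ : E.map ψ ≫ p = pullback.snd (D.map k.hom) g₀ := pullback.lift_snd _ _ _
  rw [hψ] at hk
  exact ⟨k.left, k.hom, _, _, _, pullback.fst _ _, pullback.snd _ _, pullback.fst _ _,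
    (IsPullback.of_hasPullback _ _).flip, IsPullback.of_hasPullback _ _, hk⟩

/-- A set all of whose preimage is everything in the limit is everything at a stage. -/
theorem exists_preimage_univ {I : Type u} [SmallCategory I] [IsCofiltered I] (D : I ⥤ Scheme.{u})
    (c : Cone D) (hc : IsLimit c) [∀ (i j : I) (a : i ⟶ j), IsAffineHom (D.map a)] {i : I}
    [CompactSpace (D.obj i)] {F : Set (D.obj i)} (hF : Groth.Limits.PC Fᶜ)
    (h : ∀ x, c.π.app i x ∈ F) : ∃ (j : I) (φ : j ⟶ i), ∀ t, D.map φ t ∈ F := by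
  obtain ⟨j, φ, hj⟩ := Groth.Limits.exists_preimage_subset D c hc (E := Set.univ) (F := F)
    Groth.Limits.pc_univ.qcImage hF (fun x _ ↦ h x)
  exact ⟨j, φ, fun t => hj (show t ∈ ⇑(D.map φ) ⁻¹' Set.univ from trivial)⟩

theorem baseDesc_mono : BaseDesc.{u} (MorphismProperty.monomorphisms Scheme.{u}) := by
  intro I _ _ D c hc _ i _ _ X₀ f₀ _ _ _ h
  have hmono : Mono (pullback.snd f₀ (c.π.app i)) := h
  have : CompactSpace X₀ := QuasiCompact.compactSpace_of_compactSpace f₀
  obtain ⟨m, hm⟩ := exists_isPullback_fst_self f₀ (c.π.app i)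
  have : IsIso (pullback.fst (pullback.snd f₀ (c.π.app i)) (pullback.snd f₀ (c.π.app i))) :=
    (mono_iff_isIso_fst_self _).1 hmono
  obtain ⟨j, hj⟩ := Groth.Limits.exists_isIso_stage (f₀ := pullback.fst f₀ f₀) (g₀ := f₀)
    (g := pullback.snd f₀ (c.π.app i)) hc (IsPullback.of_hasPullback _ _) hm
  refine ⟨j.left, j.hom, (mono_iff_isIso_fst_self _).2 ?_⟩
  obtain ⟨m', hm'⟩ := exists_isPullback_fst_self f₀ (D.map j.hom)
  replace hm' : IsPullback m' (pullback.fst (pullback.snd f₀ (D.map j.hom)) (pullback.snd f₀ (D.map j.hom)))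
      (pullback.fst f₀ f₀) ((pullbackSymmetry f₀ (D.map j.hom)).hom ≫ pullback.snd (D.map j.hom) f₀) := by
    rw [pullbackSymmetry_hom_comp_snd]; exact hm'
  let s := IsPullback.of_hasPullback (pullback.fst f₀ f₀) (pullback.snd (D.map j.hom) f₀)
  have sq := IsPullback.of_right (h₁₁ := s.lift m' (pullback.fst (pullback.snd f₀ (D.map j.hom))
    (pullback.snd f₀ (D.map j.hom)) ≫ (pullbackSymmetry f₀ (D.map j.hom)).hom)
      (by rw [hm'.w, Category.assoc])) (by rw [s.lift_fst]; exact hm') (s.lift_snd _ _ _) s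
  exact MorphismProperty.of_isPullback (P := MorphismProperty.isomorphisms Scheme.{u}) sq hj

theorem baseDesc_isOpenImmersion : BaseDesc.{u} @IsOpenImmersion := by
  intro I _ _ D c hc _ i _ _ X₀ f₀ _ _ _ h
  obtain ⟨j, φ, hj⟩ := baseDesc_mono D c hc f₀
    (show Mono (pullback.snd f₀ (c.π.app i)) from inferInstance)
  have : Mono (pullback.snd f₀ (D.map φ)) := hj
  have := Groth.Limits.compactSpace_obj D φ
  obtain ⟨k, ψ, hk⟩ := Groth.Limits.exists_isOpenImmersion_stage (i := j) D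
    (pullback.snd f₀ (D.map φ)) hc (by rw [prop_snd_snd_iff @IsOpenImmersion, c.w]; exact h)
  rw [prop_snd_snd_iff @IsOpenImmersion, ← D.map_comp] at hk
  exact ⟨k, ψ ≫ φ, hk⟩

theorem baseDesc_surjective : BaseDesc.{u} @Surjective := by
  intro I _ _ D c hc _ i _ _ X₀ f₀ _ _ _ h
  have hc' : IsConstructible (Set.range f₀) := by
    rw [← Set.image_univ]; exact f₀.isConstructible_image IsConstructible.univ
  obtain ⟨j, φ, hj⟩ := exists_preimage_univ D c hc (Groth.Limits.pc_compl_of_isConstructible hc')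
    fun x ↦ by
      obtain ⟨y, rfl⟩ := h.surj x
      exact ⟨pullback.fst f₀ (c.π.app i) y, by
        rw [← Scheme.Hom.comp_apply, pullback.condition, Scheme.Hom.comp_apply]⟩
  refine ⟨j, φ, ⟨fun t ↦ ?_⟩⟩
  obtain ⟨x, hx⟩ := hj t
  obtain ⟨z, -, hz⟩ := Scheme.Pullback.exists_preimage_pullback x t hx
  exact ⟨z, hz⟩

theorem baseDesc_locallyQuasiFinite : BaseDesc.{u} @LocallyQuasiFinite := by
  intro I _ _ D c hc _ i _ _ X₀ f₀ _ _ _ h
  let P : ∀ ⦃Y T : Scheme.{u}⦄, (Y ⟶ T) → Prop := fun _ _ g ↦ IsFinite g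
  have : CompactSpace X₀ := QuasiCompact.compactSpace_of_compactSpace f₀
  have hF : Groth.Limits.PC (ConsProp.locus P f₀)ᶜ := by
    rw [Groth.SpectralTopology.locus_isFinite, compl_compl]
    exact Groth.Calg2.ProCons.pc_of_qcImage
      ((Groth.Limits.pc_of_isClosed f₀.quasiFiniteLocus.isOpen.isClosed_compl).qcImage.image f₀)
  obtain ⟨j, φ, hj⟩ := exists_preimage_univ D c hc hF fun x ↦ by
    have := ((Groth.SpectralTopology.locallyQuasiFinite_iff_locus (pullback.snd f₀ (c.π.app i))).1 h)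
    rw [Groth.SpectralTopology.locus_preimage Groth.SpectralTopology.isCons_finite.1
      (IsPullback.of_hasPullback f₀ (c.π.app i))] at this
    exact this.ge (Set.mem_univ x)
  refine ⟨j, φ, (Groth.SpectralTopology.locallyQuasiFinite_iff_locus _).2 ?_⟩
  rw [Groth.SpectralTopology.locus_preimage Groth.SpectralTopology.isCons_finite.1
    (IsPullback.of_hasPullback f₀ (D.map φ))]
  exact Set.eq_univ_of_forall hj

theorem baseDesc_universallyInjective : BaseDesc.{u} @UniversallyInjective := by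
  intro I _ _ D c hc _ i _ _ X₀ f₀ _ _ _ h
  let P : ∀ ⦃Y T : Scheme.{u}⦄, (Y ⟶ T) → Prop := fun _ _ g ↦ UniversallyInjective g
  have : CompactSpace X₀ := QuasiCompact.compactSpace_of_compactSpace f₀
  have : QuasiSeparatedSpace X₀ := quasiSeparatedSpace_of_quasiSeparated f₀
  have : CompactSpace (pullback f₀ f₀ : Scheme.{u}) :=
    QuasiCompact.compactSpace_of_compactSpace (pullback.fst f₀ f₀)
  have : QuasiSeparatedSpace (pullback f₀ f₀ : Scheme.{u}) :=
    quasiSeparatedSpace_of_quasiSeparated (pullback.fst f₀ f₀)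
  have : LocallyOfFinitePresentation (pullback.diagonal f₀) := Groth.Agent.S4599.result f₀
  have hd : IsConstructible (Set.range (pullback.diagonal f₀)) := by
    rw [← Set.image_univ]; exact (pullback.diagonal f₀).isConstructible_image IsConstructible.univ
  have hF : Groth.Limits.PC (ConsProp.locus P f₀)ᶜ := by
    rw [Groth.SpectralTopology.locus_universallyInjective, compl_compl]
    exact Groth.Calg2.ProCons.pc_of_qcImage
      ((Groth.Limits.pc_compl_of_isConstructible hd).qcImage.image _)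
  obtain ⟨j, φ, hj⟩ := exists_preimage_univ D c hc hF fun x ↦ by
    have := ((Groth.SpectralTopology.universallyInjective_iff_locus (pullback.snd f₀ (c.π.app i))).1 h)
    rw [Groth.SpectralTopology.locus_preimage Groth.SpectralTopology.isCons_ui.1
      (IsPullback.of_hasPullback f₀ (c.π.app i))] at this
    exact this.ge (Set.mem_univ x)
  refine ⟨j, φ, (Groth.SpectralTopology.universallyInjective_iff_locus _).2 ?_⟩
  rw [Groth.SpectralTopology.locus_preimage Groth.SpectralTopology.isCons_ui.1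
    (IsPullback.of_hasPullback f₀ (D.map φ))]
  exact Set.eq_univ_of_forall hj

theorem baseDesc_isImmersion : BaseDesc.{u} @IsImmersion := by
  intro I _ _ D c hc _ i _ _ X₀ f₀ _ _ _ h
  have : CompactSpace X₀ := QuasiCompact.compactSpace_of_compactSpace f₀
  have : IsImmersion (pullback.snd f₀ (c.π.app i)) := h
  obtain ⟨j, hj⟩ := Groth.Limits.exists_isImmersion_stage (g₀ := 𝟙 (D.obj i)) (f₀ := f₀)
    (g := 𝟙 c.pt) hc (IsPullback.of_vert_isIso ⟨by simp⟩) (IsPullback.of_hasPullback f₀ (c.π.app i))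
  refine ⟨j.left, j.hom, ?_⟩
  exact Groth.Limits.prop_snd_comp @IsImmersion f₀ (inv (pullback.fst (D.map j.hom) (𝟙 (D.obj i))))
    (pullback.snd _ _) _ ((IsIso.inv_comp_eq _).2 ((Category.comp_id _).symm.trans pullback.condition.symm)) hj

theorem baseDesc_isAffineHom : BaseDesc.{u} @IsAffineHom := by
  intro I _ _ D c hc _ i _ _ X₀ f₀ _ _ _ h
  have : IsAffineHom (pullback.snd f₀ (c.π.app i)) := h
  obtain ⟨j, hj⟩ := Groth.Limits.exists_isAffineHom_stage (g₀ := 𝟙 (D.obj i)) (f₀ := f₀)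
    (g := 𝟙 c.pt) hc (IsPullback.of_vert_isIso ⟨by simp⟩) (IsPullback.of_hasPullback f₀ (c.π.app i))
  refine ⟨j.left, j.hom, ?_⟩
  exact Groth.Limits.prop_snd_comp @IsAffineHom f₀ (inv (pullback.fst (D.map j.hom) (𝟙 (D.obj i))))
    (pullback.snd _ _) _ ((IsIso.inv_comp_eq _).2 ((Category.comp_id _).symm.trans pullback.condition.symm)) hj

open Groth.SpectralTopology in
theorem baseDesc_quasiAffineHom : BaseDesc.{u} quasiAffineHom.{u} := by
  intro I _ _ D c hc _ i _ _ X₀ f₀ _ _ _ h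
  classical
  have hπ := isAffineHom_π_app D c hc i
  choose W hW hxW using fun x : D.obj i ↦ show ∃ W : (D.obj i).Opens, IsAffineOpen W ∧ x ∈ W by
    obtain ⟨_, ⟨W, hW, rfl⟩, hxW, -⟩ :=
      (D.obj i).isBasis_affineOpens.exists_subset_of_mem_open (Set.mem_univ x) isOpen_univ
    exact ⟨W, hW, hxW⟩
  obtain ⟨s, hs⟩ := isCompact_univ.elim_finite_subcover (fun x ↦ (W x : Set (D.obj i)))
    (fun x ↦ (W x).isOpen) (fun x _ ↦ Set.mem_iUnion.2 ⟨x, hxW x⟩)
  have hstage : ∀ x : D.obj i, ∃ k : Over i,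
      ((Groth.Limits.pullbackDiagram D i ((f₀ ⁻¹ᵁ W x).ι ≫ f₀)).obj k).IsQuasiAffine := by
    intro x
    let a := (f₀ ⁻¹ᵁ W x).ι ≫ f₀
    have : CompactSpace (f₀ ⁻¹ᵁ W x : Scheme.{u}) :=
      isCompact_iff_compactSpace.1 (f₀.isCompact_preimage (hW x).isCompact)
    have : QuasiCompact a := quasiCompact_of_compactSpace _
    have : QuasiSeparated a := inferInstance
    have (k : Over i) : CompactSpace ((Groth.Limits.pullbackDiagram D i a).obj k) :=
      have := Groth.Limits.compactSpace_obj D k.hom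
      QuasiCompact.compactSpace_of_compactSpace (pullback.fst (D.map k.hom) a)
    have (k : Over i) : QuasiSeparatedSpace ((Groth.Limits.pullbackDiagram D i a).obj k) :=
      have := Groth.Limits.quasiSeparatedSpace_obj D k.hom
      quasiSeparatedSpace_of_quasiSeparated (pullback.fst (D.map k.hom) a)
    obtain ⟨e⟩ := exists_iso_preimage f₀ (c.π.app i) (W x)
    have := h.2 _ ((hW x).preimage (c.π.app i))
    have : (Groth.Limits.pullbackCone D i a c).pt.IsQuasiAffine := .of_isAffineHom e.hom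
    exact Scheme.exists_isQuasiAffine_of_isLimit (Groth.Limits.pullbackDiagram D i a)
      (Groth.Limits.pullbackCone D i a c) (Groth.Limits.isLimitPullbackCone D i a hc)
  choose k hk using hstage
  obtain ⟨l, hl⟩ := IsCofiltered.inf_objs_exists (insert (Over.mk (𝟙 i)) (s.image k))
  refine ⟨l.left, l.hom, ?_⟩
  show MoreMor.IsQuasiAffineHom _
  refine isQuasiAffineHom_of_forall_point _ fun y ↦ ?_
  obtain ⟨x, hxs, hyx⟩ := Set.mem_iUnion₂.1 (hs (Set.mem_univ (D.map l.hom y)))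
  obtain ⟨ψ⟩ := hl (Finset.mem_insert_of_mem (Finset.mem_image_of_mem k hxs))
  refine ⟨D.map l.hom ⁻¹ᵁ W x, hyx, ?_⟩
  obtain ⟨e⟩ := exists_iso_preimage f₀ (D.map l.hom) (W x)
  have := hk x
  have : ((Groth.Limits.pullbackDiagram D i ((f₀ ⁻¹ᵁ W x).ι ≫ f₀)).obj l).IsQuasiAffine :=
    .of_isAffineHom ((Groth.Limits.pullbackDiagram D i ((f₀ ⁻¹ᵁ W x).ι ≫ f₀)).map ψ)
  have : (pullback (D.map l.hom) ((f₀ ⁻¹ᵁ W x).ι ≫ f₀)).IsQuasiAffine := this
  exact .of_isAffineHom e.inv

end Groth.Calg2.DescendProps
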