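import Groth.Agent.Calg2.TensorFP

/-!
Mittag-Leffler modules: the domination criterion.
-/

universe u

open TensorProduct

namespace Groth.Calg2

variable {R : Type u} [CommRing R]

/-- `f` is dominated by a map to a f.p. module (which factors it). -/
def FPDominated {P M : Type u} [AddCommGroup P] [Module R P] [AddCommGroup M] [Module R M]
    (f : P →ₗ[R] M) : Prop :=
  ∃ (Q : Type u) (_ : AddCommGroup Q) (_ : Module R Q) (_ : Module.FinitePresentation R Q)
    (g : P →ₗ[R] Q),
    ∀ (N : Type u) [AddCommGroup N] [Module R N],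
      LinearMap.ker (f.rTensor N) = LinearMap.ker (g.rTensor N)

/-- If dominated for maps from finite free modules, `M` is Mittag-Leffler. -/
theorem isMittagLeffler_of_dominated {M : Type u} [AddCommGroup M] [Module R M]
    (h : ∀ (n : ℕ) (f : (Fin n → R) →ₗ[R] M), FPDominated f) : CAlg.IsMittagLeffler R M := by
  intro ι Q _ _
  refine (injective_iff_map_eq_zero _).2 fun x hx => ?_
  obtain ⟨n, f, x', rfl⟩ := exists_free_lift x
  obtain ⟨P, _, _, _, g, hg⟩ := h n f
  have hi : ∀ i, g.rTensor (Q i) (piRightHom R R _ Q x' i) = 0 := by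
    intro i
    have : piRightHom R R _ Q x' i ∈ LinearMap.ker (f.rTensor (Q i)) := by
      rw [LinearMap.mem_ker, ← piRightHom_natural, hx, Pi.zero_apply]
    rw [hg (Q i)] at this
    exact this
  have h0 : g.rTensor _ x' = 0 := by
    refine (piRightHom_bijective_of_fp Q).1 (funext fun i => ?_)
    rw [piRightHom_natural, hi, map_zero, Pi.zero_apply]
  exact (hg (∀ i, Q i) ▸ (LinearMap.mem_ker.2 h0) : x' ∈ LinearMap.ker (f.rTensor (∀ i, Q i)))

theorem comm_rTensor {A B C : Type u} [AddCommGroup A] [Module R A] [AddCommGroup B] [Module R B]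
    [AddCommGroup C] [Module R C] (φ : A →ₗ[R] B) (z : A ⊗[R] C) :
    φ.lTensor C (TensorProduct.comm R A C z) = TensorProduct.comm R B C (φ.rTensor C z) := by
  induction z with
  | zero => simp
  | tmul a c => simp
  | add a b ha hb => simp only [map_add, ha, hb]

theorem exists_factor_killing_family {M : Type u} [AddCommGroup M] [Module R M]
    (hM : CAlg.IsMittagLeffler R M) {P : Type u} [AddCommGroup P] [Module R P]
    [Module.FinitePresentation R P] (f : P →ₗ[R] M) {ι : Type u} (N₀ : ι → Type u)
    [∀ i, AddCommGroup (N₀ i)] [∀ i, Module R (N₀ i)] (w : ∀ i, P ⊗[R] N₀ i)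
    (hw : ∀ i, f.rTensor (N₀ i) (w i) = 0) :
    ∃ (Q : Type u) (_ : AddCommGroup Q) (_ : Module R Q) (_ : Module.FinitePresentation R Q)
      (a : P →ₗ[R] Q) (b : Q →ₗ[R] M), b ∘ₗ a = f ∧ ∀ i, a.rTensor (N₀ i) (w i) = 0 := by
  obtain ⟨z, hz⟩ := piRightHom_surjective_of_finite (R := R) (P := P) N₀ w
  have hz0 : f.rTensor _ z = 0 := by
    refine hM ι N₀ (funext fun i => ?_)
    rw [piRightHom_natural, hz, hw, map_zero, Pi.zero_apply]
  obtain ⟨Q, _, _, _, a, b, hab, ha⟩ := exists_fp_factor_eq_zero f z hz0
  refine ⟨Q, inferInstance, inferInstance, inferInstance, a, b, hab, fun i => ?_⟩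
  rw [← hz, ← piRightHom_natural, ha, map_zero, Pi.zero_apply]

theorem dominated_of_isMittagLeffler {M : Type u} [AddCommGroup M] [Module R M]
    (hM : CAlg.IsMittagLeffler R M) {P : Type u} [AddCommGroup P] [Module R P]
    [Module.FinitePresentation R P] (f : P →ₗ[R] M) :
    ∃ (Q : Type u) (_ : AddCommGroup Q) (_ : Module R Q) (_ : Module.FinitePresentation R Q)
      (a : P →ₗ[R] Q) (b : Q →ₗ[R] M), b ∘ₗ a = f ∧
      ∀ (N : Type u) [AddCommGroup N] [Module R N],
        LinearMap.ker (f.rTensor N) = LinearMap.ker (a.rTensor N) := by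
  obtain ⟨Q, _, _, _, a, b, hab, ha⟩ := exists_factor_killing_family hM f
    (ι := Σ n : ℕ, Σ K : Submodule R (Fin n → R),
      {z : P ⊗[R] ((Fin n → R) ⧸ K) // f.rTensor _ z = 0})
    (fun i => (Fin i.1 → R) ⧸ i.2.1) (fun i => i.2.2.1) (fun i => i.2.2.2)
  refine ⟨Q, inferInstance, inferInstance, inferInstance, a, b, hab, fun N _ _ => ?_⟩
  refine le_antisymm (fun w hw => ?_) fun w hw => ?_
  · rw [LinearMap.mem_ker] at hw
    have hw' : f.lTensor N (TensorProduct.comm R P N w) = 0 := by
      rw [comm_rTensor, hw, map_zero]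
    obtain ⟨Q', _, _, _, g', x', hg', hx'⟩ := exists_fp_lift_of_lTensor_eq_zero f _ hw'
    obtain ⟨n, K, e, -⟩ := Module.FinitePresentation.exists_fin R Q'
    let w₁ : P ⊗[R] ((Fin n → R) ⧸ K) :=
      e.toLinearMap.lTensor P (TensorProduct.comm R Q' P x')
    have hw₁ : f.rTensor _ w₁ = 0 := by
      have : f.rTensor Q' (TensorProduct.comm R Q' P x') = 0 := by
        refine (TensorProduct.comm R M Q').injective ?_
        rw [← comm_rTensor, map_zero, ← hx']
        congr 1
        exact (TensorProduct.comm R Q' P).symm_apply_apply x' |>.symm ▸ (by simp)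
      simp only [w₁]
      rw [← LinearMap.comp_apply, LinearMap.rTensor_comp_lTensor, ← LinearMap.lTensor_comp_rTensor,
        LinearMap.comp_apply, this, map_zero]
    have h1 : a.rTensor _ w₁ = 0 := by
      exact ha ⟨n, K, w₁, hw₁⟩
    have h3 : (g' ∘ₗ e.symm.toLinearMap).lTensor P w₁ = w := by
      simp only [w₁]
      rw [← LinearMap.lTensor_comp_apply, LinearMap.comp_assoc]
      have hge : (g' ∘ₗ e.symm.toLinearMap ∘ₗ e.toLinearMap) = g' := by ext; simp
      rw [hge, comm_rTensor, hg']
      exact (TensorProduct.comm R P N).symm_apply_apply w ▸ (by simp)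
    rw [LinearMap.mem_ker, ← h3, ← LinearMap.comp_apply, LinearMap.rTensor_comp_lTensor,
      ← LinearMap.lTensor_comp_rTensor, LinearMap.comp_apply, h1, map_zero]
  · rw [LinearMap.mem_ker] at hw ⊢
    rw [← hab, LinearMap.rTensor_comp_apply, hw, map_zero]

theorem isMittagLeffler_iff_dominated {M : Type u} [AddCommGroup M] [Module R M] :
    CAlg.IsMittagLeffler R M ↔ ∀ (n : ℕ) (f : (Fin n → R) →ₗ[R] M), FPDominated f := by
  refine ⟨fun h n f => ?_, isMittagLeffler_of_dominated⟩
  obtain ⟨Q, i1, i2, i3, a, _, _, ha⟩ := dominated_of_isMittagLeffler h f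
  exact ⟨Q, i1, i2, i3, a, ha⟩

/-- An element of `G i ⊗ N` killed in the colimit is killed at some later stage. -/
theorem exists_stage_rTensor_eq_zero {ι : Type u} [Preorder ι] [IsDirected ι (· ≤ ·)]
    [DecidableEq ι] {G : ι → Type u} [∀ i, AddCommGroup (G i)] [∀ i, Module R (G i)]
    (f : ∀ i j, i ≤ j → G i →ₗ[R] G j) [DirectedSystem G fun i j h => f i j h]
    (N : Type u) [AddCommGroup N] [Module R N] {i : ι} {z : G i ⊗[R] N}
    (hz : (Module.DirectLimit.of R ι G f i).rTensor N z = 0) :
    ∃ (k : ι) (hik : i ≤ k), (f i k hik).rTensor N z = 0 := by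
  haveI : DirectedSystem (fun i => G i ⊗[R] N) fun i j h => (f i j h).rTensor N :=
    DirectedSystem.rTensor R N ‹_›
  refine Module.DirectLimit.of.zero_exact (f := fun i j h => (f i j h).rTensor N) (x := z) ?_
  have key : ∀ w : G i ⊗[R] N, directLimitLeft f N ((Module.DirectLimit.of R ι G f i).rTensor N w) =
      Module.DirectLimit.of R ι _ (fun i j h => (f i j h).rTensor N) i w := by
    intro w
    induction w with
    | zero => simp
    | tmul g n => simp
    | add a b ha hb => simp only [map_add, ha, hb]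
  rw [← key, hz, map_zero]

theorem isMittagLeffler_tensorProduct {M N : Type u} [AddCommGroup M] [Module R M]
    [AddCommGroup N] [Module R N] (hM : CAlg.IsMittagLeffler R M) (hN : CAlg.IsMittagLeffler R N) :
    CAlg.IsMittagLeffler R (M ⊗[R] N) := by
  intro ι Q _ _
  let φ : N ⊗[R] (∀ i, Q i) →ₗ[R] (∀ i, N ⊗[R] Q i) := piRightHom R R N Q
  have huniv : Function.Injective (φ.lTensor M) := by
    refine lTensor_injective_of_forall_fp φ fun P _ _ _ => ?_
    have key : ∀ (z : P ⊗[R] (N ⊗[R] (∀ i, Q i))) (i : ι),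
        (TensorProduct.leftComm R P N (Q i)) (piRightHom R R P _ (φ.lTensor P z) i) =
          piRightHom R R N (fun i => P ⊗[R] Q i)
            ((piRightHom R R P Q).lTensor N (TensorProduct.leftComm R P N (∀ i, Q i) z)) i := by
      intro z i
      induction z with
      | zero => simp
      | tmul p w =>
        induction w with
        | zero => simp
        | tmul n q => simp [φ]
        | add a b ha hb => simp only [TensorProduct.tmul_add, map_add, Pi.add_apply, ha, hb]
      | add a b ha hb => simp only [map_add, Pi.add_apply, ha, hb]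
    refine (injective_iff_map_eq_zero _).2 fun z hz => ?_
    have hb : Function.Bijective ((piRightHom R R P Q).lTensor N) :=
      (TensorProduct.congr (LinearEquiv.refl R N)
        (LinearEquiv.ofBijective _ (piRightHom_bijective_of_fp (R := R) (P := P) Q))).bijective
    refine (TensorProduct.leftComm R P N _).injective (hb.1 ?_)
    simp only [map_zero]
    refine hN ι _ (funext fun i => ?_)
    rw [← key, hz]
    simp
  have key : ∀ (z : (M ⊗[R] N) ⊗[R] (∀ i, Q i)) (i : ι),
      (TensorProduct.assoc R M N (Q i)) (piRightHom R R _ Q z i) =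
        piRightHom R R M (fun i => N ⊗[R] Q i)
          (φ.lTensor M (TensorProduct.assoc R M N (∀ i, Q i) z)) i := by
    intro z i
    induction z with
    | zero => simp
    | tmul mn q =>
      induction mn with
      | zero => simp
      | tmul m n => simp [φ]
      | add a b ha hb => simp only [TensorProduct.add_tmul, map_add, Pi.add_apply, ha, hb]
    | add a b ha hb => simp only [map_add, Pi.add_apply, ha, hb]
  refine (injective_iff_map_eq_zero _).2 fun z hz => ?_
  refine (TensorProduct.assoc R M N _).injective (huniv ?_)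
  simp only [map_zero]
  refine hM ι _ (funext fun i => ?_)
  rw [← key, hz]
  simp

end Groth.Calg2
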