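import Groth.Agent.Calg2.GDomain
import Mathlib.AlgebraicGeometry.Morphisms.Immersion
import Mathlib.AlgebraicGeometry.Noetherian

/-!
# Locally closed points of locally Noetherian schemes
-/

universe u

open AlgebraicGeometry CategoryTheory

namespace Groth.Calg2.IsolatedPoint

theorem exists_mem_of_isLocallyClosed {A : Type u} [CommRing A] (p : PrimeSpectrum A)
    (h : IsLocallyClosed ({p} : Set (PrimeSpectrum A))) :
    ∃ f, f ∉ p.asIdeal ∧ ∀ Q : Ideal (A ⧸ p.asIdeal), Q.IsPrime → Q ≠ ⊥ →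
      Ideal.Quotient.mk p.asIdeal f ∈ Q := by
  obtain ⟨U, Z, hU, hZ, hUZ⟩ := h
  have hpUZ : p ∈ U ∩ Z := hUZ ▸ rfl
  obtain ⟨_, ⟨f, rfl⟩, hpf, hfU⟩ :=
    PrimeSpectrum.isTopologicalBasis_basic_opens.exists_subset_of_mem_open hpUZ.1 hU
  refine ⟨f, hpf, fun Q hQ hne => by_contra fun hf => hne ?_⟩
  let q : PrimeSpectrum A := ⟨Q.comap (Ideal.Quotient.mk p.asIdeal), hQ.comap _⟩
  have hpq : p.asIdeal ≤ q.asIdeal := fun x hx => by
    show Ideal.Quotient.mk p.asIdeal x ∈ Q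
    rw [Ideal.Quotient.eq_zero_iff_mem.2 hx]
    exact Q.zero_mem
  have hq : q ∈ U ∩ Z :=
    ⟨hfU hf, ((PrimeSpectrum.le_iff_specializes p q).1 hpq).mem_closed hZ hpUZ.2⟩
  rw [← hUZ] at hq
  have hq' : q.asIdeal = p.asIdeal := congrArg PrimeSpectrum.asIdeal hq
  rw [← Ideal.map_comap_of_surjective _ Ideal.Quotient.mk_surjective Q,
    show Q.comap (Ideal.Quotient.mk p.asIdeal) = p.asIdeal from hq', Ideal.map_quotient_self]

theorem krullDimLE_one {X : Scheme.{u}} [IsLocallyNoetherian X] {x : X}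
    (hx : IsLocallyClosed ({x} : Set X)) (U : X.Opens) (hU : IsAffineOpen U) (hxU : x ∈ U) :
    ∃ p : PrimeSpectrum Γ(X, U), hU.fromSpec p = x ∧
      Finite (PrimeSpectrum (Γ(X, U) ⧸ p.asIdeal)) ∧ Ring.KrullDimLE 1 (Γ(X, U) ⧸ p.asIdeal) := by
  obtain ⟨p, hp⟩ : x ∈ Set.range hU.fromSpec := by rw [hU.range_fromSpec]; exact hxU
  refine ⟨p, hp, ?_⟩
  have : IsNoetherianRing Γ(X, U) := IsLocallyNoetherian.component_noetherian ⟨U, hU⟩
  have h1 : IsLocallyClosed ({p} : Set (PrimeSpectrum Γ(X, U))) := by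
    have h2 : ({p} : Set (PrimeSpectrum Γ(X, U))) = hU.fromSpec ⁻¹' {x} := by
      ext q
      exact ⟨fun h => h ▸ hp, fun h => hU.fromSpec.isOpenEmbedding.injective (h.trans hp.symm)⟩
    rw [h2]
    exact hx.preimage hU.fromSpec.continuous
  obtain ⟨f, hf, hall⟩ := exists_mem_of_isLocallyClosed p h1
  have hf' : Ideal.Quotient.mk p.asIdeal f ≠ 0 := fun h => hf (Ideal.Quotient.eq_zero_iff_mem.1 h)
  have hfin := GDomain.finite_of_forall_mem _ _ hf' hall
  exact ⟨hfin, GDomain.krullDimLE_one_of_finite _⟩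

theorem lt_of_specializes {X : Scheme.{u}} {U : X.Opens} (hU : IsAffineOpen U)
    (p q : PrimeSpectrum Γ(X, U)) (h : hU.fromSpec p ⤳ hU.fromSpec q)
    (hne : hU.fromSpec p ≠ hU.fromSpec q) : p.asIdeal < q.asIdeal := by
  have h1 : p ⤳ q := hU.fromSpec.isOpenEmbedding.isInducing.specializes_iff.1 h
  exact lt_of_le_of_ne ((PrimeSpectrum.le_iff_specializes p q).2 h1)
    fun h2 => hne (congrArg hU.fromSpec (PrimeSpectrum.ext h2))

end Groth.Calg2.IsolatedPoint
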