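import Mathlib.RingTheory.Ideal.KrullsHeightTheorem
import Mathlib.RingTheory.Spectrum.Maximal.Localization
import Mathlib.RingTheory.Jacobson.Artinian
import Mathlib.GroupTheory.FiniteAbelian.Basic

/-!
# Noetherian G-domains, finite fields of finite type over `ℤ`
-/

universe u

namespace Groth.Calg2.GDomain

variable (B : Type u) [CommRing B] [IsDomain B]

theorem isField_away_iff (f : B) (hf : f ≠ 0) :
    IsField (Localization.Away f) ↔ ∀ q : Ideal B, q.IsPrime → q ≠ ⊥ → f ∈ q := by
  have hle : Submonoid.powers f ≤ nonZeroDivisors B := powers_le_nonZeroDivisors_of_noZeroDivisors hf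
  have : IsDomain (Localization.Away f) := IsLocalization.isDomain_localization hle
  have hinj : Function.Injective (algebraMap B (Localization.Away f)) :=
    IsLocalization.injective _ hle
  constructor
  · intro h q hq hqne
    by_contra hfq
    have hdis : Disjoint (Submonoid.powers f : Set B) (q : Set B) := by
      rw [Set.disjoint_left]
      rintro _ ⟨n, rfl⟩ hn
      exact hfq (hq.mem_of_pow_mem n hn)
    let _ := h.toField
    rcases Ideal.eq_bot_or_top (q.map (algebraMap B (Localization.Away f))) with h1 | h1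
    · exact hqne ((Ideal.map_eq_bot_iff_of_injective hinj).1 h1)
    · exact ((IsLocalization.isPrime_of_isPrime_disjoint (Submonoid.powers f) _ q hq hdis).ne_top) h1
  · intro h
    by_contra hF
    obtain ⟨P, hP, hPp⟩ := Ring.not_isField_iff_exists_prime.1 hF
    have hfu : IsUnit (algebraMap B (Localization.Away f) f) := IsLocalization.Away.algebraMap_isUnit f
    have hne : P.comap (algebraMap B (Localization.Away f)) ≠ ⊥ := by
      intro h0
      refine hP ?_
      have h2 := IsLocalization.map_under (Submonoid.powers f) (Localization.Away f) P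
      rw [Ideal.under, h0, Ideal.map_bot] at h2
      exact h2.symm
    exact hPp.ne_top (P.eq_top_of_isUnit_mem (h _ (hPp.comap _) hne) hfu)

variable [IsNoetherianRing B]

theorem finite_of_forall_mem (f : B) (hf : f ≠ 0)
    (h : ∀ q : Ideal B, q.IsPrime → q ≠ ⊥ → f ∈ q) :
    Finite (PrimeSpectrum B) := by
  classical
  have hfin := (Ideal.span {f}).finite_minimalPrimes_of_isNoetherianRing
  let M := hfin.toFinset
  have key : ∀ q : Ideal B, q.IsPrime → q ≠ ⊥ → q ∈ M := by
    intro q hq hqne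
    by_contra hqM
    have hsub : ¬ ((q : Set B) ⊆ ⋃ i ∈ (↑(M.filter (· ≤ q)) : Set (Ideal B)), (i : Set B)) := by
      intro hsub
      obtain ⟨i, hi, hqi⟩ := (Ideal.subset_union_prime (R := B) (f := id) ⊥ ⊥ fun i hi _ _ =>
        ((hfin.mem_toFinset).1 (Finset.mem_filter.1 hi).1).1.1).1 hsub
      obtain ⟨hiM, hiq⟩ := Finset.mem_filter.1 hi
      exact hqM (le_antisymm hiq hqi ▸ hiM)
    obtain ⟨a, haq, ha⟩ := Set.not_subset.1 hsub
    obtain ⟨r, hr, hrq⟩ := Ideal.exists_minimalPrimes_le (Ideal.span_le.2 (Set.singleton_subset_iff.2 haq) : Ideal.span {a} ≤ q)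
    have hr1 := hr.1.1
    have hrne : r ≠ ⊥ := by
      intro h0
      obtain ⟨p, hp, hpq⟩ := Ideal.exists_minimalPrimes_le
        (Ideal.span_le.2 (Set.singleton_subset_iff.2 (h q hq hqne)) : Ideal.span {f} ≤ q)
      refine ha (Set.mem_iUnion₂.2 ⟨p, Finset.mem_filter.2 ⟨(hfin.mem_toFinset).2 hp, hpq⟩, ?_⟩)
      have : a = 0 := by
        have := hr.1.2 (Ideal.subset_span rfl)
        rwa [h0, Ideal.mem_bot] at this
      exact this ▸ p.zero_mem
    obtain ⟨p, hp, hpr⟩ := Ideal.exists_minimalPrimes_le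
      (Ideal.span_le.2 (Set.singleton_subset_iff.2 (h r hr1 hrne)) : Ideal.span {f} ≤ r)
    have hp1 := hp.1.1
    have hpne : p ≠ ⊥ := fun h0 => hf (by
      have := hp.1.2 (Ideal.subset_span rfl)
      rwa [h0, Ideal.mem_bot] at this)
    have hpr' : p = r := by
      by_contra hne
      have hlt : p < r := lt_of_le_of_ne hpr hne
      have h1 := Ideal.height_le_one_of_isPrincipal_of_mem_minimalPrimes (Ideal.span {a}) r hr
      have h2 := Ideal.height_strict_mono_of_isPrime hlt
      have h3 := Ideal.height_strict_mono_of_isPrime (bot_lt_iff_ne_bot.2 hpne)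
      have h4 : p.height < 1 := h2.trans_le h1
      rw [Order.lt_one_iff] at h4
      simp [h4] at h3
    refine ha (Set.mem_iUnion₂.2 ⟨p, Finset.mem_filter.2 ⟨(hfin.mem_toFinset).2 hp, hpr.trans hrq⟩, ?_⟩)
    exact hpr' ▸ hr.1.2 (Ideal.subset_span rfl)
  refine Finite.of_injective (fun q : PrimeSpectrum B => if h0 : q.asIdeal = ⊥ then (none : Option M)
    else some ⟨q.asIdeal, key _ q.2 h0⟩) fun a b hab => ?_
  dsimp only at hab
  split_ifs at hab with ha hb hb
  · exact PrimeSpectrum.ext (ha.trans hb.symm)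
  · exact PrimeSpectrum.ext (Subtype.ext_iff.1 (Option.some_injective _ hab))

theorem krullDimLE_one_of_finite [Finite (PrimeSpectrum B)] : Ring.KrullDimLE 1 B := by
  classical
  rw [Ring.krullDimLE_one_iff_of_noZeroDivisors]
  intro I hI hIp
  obtain ⟨m, hm, hIm⟩ := Ideal.exists_le_maximal I hIp.ne_top
  by_contra hImax
  have hlt : I < m := lt_of_le_of_ne hIm fun h => hImax (h ▸ hm)
  let S : Finset (PrimeSpectrum B) := (Set.toFinite {q : PrimeSpectrum B | q.asIdeal < m}).toFinset
  have hsub : ¬ ((m : Set B) ⊆ ⋃ i ∈ (↑S : Set (PrimeSpectrum B)), (i.asIdeal : Set B)) := by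
    intro hsub
    obtain ⟨i, hi, hqi⟩ := (Ideal.subset_union_prime (R := B) (f := fun i : PrimeSpectrum B => i.asIdeal)
      ⟨⊥, Ideal.isPrime_bot⟩ ⟨⊥, Ideal.isPrime_bot⟩ fun i _ _ _ => i.2).1 hsub
    have hh : i.asIdeal < m := (Set.toFinite {q : PrimeSpectrum B | q.asIdeal < m}).mem_toFinset.1 hi
    exact (not_le_of_gt hh) hqi
  obtain ⟨a, ham, ha⟩ := Set.not_subset.1 hsub
  obtain ⟨r, hr, hrm⟩ := Ideal.exists_minimalPrimes_le (Ideal.span_le.2 (Set.singleton_subset_iff.2 ham) : Ideal.span {a} ≤ m)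
  have hr1 := hr.1.1
  have hrm' : r = m := by
    by_contra hne
    exact ha (Set.mem_iUnion₂.2 ⟨⟨r, hr1⟩, (Set.toFinite {q : PrimeSpectrum B | q.asIdeal < m}).mem_toFinset.2 (lt_of_le_of_ne hrm hne : r < m),
      hr.1.2 (Ideal.subset_span rfl)⟩)
  have : m.IsPrime := hm.isPrime
  have : I.IsPrime := hIp
  have h1 := Ideal.height_le_one_of_isPrincipal_of_mem_minimalPrimes (Ideal.span {a}) r hr
  rw [hrm'] at h1
  have h2 := Ideal.height_strict_mono_of_isPrime hlt
  have h3 := Ideal.height_strict_mono_of_isPrime (bot_lt_iff_ne_bot.2 hI)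
  have h4 : I.height < 1 := h2.trans_le h1
  rw [Order.lt_one_iff] at h4
  simp [h4] at h3

omit [IsNoetherianRing B] in
theorem exists_mem_of_finite_maximal [Ring.KrullDimLE 1 B] (hfin : Finite (MaximalSpectrum B)) :
    ∃ f : B, f ≠ 0 ∧ ∀ q : Ideal B, q.IsPrime → q ≠ ⊥ → f ∈ q := by
  classical
  have : Fintype (MaximalSpectrum B) := Fintype.ofFinite _
  have hx : ∀ m : MaximalSpectrum B, ∃ x : B, x ≠ 0 ∧ (m.asIdeal ≠ ⊥ → x ∈ m.asIdeal) := fun m => by
    by_cases h : m.asIdeal = ⊥
    · exact ⟨1, one_ne_zero, fun h' => absurd h h'⟩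
    · obtain ⟨x, hxm, hx⟩ := Submodule.exists_mem_ne_zero_of_ne_bot h
      exact ⟨x, hx, fun _ => hxm⟩
  choose x hx0 hxm using hx
  refine ⟨∏ m, x m, Finset.prod_ne_zero_iff.2 fun m _ => hx0 m, fun q hq hqne => ?_⟩
  let m : MaximalSpectrum B := ⟨q, hq.isMaximal_of_ne_bot hqne⟩
  exact Ideal.mem_of_dvd _ (Finset.dvd_prod_of_mem x (Finset.mem_univ m)) (hxm m hqne)

omit [IsDomain B] [IsNoetherianRing B] in
/-- A field of finite type over `ℤ` is finite. -/
theorem finite_of_finiteType_int (K : Type u) [Field K] [Algebra.FiniteType ℤ K] [IsJacobsonRing ℤ] :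
    Finite K := by
  have : Module.Finite ℤ K := finite_of_finite_type_of_isJacobsonRing ℤ K
  have htor : AddMonoid.IsTorsion K := by
    intro x
    rw [isOfFinAddOrder_iff_nsmul_eq_zero]
    by_cases h : ∃ n : ℕ, 0 < n ∧ (n : K) = 0
    · obtain ⟨n, hn, hn0⟩ := h
      exact ⟨n, hn, by simp [nsmul_eq_mul, hn0]⟩
    · exfalso
      have : CharZero K := charZero_of_inj_zero fun n hn => by
        by_contra hne
        exact h ⟨n, Nat.pos_of_ne_zero hne, hn⟩
      exact Int.not_isField (isField_of_isIntegral_of_isField (R := ℤ) (S := K)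
        (FaithfulSMul.algebraMap_injective ℤ K) (Field.toIsField K))
  exact Module.finite_of_fg_torsion K (by
    intro x
    obtain ⟨n, hn, hnx⟩ := isOfFinAddOrder_iff_nsmul_eq_zero.1 (htor x)
    exact ⟨⟨(n : ℤ), mem_nonZeroDivisors_of_ne_zero (by exact_mod_cast hn.ne')⟩, by
      simpa using hnx⟩)

end Groth.Calg2.GDomain
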