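import Groth.Agent.Calg2.NoetherianCriterion

/-!
Inflating the residue field of a Noetherian local ring along a purely transcendental extension.
-/

universe u

open MvPolynomial

namespace Groth.Calg2

theorem rename_flat {A : Type u} [CommRing A] {σ ι : Type u} {f : σ → ι} (hf : Function.Injective f) :
    (rename f : MvPolynomial σ A →ₐ[A] MvPolynomial ι A).toRingHom.Flat := by
  classical
  let e : σ ⊕ ↥((Set.range f)ᶜ) ≃ ι :=
    (Equiv.sumCongr (Equiv.ofInjective f hf) (Equiv.refl _)).trans (Equiv.Set.sumCompl (Set.range f))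
  have he : ∀ a, e (Sum.inl a) = f a := fun a => by simp [e]
  let E : MvPolynomial ↥((Set.range f)ᶜ) (MvPolynomial σ A) ≃ₐ[A] MvPolynomial ι A :=
    ((sumAlgEquiv A ↥((Set.range f)ᶜ) σ).symm.trans
      (renameEquiv A ((Equiv.sumComm _ _).trans e)))
  have hcomp : (E : MvPolynomial _ (MvPolynomial σ A) →ₐ[A] _).comp
      (IsScalarTower.toAlgHom A (MvPolynomial σ A) (MvPolynomial ↥((Set.range f)ᶜ) (MvPolynomial σ A))) =
      rename f := by
    have h := sumAlgEquiv_comp_rename_inr (R := A) (S₁ := ↥((Set.range f)ᶜ)) (S₂ := σ)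
    refine MvPolynomial.algHom_ext fun a => ?_
    have h1 := AlgHom.congr_fun h (X a)
    simp only [AlgHom.comp_apply, rename_X] at h1
    have h2 : (sumAlgEquiv A ↥((Set.range f)ᶜ) σ).symm
        ((IsScalarTower.toAlgHom A (MvPolynomial σ A) (MvPolynomial ↥((Set.range f)ᶜ) (MvPolynomial σ A))) (X a)) =
        X (Sum.inr a) := (AlgEquiv.symm_apply_eq _).2 h1.symm
    simp only [AlgHom.comp_apply, E, AlgEquiv.coe_algHom, AlgEquiv.trans_apply, h2, renameEquiv_apply, rename_X]
    simp [he]
  rw [← hcomp]
  have h1 : (algebraMap (MvPolynomial σ A) (MvPolynomial ↥((Set.range f)ᶜ) (MvPolynomial σ A))).Flat :=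
    RingHom.flat_algebraMap_iff.2 inferInstance
  exact RingHom.Flat.comp h1 (RingHom.Flat.of_bijective E.bijective)

variable {A : Type u} [CommRing A] [IsLocalRing A] {K : Type u} [Field K]
  [Algebra (IsLocalRing.ResidueField A) K] [Algebra A K] [IsScalarTower A (IsLocalRing.ResidueField A) K]

theorem ker_aeval_eq_map {ι : Type u} {x : ι → K} (hx : AlgebraicIndependent (IsLocalRing.ResidueField A) x) :
    RingHom.ker (aeval x : MvPolynomial ι A →ₐ[A] K) = (IsLocalRing.maximalIdeal A).map C := by
  have h : (aeval x : MvPolynomial ι A →ₐ[A] K).toRingHom =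
      (aeval x : MvPolynomial ι (IsLocalRing.ResidueField A) →ₐ[IsLocalRing.ResidueField A] K).toRingHom.comp
        (MvPolynomial.map (IsLocalRing.residue A)) := by
    refine MvPolynomial.ringHom_ext (fun a => ?_) (fun i => ?_)
    · simp [IsScalarTower.algebraMap_apply A (IsLocalRing.ResidueField A) K]
    · simp
  show RingHom.ker (aeval x : MvPolynomial ι A →ₐ[A] K).toRingHom = _
  have hinj : Function.Injective
      (aeval x : MvPolynomial ι (IsLocalRing.ResidueField A) →ₐ[IsLocalRing.ResidueField A] K).toRingHom := hx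
  rw [h, ← RingHom.comap_ker, (RingHom.injective_iff_ker_eq_bot _).1 hinj, ← RingHom.ker_eq_comap_bot,
    MvPolynomial.ker_map, IsLocalRing.ker_residue]

variable (A K) in
/-- The local ring `A(x)`. -/
theorem exists_inflation_transcendental [IsNoetherianRing A] {ι : Type u} (x : ι → K)
    (hx : AlgebraicIndependent (IsLocalRing.ResidueField A) x) :
    ∃ (B : Type u) (_ : CommRing B) (_ : Algebra A B) (_ : IsLocalRing B) (ρ : IsLocalRing.ResidueField B →+* K),
      IsNoetherianRing B ∧ IsLocalHom (algebraMap A B) ∧ Module.Flat A B ∧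
      (IsLocalRing.maximalIdeal A).map (algebraMap A B) = IsLocalRing.maximalIdeal B ∧
      (∀ a : A, ρ (IsLocalRing.residue B (algebraMap A B a)) = algebraMap A K a) ∧
      (∀ i, x i ∈ ρ.range) := by
  classical
  let T := MvPolynomial ι A
  let P : Ideal T := RingHom.ker (aeval x : T →ₐ[A] K)
  haveI : P.IsPrime := RingHom.ker_isPrime _
  let B := Localization.AtPrime P
  have hmax : (IsLocalRing.maximalIdeal A).map (algebraMap A B) = IsLocalRing.maximalIdeal B := by
    have h1 : P.map (algebraMap T B) = ((IsLocalRing.maximalIdeal A).map C).map (algebraMap T B) :=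
      congrArg (Ideal.map (algebraMap T B)) (ker_aeval_eq_map hx)
    rw [Ideal.map_map] at h1
    exact h1.symm.trans Localization.AtPrime.map_eq_maximalIdeal
  haveI hloc : IsLocalHom (algebraMap A B) := ((IsLocalRing.local_hom_TFAE _).out 0 2).2 hmax.le
  let ψ : B →+* K := IsLocalization.lift (M := P.primeCompl) (g := (aeval x : T →ₐ[A] K).toRingHom)
    (fun y => isUnit_iff_ne_zero.2 fun h => y.2 h)
  have hψ : ∀ t, ψ (algebraMap T B t) = aeval x t := fun t => IsLocalization.lift_eq _ t
  have hψm : ∀ z ∈ IsLocalRing.maximalIdeal B, ψ z = 0 := by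
    intro z hz
    have hz' : z ∈ RingHom.ker ψ := by
      rw [← Localization.AtPrime.map_eq_maximalIdeal] at hz
      have hle : P.map (algebraMap T B) ≤ RingHom.ker ψ :=
        Ideal.map_le_iff_le_comap.2 fun t ht => (RingHom.mem_ker.2 ((hψ t).trans ht) : algebraMap T B t ∈ RingHom.ker ψ)
      exact hle hz
    exact hz'
  let ρ : IsLocalRing.ResidueField B →+* K := Ideal.Quotient.lift _ ψ hψm
  refine ⟨B, inferInstance, inferInstance, inferInstance, ρ, ?_, hloc, Module.Flat.trans A T B, hmax,
    fun a => ?_, fun i => ⟨IsLocalRing.residue B (algebraMap T B (X i)), ?_⟩⟩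
  · refine isNoetherianRing_of_cover.{u, u} (hmax ▸ Ideal.FG.map (IsNoetherian.noetherian _) _) fun s => ?_
    choose t w hw using fun z : B => IsLocalization.exists_mk'_eq P.primeCompl z
    choose σ₁ q₁ hq₁ using fun p : T => exists_finset_rename p
    let σ : Finset ι := s.biUnion fun z => σ₁ (t z) ∪ σ₁ (w z : T)
    let r : MvPolynomial σ A →ₐ[A] T := rename (fun i : σ => (i : ι))
    have hr : ∀ z ∈ s, t z ∈ r.range ∧ (w z : T) ∈ r.range := by
      intro z hz
      have key : ∀ p, σ₁ p ⊆ σ → p ∈ r.range := fun p hp => by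
        refine ⟨rename (fun i => ⟨i.1, hp i.2⟩) (q₁ p), ?_⟩
        show rename _ (rename _ (q₁ p)) = p
        rw [rename_rename]; exact (hq₁ p).symm
      exact ⟨key _ (fun i hi => Finset.mem_biUnion.2 ⟨z, hz, Finset.mem_union_left _ hi⟩),
        key _ (fun i hi => Finset.mem_biUnion.2 ⟨z, hz, Finset.mem_union_right _ hi⟩)⟩
    let Q : Ideal (MvPolynomial σ A) := P.comap r.toRingHom
    haveI : Q.IsPrime := Ideal.IsPrime.comap _
    have hQ : Q = (IsLocalRing.maximalIdeal A).map C := by
      have h : (aeval x : T →ₐ[A] K).comp r = aeval (fun i : σ => x i) := by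
        refine MvPolynomial.algHom_ext fun i => ?_
        simp [r]
      rw [← ker_aeval_eq_map (hx.comp _ Subtype.val_injective), show Q = P.comap r.toRingHom from rfl]
      ext p
      show aeval x (r p) = 0 ↔ aeval (fun i : σ => x i) p = 0
      rw [← h]; rfl
    let C₀ := Localization.AtPrime Q
    let φ : C₀ →+* B := Localization.localRingHom Q P r.toRingHom rfl
    have hflat : φ.Flat := RingHom.Flat.localRingHom (rename_flat Subtype.val_injective) P Q rfl
    letI : Algebra C₀ B := φ.toAlgebra
    haveI : Module.Flat C₀ B := hflat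
    haveI : IsLocalHom (algebraMap C₀ B) := Localization.isLocalHom_localRingHom Q P r.toRingHom rfl
    haveI := Module.FaithfullyFlat.of_flat_of_isLocalHom (A := C₀) (B := B)
    refine ⟨C₀, inferInstance, inferInstance, inferInstance, φ, fun z hz => ?_, ?_, fun J => Ideal.comap_map_eq_self_of_faithfullyFlat J⟩
    · obtain ⟨⟨p, hp⟩, ⟨u, hu⟩⟩ := hr z hz
      have huQ : u ∈ Q.primeCompl := fun h => (w z).2 (hu ▸ h)
      refine ⟨IsLocalization.mk' C₀ p ⟨u, huQ⟩, ?_⟩
      rw [Localization.localRingHom_mk', ← hw z]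
      congr 1
      exact Subtype.ext hu
    · have h1 : IsLocalRing.maximalIdeal C₀ =
          ((IsLocalRing.maximalIdeal A).map C).map (algebraMap (MvPolynomial σ A) C₀) :=
        Localization.AtPrime.map_eq_maximalIdeal.symm.trans (congrArg (Ideal.map (algebraMap _ C₀)) hQ)
      rw [h1, Ideal.map_map, Ideal.map_map, ← hmax]
      congr 1
      refine RingHom.ext fun a => ?_
      show φ (algebraMap (MvPolynomial σ A) C₀ (C a)) = algebraMap A B a
      rw [Localization.localRingHom_to_map]
      show algebraMap T B (r (C a)) = _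
      rw [rename_C]; rfl
  · show ψ (algebraMap A B a) = _
    rw [IsScalarTower.algebraMap_apply A T B, hψ]
    exact (aeval x : T →ₐ[A] K).commutes a
  · show ψ (algebraMap T B (X i)) = x i
    rw [hψ, aeval_X]

end Groth.Calg2
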