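import Groth.Prelude.Def_Found
import Groth.Prelude.Def_CAlgX
import Mathlib

/-!
Tensor products and finitely presented modules: killing elements at a finitely presented stage,
products, solving linear systems, domination.
-/

universe u

open TensorProduct

namespace Groth.Calg2

variable {R : Type u} [CommRing R]

/-- An element killed after tensoring with `h : P → M` (`P` f.p.) is killed at an f.p. stage. -/
theorem exists_fp_factor_eq_zero {P M X : Type u} [AddCommGroup P] [Module R P]
    [Module.FinitePresentation R P] [AddCommGroup M] [Module R M] [AddCommGroup X] [Module R X]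
    (h : P →ₗ[R] M) (z : P ⊗[R] X) (hz : h.rTensor X z = 0) :
    ∃ (Q : Type u) (_ : AddCommGroup Q) (_ : Module R Q) (_ : Module.FinitePresentation R Q)
      (a : P →ₗ[R] Q) (b : Q →ₗ[R] M), b ∘ₗ a = h ∧ a.rTensor X z = 0 := by
  classical
  let q : (P × (M →₀ R)) →ₗ[R] M := h.coprod (Finsupp.linearCombination R id)
  have hq : Function.Surjective q := fun m => ⟨(0, Finsupp.single m 1), by simp [q]⟩
  have h0 : q.rTensor X ((LinearMap.inl R P (M →₀ R)).rTensor X z) = 0 := by
    rw [← LinearMap.rTensor_comp_apply, LinearMap.coprod_inl, hz]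
  have hexq : Function.Exact (LinearMap.ker q).subtype q := LinearMap.exact_subtype_ker_map q
  have hex' := rTensor_exact (R := R) (M := LinearMap.ker q) (N := P × (M →₀ R)) (P := M) X
    (f := (LinearMap.ker q).subtype) (g := q) hexq hq
  obtain ⟨w, hw⟩ := (hex' _).1 h0
  obtain ⟨K0, hK0, hwm⟩ :=
    TensorProduct.exists_finite_submodule_left_of_setFinite {w} (Set.finite_singleton w)
  obtain ⟨w', hw'⟩ := hwm (Set.mem_singleton w)
  let K1 : Submodule R (P × (M →₀ R)) := K0.map (LinearMap.ker q).subtype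
  obtain ⟨G, hG⟩ : K1.FG := (Module.Finite.iff_fg.1 hK0).map _
  let s : Finset M := G.biUnion fun g => g.2.support
  let r : (M →₀ R) →ₗ[R] (s → R) := LinearMap.pi fun m => Finsupp.lapply (m : M)
  let j : (s → R) →ₗ[R] (M →₀ R) :=
    (Finsupp.lmapDomain R R (Subtype.val : s → M)) ∘ₗ
      (Finsupp.linearEquivFunOnFinite R R s).symm.toLinearMap
  have hjr : ∀ f : M →₀ R, f.support ⊆ s → j (r f) = f := by
    intro f hf
    ext m
    simp only [j, r, LinearMap.comp_apply, LinearEquiv.coe_coe, Finsupp.lmapDomain_apply]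
    by_cases hm : m ∈ s
    · rw [show m = ((⟨m, hm⟩ : s) : M) from rfl, Finsupp.mapDomain_apply Subtype.val_injective]
      simp
    · rw [Finsupp.mapDomain_notin_range _ _ (by simpa using hm)]
      exact (Finsupp.notMem_support_iff.1 fun h' => hm (hf h')).symm
  let K2 : Submodule R (P × (s → R)) := K1.map (LinearMap.id.prodMap r)
  have hK2 : K2.FG := (show K1.FG from ⟨G, hG⟩).map _
  haveI : Module.FinitePresentation R ((P × (s → R)) ⧸ K2) :=
    Module.finitePresentation_of_surjective K2.mkQ K2.mkQ_surjective (by rwa [Submodule.ker_mkQ])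
  have hqj : K2 ≤ LinearMap.ker (q ∘ₗ LinearMap.id.prodMap j) := by
    have key : K1 ≤ LinearMap.ker ((q ∘ₗ LinearMap.id.prodMap j) ∘ₗ LinearMap.id.prodMap r) := by
      rw [← hG, Submodule.span_le]
      intro g hg
      have hgq : q g = 0 := by
        obtain ⟨k, -, hk⟩ := (hG ▸ Submodule.subset_span hg : g ∈ K1)
        rw [← hk]; exact k.2
      have : j (r g.2) = g.2 := hjr _ fun m hm => Finset.mem_biUnion.2 ⟨g, hg, hm⟩
      simp only [SetLike.mem_coe, LinearMap.mem_ker, LinearMap.comp_apply, LinearMap.prodMap_apply,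
        LinearMap.id_coe, id_eq, this]
      exact hgq
    rintro _ ⟨g, hg, rfl⟩
    exact key hg
  refine ⟨(P × (s → R)) ⧸ K2, inferInstance, inferInstance, inferInstance,
    K2.mkQ ∘ₗ LinearMap.inl R P (s → R), K2.liftQ _ hqj, ?_, ?_⟩
  · ext p; simp [q]
  · have e : K2.mkQ ∘ₗ LinearMap.inl R P (s → R)
        = (K2.mkQ ∘ₗ LinearMap.id.prodMap r) ∘ₗ LinearMap.inl R P (M →₀ R) := by
      ext p
      simp
    have e2 : ((K2.mkQ ∘ₗ LinearMap.id.prodMap r) ∘ₗ (LinearMap.ker q).subtype) ∘ₗ K0.subtype = 0 := by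
      ext k
      refine (Submodule.Quotient.mk_eq_zero K2).2 ?_
      exact Submodule.mem_map_of_mem (Submodule.mem_map_of_mem (f := (LinearMap.ker q).subtype) k.2)
    rw [e, LinearMap.rTensor_comp_apply, ← hw, ← hw', ← LinearMap.rTensor_comp_apply,
      ← LinearMap.rTensor_comp_apply, e2]
    simp

theorem exists_free_lift {M X : Type u} [AddCommGroup M] [Module R M] [AddCommGroup X] [Module R X]
    (x : M ⊗[R] X) :
    ∃ (n : ℕ) (g : (Fin n → R) →ₗ[R] M) (x' : (Fin n → R) ⊗[R] X), g.rTensor X x' = x := by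
  classical
  obtain ⟨S, hS⟩ := TensorProduct.exists_finset x
  let e := S.equivFin
  refine ⟨S.card, Fintype.linearCombination R fun i => ((e.symm i : S) : M × X).1,
    ∑ i, Pi.single i 1 ⊗ₜ[R] ((e.symm i : S) : M × X).2, ?_⟩
  simp only [map_sum, LinearMap.rTensor_tmul, Fintype.linearCombination_apply_single, one_smul]
  rw [hS, ← Finset.sum_coe_sort S]
  exact Fintype.sum_equiv e.symm _ _ fun i => rfl

/-- An element killed by `u` comes from an element killed by `u` over a f.p. module. -/
theorem exists_fp_lift_of_lTensor_eq_zero {M X Y : Type u} [AddCommGroup M] [Module R M]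
    [AddCommGroup X] [Module R X] [AddCommGroup Y] [Module R Y]
    (f : X →ₗ[R] Y) (x : M ⊗[R] X) (hx : f.lTensor M x = 0) :
    ∃ (P : Type u) (_ : AddCommGroup P) (_ : Module R P) (_ : Module.FinitePresentation R P)
      (g : P →ₗ[R] M) (x' : P ⊗[R] X), g.rTensor X x' = x ∧ f.lTensor P x' = 0 := by
  obtain ⟨n, g, x', rfl⟩ := exists_free_lift x
  have h0 : g.rTensor Y (f.lTensor (Fin n → R) x') = 0 := by
    rw [← hx, ← LinearMap.comp_apply, ← LinearMap.comp_apply, LinearMap.rTensor_comp_lTensor,
      LinearMap.lTensor_comp_rTensor]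
  obtain ⟨Q, _, _, _, a, b, hab, ha⟩ := exists_fp_factor_eq_zero g _ h0
  refine ⟨Q, inferInstance, inferInstance, inferInstance, b, a.rTensor X x', ?_, ?_⟩
  · rw [← LinearMap.rTensor_comp_apply, hab]
  · rw [← ha, ← LinearMap.comp_apply, ← LinearMap.comp_apply, LinearMap.rTensor_comp_lTensor,
      LinearMap.lTensor_comp_rTensor]

theorem lTensor_injective_of_forall_fp {M X Y : Type u} [AddCommGroup M] [Module R M]
    [AddCommGroup X] [Module R X] [AddCommGroup Y] [Module R Y] (f : X →ₗ[R] Y)
    (h : ∀ (P : Type u) [AddCommGroup P] [Module R P] [Module.FinitePresentation R P],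
      Function.Injective (f.lTensor P)) : Function.Injective (f.lTensor M) := by
  refine (injective_iff_map_eq_zero _).2 fun x hx => ?_
  obtain ⟨P, _, _, _, g, x', hg, hx'⟩ := exists_fp_lift_of_lTensor_eq_zero f x hx
  rw [← hg, (injective_iff_map_eq_zero _).1 (h P) x' hx', map_zero]

/-- `PiMap f Q : M ⊗ Π Q → Π (M ⊗ Q)` is natural in `M`. -/
theorem piRightHom_natural {M M' : Type u} [AddCommGroup M] [Module R M] [AddCommGroup M']
    [Module R M'] (φ : M →ₗ[R] M') {ι : Type u} (Q : ι → Type u) [∀ i, AddCommGroup (Q i)]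
    [∀ i, Module R (Q i)] (z : M ⊗[R] (∀ i, Q i)) (i : ι) :
    piRightHom R R M' Q (φ.rTensor (∀ i, Q i) z) i = φ.rTensor (Q i) (piRightHom R R M Q z i) := by
  induction z with
  | zero => simp
  | tmul x q => simp
  | add a b ha hb => simp only [map_add, Pi.add_apply, ha, hb]

theorem piRightHom_free_bijective (n : Type) [Fintype n] [DecidableEq n] {ι : Type u}
    (Q : ι → Type u) [∀ i, AddCommGroup (Q i)] [∀ i, Module R (Q i)] :
    Function.Bijective (piRightHom R R (n → R) Q) := by
  let e : (n → R) ⊗[R] (∀ i, Q i) ≃ₗ[R] (n → ∀ i, Q i) :=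
    TensorProduct.comm R _ _ ≪≫ₗ piScalarRight R R _ n
  let e' : ∀ i, (n → R) ⊗[R] Q i ≃ₗ[R] (n → Q i) :=
    fun i => TensorProduct.comm R _ _ ≪≫ₗ piScalarRight R R _ n
  have h : ∀ z i k, e' i (piRightHom R R (n → R) Q z i) k = e z k i := by
    intro z i k
    induction z with
    | zero => simp
    | tmul x q => simp [e, e']
    | add a b ha hb => simp only [map_add, Pi.add_apply, ha, hb]
  constructor
  · intro a b hab
    refine e.injective (funext fun k => funext fun i => ?_)
    rw [← h, ← h, hab]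
  · intro y
    refine ⟨e.symm fun k i => e' i (y i) k, funext fun i => (e' i).injective (funext fun k => ?_)⟩
    rw [h, LinearEquiv.apply_symm_apply]

theorem piRightHom_surjective_of_finite {P : Type u} [AddCommGroup P] [Module R P]
    [Module.Finite R P] {ι : Type u} (Q : ι → Type u) [∀ i, AddCommGroup (Q i)]
    [∀ i, Module R (Q i)] : Function.Surjective (piRightHom R R P Q) := by
  obtain ⟨n, f, hf⟩ := Module.Finite.exists_fin' R P
  intro y
  choose y' hy' using fun i => LinearMap.rTensor_surjective (Q i) hf (y i)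
  obtain ⟨z, hz⟩ := (piRightHom_free_bijective (Fin n) Q).2 y'
  exact ⟨f.rTensor _ z, funext fun i => by rw [piRightHom_natural, hz, hy']⟩

theorem piRightHom_bijective_of_fp {P : Type u} [AddCommGroup P] [Module R P]
    [Module.FinitePresentation R P] {ι : Type u} (Q : ι → Type u) [∀ i, AddCommGroup (Q i)]
    [∀ i, Module R (Q i)] : Function.Bijective (piRightHom R R P Q) := by
  refine ⟨(injective_iff_map_eq_zero _).2 fun x hx => ?_, piRightHom_surjective_of_finite Q⟩
  obtain ⟨n, f, hf⟩ := Module.Finite.exists_fin' R P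
  haveI : Module.Finite R (LinearMap.ker f) :=
    Module.Finite.iff_fg.2 (Module.FinitePresentation.fg_ker f hf)
  obtain ⟨z, rfl⟩ := LinearMap.rTensor_surjective (∀ i, Q i) hf x
  have hex := LinearMap.exact_subtype_ker_map f
  have hz : ∀ i, f.rTensor (Q i) (piRightHom R R _ Q z i) = 0 := fun i => by
    rw [← piRightHom_natural, hx, Pi.zero_apply]
  choose w hw using fun i => (rTensor_exact (Q i) hex hf _).1 (hz i)
  obtain ⟨v, hv⟩ := piRightHom_surjective_of_finite (P := LinearMap.ker f) Q w
  have : (LinearMap.ker f).subtype.rTensor _ v = z := by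
    refine (piRightHom_free_bijective (Fin n) Q).1 (funext fun i => ?_)
    rw [piRightHom_natural, hv, hw]
  rw [← this, ← LinearMap.rTensor_comp_apply, hex.linearMap_comp_eq_zero]
  simp

/-- Solving linear systems: the universal-injectivity criterion. -/
theorem exists_solution_of_ker_rTensor_le {P Q Q' : Type u} [AddCommGroup P] [Module R P]
    [AddCommGroup Q] [Module R Q] [AddCommGroup Q'] [Module R Q']
    (g : P →ₗ[R] Q) (a : P →ₗ[R] Q')
    (h : ∀ (N : Type u) [AddCommGroup N] [Module R N],
      LinearMap.ker (g.rTensor N) ≤ LinearMap.ker (a.rTensor N))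
    {J κ : Type} [Fintype J] [DecidableEq J] [Fintype κ] [DecidableEq κ] (c : κ → J → R) (x : κ → P)
    (y : J → Q) (hy : ∀ k, ∑ j, c k j • y j = g (x k)) :
    ∃ z : J → Q', ∀ k, ∑ j, c k j • z j = a (x k) := by
  let T : (J → R) →ₗ[R] (κ → R) := Fintype.linearCombination R fun j k => c k j
  let N := (κ → R) ⧸ LinearMap.range T
  let ξ : P ⊗[R] N := ∑ k, x k ⊗ₜ[R] (LinearMap.range T).mkQ (Pi.single k 1)
  have hT : ∀ j, ∑ k, c k j • (Pi.single k 1 : κ → R) = T (Pi.single j 1) := by
    intro j
    ext k'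
    simp [T, Pi.single_apply, Finset.sum_apply]
  have hgξ : g.rTensor N ξ = 0 := by
    simp only [ξ, map_sum, LinearMap.rTensor_tmul, ← hy, TensorProduct.sum_tmul,
      TensorProduct.smul_tmul, ← map_smul]
    rw [Finset.sum_comm]
    refine Finset.sum_eq_zero fun j _ => ?_
    rw [← TensorProduct.tmul_sum, ← map_sum, hT]
    simp [(Submodule.Quotient.mk_eq_zero _).2 (LinearMap.mem_range_self T (Pi.single j 1))]
  have hξ : a.rTensor N ξ = 0 := h N hgξ
  let E : Q' ⊗[R] (κ → R) ≃ₗ[R] (κ → Q') := piScalarRight R R Q' κ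
  let w : Q' ⊗[R] (κ → R) := ∑ k, a (x k) ⊗ₜ[R] Pi.single k 1
  have hw : (LinearMap.range T).mkQ.lTensor Q' w = 0 := by
    rw [← hξ]; simp [w, ξ]
  obtain ⟨v, hv⟩ := (lTensor_exact Q' (LinearMap.exact_map_mkQ_range T)
    (Submodule.mkQ_surjective _) w).1 hw
  refine ⟨piScalarRight R R Q' J v, fun k => ?_⟩
  have e1 : E w k = a (x k) := by
    simp [E, w, Finset.sum_apply, Pi.single_apply]
  have e2 : ∀ v, E (T.lTensor Q' v) k = ∑ j, c k j • piScalarRight R R Q' J v j := by
    intro v
    induction v with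
    | zero => simp
    | tmul q r =>
      simp [E, T, Fintype.linearCombination_apply, Finset.sum_apply, Finset.sum_smul, mul_comm (r _),
        mul_smul]
    | add p q hp hq => simp only [map_add, Pi.add_apply, hp, hq, smul_add, Finset.sum_add_distrib]
  rw [← e2, hv, e1]

/-- If `g` kills at most what `a` kills, universally, then `a` factors through `g`. -/
theorem exists_factor_of_ker_rTensor_le {P Q Q' : Type u} [AddCommGroup P] [Module R P]
    [Module.Finite R P] [AddCommGroup Q] [Module R Q] [Module.FinitePresentation R Q]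
    [AddCommGroup Q'] [Module R Q'] (g : P →ₗ[R] Q) (a : P →ₗ[R] Q')
    (h : ∀ (N : Type u) [AddCommGroup N] [Module R N],
      LinearMap.ker (g.rTensor N) ≤ LinearMap.ker (a.rTensor N)) :
    ∃ φ : Q →ₗ[R] Q', φ ∘ₗ g = a := by
  classical
  obtain ⟨n, m, π, rel, hπ, hex⟩ := Module.FinitePresentation.exists_fin' R Q
  obtain ⟨l, p, hp⟩ := Module.Finite.exists_fin' R P
  choose d hd using fun i => hπ (g (p (Pi.single i 1)))
  obtain ⟨z, hz⟩ := exists_solution_of_ker_rTensor_le g a h (J := Fin n) (κ := Fin m ⊕ Fin l)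
    (Sum.elim (fun k => rel (Pi.single k 1)) d) (Sum.elim 0 fun i => p (Pi.single i 1))
    (fun j => π (Pi.single j 1)) (by
      have key : ∀ v : Fin n → R, ∑ j, v j • π (Pi.single j 1) = π v := fun v => by
        conv_rhs => rw [pi_eq_sum_univ' v, map_sum]
        simp
      rintro (k | i)
      · simp only [Sum.elim_inl, key, Pi.zero_apply, map_zero]
        exact hex.apply_apply_eq_zero _
      · simp only [Sum.elim_inr, key, hd])
  let ψ : (Fin n → R) →ₗ[R] Q' := Fintype.linearCombination R z
  have hψ : LinearMap.range rel ≤ LinearMap.ker ψ := by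
    have h0 : ψ ∘ₗ rel = 0 := by
      refine LinearMap.pi_ext' fun k => LinearMap.ext_ring ?_
      simpa [ψ, Fintype.linearCombination_apply] using hz (Sum.inl k)
    rintro _ ⟨v, rfl⟩
    simpa using LinearMap.congr_fun h0 v
  rw [← hex.linearMap_ker_eq] at hψ
  let φ : Q →ₗ[R] Q' :=
    (LinearMap.ker π).liftQ ψ hψ ∘ₗ (π.quotKerEquivOfSurjective hπ).symm.toLinearMap
  have hφ : ∀ v, φ (π v) = ψ v := fun v => by
    have : (π.quotKerEquivOfSurjective hπ).symm (π v) = Submodule.Quotient.mk v :=
      (π.quotKerEquivOfSurjective hπ).injective (by simp)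
    simp [φ, this]
  refine ⟨φ, ?_⟩
  rw [← LinearMap.cancel_right hp]
  refine LinearMap.pi_ext' fun i => LinearMap.ext_ring ?_
  simpa [hφ, ← hd i, ψ, Fintype.linearCombination_apply] using hz (Sum.inr i)

/-- A universally injective map with finitely presented cokernel splits. -/
theorem exists_section_of_universallyInjective {M₁ M₂ M₃ : Type u} [AddCommGroup M₁] [Module R M₁]
    [AddCommGroup M₂] [Module R M₂] [AddCommGroup M₃] [Module R M₃]
    [Module.FinitePresentation R M₃] (f : M₁ →ₗ[R] M₂) (g : M₂ →ₗ[R] M₃) (hexact : Function.Exact f g)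
    (hg : Function.Surjective g) (hf : CAlgX.UniversallyInjective R f) :
    ∃ s : M₃ →ₗ[R] M₂, g ∘ₗ s = LinearMap.id := by
  classical
  obtain ⟨n, m, π, rel, hπ, hex⟩ := Module.FinitePresentation.exists_fin' R M₃
  choose y hy using fun j => hg (π (Pi.single j 1))
  have key : ∀ v : Fin n → R, g (∑ j, v j • y j) = π v := fun v => by
    conv_rhs => rw [pi_eq_sum_univ' v, map_sum]
    simp [hy]
  choose x hx using fun k => (hexact _).1 ((key (rel (Pi.single k 1))).trans (hex.apply_apply_eq_zero _))
  obtain ⟨z, hz⟩ := exists_solution_of_ker_rTensor_le f LinearMap.id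
    (fun N _ _ v hv => by
      rw [LinearMap.mem_ker] at hv
      simp [(injective_iff_map_eq_zero _).1 (hf N) v hv])
    (fun k => rel (Pi.single k 1)) x y (fun k => (hx k).symm)
  let ψ : (Fin n → R) →ₗ[R] M₂ := Fintype.linearCombination R fun j => y j - f (z j)
  have hψ : LinearMap.ker π ≤ LinearMap.ker ψ := by
    have h0 : ψ ∘ₗ rel = 0 := by
      refine LinearMap.pi_ext' fun k => LinearMap.ext_ring ?_
      have e : ∑ j, rel (Pi.single k 1) j • z j = x k := hz k
      simp only [LinearMap.coe_comp, Function.comp_apply, LinearMap.coe_single, ψ,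
        Fintype.linearCombination_apply, smul_sub, Finset.sum_sub_distrib, ← map_smul, ← map_sum,
        e, hx k, sub_self]
      simp
    rw [hex.linearMap_ker_eq]
    rintro _ ⟨v, rfl⟩
    simpa using LinearMap.congr_fun h0 v
  refine ⟨(LinearMap.ker π).liftQ ψ hψ ∘ₗ (π.quotKerEquivOfSurjective hπ).symm.toLinearMap, ?_⟩
  rw [← LinearMap.cancel_right hπ]
  refine LinearMap.ext fun v => ?_
  have : (π.quotKerEquivOfSurjective hπ).symm (π v) = Submodule.Quotient.mk v :=
    (π.quotKerEquivOfSurjective hπ).injective (by simp)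
  simp only [LinearMap.coe_comp, Function.comp_apply, LinearEquiv.coe_coe, this,
    Submodule.liftQ_apply, LinearMap.id_coe, id_eq]
  rw [← key v]
  simp [ψ, Fintype.linearCombination_apply, hexact.apply_apply_eq_zero]

end Groth.Calg2
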