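import Groth.Agent.Calg2.NoetherianCriterion

/-!
Inflating the residue field of a Noetherian local ring: algebraic extensions.
-/

universe u

open MvPolynomial

namespace Groth.Calg2

/-- A map of finite free local algebras over a local ring, unramified at the closed point, is
faithfully flat. -/
theorem faithfullyFlat_of_unramified_free {A C C' : Type u} [CommRing A] [IsLocalRing A]
    [CommRing C] [IsLocalRing C] [CommRing C'] [IsLocalRing C'] [Algebra A C] [Algebra A C']
    [Algebra C C'] [IsScalarTower A C C'] [Module.Finite A C] [Module.Free A C] [Module.Finite A C']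
    [Module.Free A C'] [IsLocalHom (algebraMap C C')]
    (hC : (IsLocalRing.maximalIdeal A).map (algebraMap A C) = IsLocalRing.maximalIdeal C)
    (hC' : (IsLocalRing.maximalIdeal A).map (algebraMap A C') = IsLocalRing.maximalIdeal C') :
    Module.FaithfullyFlat C C' := by
  haveI : Module.Finite C C' := Module.Finite.of_restrictScalars_finite A C C'
  let k := IsLocalRing.ResidueField C
  let k' := IsLocalRing.ResidueField C'
  haveI : Module.Finite C k' :=
    Module.Finite.of_surjective (IsScalarTower.toAlgHom C C' k').toLinearMap IsLocalRing.residue_surjective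
  haveI : Module.Finite k k' := Module.Finite.of_restrictScalars_finite C k k'
  let d := Module.finrank k k'
  let b := Module.finBasis k k'
  choose e he using fun j => IsLocalRing.residue_surjective (R := C') (b j)
  let π : (Fin d → C) →ₗ[C] C' := Fintype.linearCombination C e
  have hmC : (IsLocalRing.maximalIdeal C).map (algebraMap C C') = IsLocalRing.maximalIdeal C' := by
    rw [← hC, Ideal.map_map, ← IsScalarTower.algebraMap_eq, hC']
  have hres : ∀ v, IsLocalRing.residue C' (π v) = ∑ j, IsLocalRing.residue C (v j) • b j := by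
    intro v
    simp only [π, Fintype.linearCombination_apply, map_sum, Algebra.smul_def, map_mul, he]
    rfl
  have hsurj : Function.Surjective π := by
    rw [← LinearMap.range_eq_top, eq_top_iff]
    refine Submodule.le_of_le_smul_of_le_jacobson_bot (I := IsLocalRing.maximalIdeal C)
      Module.Finite.fg_top (IsLocalRing.maximalIdeal_le_jacobson _) fun x _ => ?_
    choose v hv using fun j => IsLocalRing.residue_surjective (R := C) (b.repr (IsLocalRing.residue C' x) j)
    refine Submodule.mem_sup.2 ⟨π v, ⟨v, rfl⟩, x - π v, ?_, by ring⟩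
    rw [Ideal.smul_top_eq_map, Submodule.restrictScalars_mem, hmC, ← IsLocalRing.residue_eq_zero_iff,
      map_sub, hres]
    simp only [hv, Module.Basis.sum_repr, sub_self]
  have hinj : Function.Injective π := by
    rw [← LinearMap.ker_eq_bot]
    obtain ⟨r, hr⟩ := Module.projective_lifting_property (π.restrictScalars A) LinearMap.id hsurj
    let N : Submodule A (Fin d → C) := (LinearMap.ker π).restrictScalars A
    let ρ : (Fin d → C) →ₗ[A] (Fin d → C) := LinearMap.id - r ∘ₗ π.restrictScalars A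
    have hρN : ∀ v, ρ v ∈ N := fun v => by
      show π (v - r (π v)) = 0
      rw [map_sub, sub_eq_zero]
      exact (LinearMap.congr_fun hr (π v)).symm
    have hρid : ∀ v ∈ N, ρ v = v := fun v hv => by
      have h0 : π v = 0 := hv
      simp [ρ, h0]
    have hρrange : LinearMap.range ρ = N :=
      le_antisymm (by rintro _ ⟨v, rfl⟩; exact hρN v) fun v hv => ⟨v, hρid v hv⟩
    have hNfg : N.FG := by
      rw [← hρrange, ← Submodule.map_top]
      exact Module.Finite.fg_top.map ρ
    have hN : N ≤ (IsLocalRing.maximalIdeal A) • N := by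
      intro v hv
      have h0 : ∀ j, v j ∈ IsLocalRing.maximalIdeal C := by
        have := hres v
        rw [show π v = 0 from hv, map_zero] at this
        intro j
        rw [← IsLocalRing.residue_eq_zero_iff]
        exact Fintype.linearIndependent_iff.1 b.linearIndependent _ this.symm j
      have hv' : v ∈ (IsLocalRing.maximalIdeal A) • (⊤ : Submodule A (Fin d → C)) := by
        rw [pi_eq_sum_univ' v]
        refine Submodule.sum_mem _ fun j _ => ?_
        have hj : v j ∈ (IsLocalRing.maximalIdeal A) • (⊤ : Submodule A C) := by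
          rw [Ideal.smul_top_eq_map, Submodule.restrictScalars_mem, hC]; exact h0 j
        have := Submodule.mem_map_of_mem (f := LinearMap.single A (fun _ : Fin d => C) j) hj
        rw [Submodule.map_smul''] at this
        have h1 := Submodule.smul_mono le_rfl le_top this
        convert h1 using 1
        ext i
        simp [Pi.single_apply]
      have := Submodule.mem_map_of_mem (f := ρ) hv'
      rw [Submodule.map_smul'', Submodule.map_top, hρrange, hρid v hv] at this
      exact this
    have := Submodule.eq_bot_of_le_smul_of_le_jacobson_bot _ _ hNfg hN (IsLocalRing.maximalIdeal_le_jacobson _)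
    exact (Submodule.restrictScalars_eq_bot_iff A C (Fin d → C)).1 this
  haveI : Module.Free C C' := Module.Free.of_equiv (LinearEquiv.ofBijective π ⟨hinj, hsurj⟩)
  exact Module.FaithfullyFlat.of_flat_of_isLocalHom

namespace Inflate

variable (A : Type u) [CommRing A] [IsLocalRing A] (K : Type u) [Field K]
  [Algebra (IsLocalRing.ResidueField A) K] [Algebra A K] [IsScalarTower A (IsLocalRing.ResidueField A) K]

local notation "k" => IsLocalRing.ResidueField A
local notation "m" => IsLocalRing.maximalIdeal A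
local notation "T" => MvPolynomial K A

/-- A partial inflation: a subfield `F` of `K` and relations `I` among the variables indexed by `F`
such that `A[X_F]/I` is covered by finite free subalgebras which are unramified over `A`. -/
structure Obj where
  F : IntermediateField k K
  I : Ideal T
  gen : I ≤ Ideal.span ((I : Set T) ∩ (supported A (F : Set K) : Set T))
  le_ker : I ≤ RingHom.ker (aeval (id : K → K) : T →ₐ[A] K)
  cover : ∀ s : Finset K, (s : Set K) ⊆ F → ∃ C : Subalgebra A (T ⧸ I),
    C ≤ (supported A (F : Set K)).map (Ideal.Quotient.mkₐ A I) ∧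
    (∀ b ∈ s, Ideal.Quotient.mk I (X b) ∈ C) ∧ Module.Finite A C ∧ Module.Free A C ∧
    ∀ c : C, Ideal.Quotient.liftₐ I (aeval (id : K → K)) (fun x hx => le_ker hx) c = 0 →
      c ∈ m • (⊤ : Submodule A C)

variable {A K}

/-- The evaluation map. -/
noncomputable def Obj.ev (P : Obj A K) : (T ⧸ P.I) →ₐ[A] K :=
  Ideal.Quotient.liftₐ P.I (aeval (id : K → K)) (fun _ hx => P.le_ker hx)

theorem Obj.ev_mk (P : Obj A K) (x : T) : P.ev (Ideal.Quotient.mk P.I x) = aeval (id : K → K) x := rfl

theorem algebraMap_K (a : A) : algebraMap A K a = algebraMap k K (IsLocalRing.residue A a) :=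
  IsScalarTower.algebraMap_apply A k K a

theorem algebraMap_eq_zero_iff' (a : A) : algebraMap A K a = 0 ↔ a ∈ m := by
  rw [algebraMap_K, map_eq_zero, IsLocalRing.residue_eq_zero_iff]

instance : Preorder (Obj A K) where
  le P Q := P.F ≤ Q.F ∧ P.I ≤ Q.I ∧ ∀ x ∈ supported A (P.F : Set K), x ∈ Q.I → x ∈ P.I
  le_refl P := ⟨le_rfl, le_rfl, fun _ _ h => h⟩
  le_trans P Q R h h' := ⟨h.1.trans h'.1, h.2.1.trans h'.2.1, fun x hx hR =>
    h.2.2 x hx (h'.2.2 x (supported_mono (fun b hb => h.1 hb) hx) hR)⟩

theorem ev_map {P Q : Obj A K} (h : P.I ≤ Q.I) (x : T ⧸ P.I) :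
    Q.ev (Ideal.Quotient.factorₐ A h x) = P.ev x := by
  obtain ⟨x, rfl⟩ := Ideal.Quotient.mk_surjective x
  rfl

theorem transport {P : Obj A K} {J : Ideal T} (h : P.I ≤ J)
    (hJ : J ≤ RingHom.ker (aeval (id : K → K) : T →ₐ[A] K))
    (hinj : ∀ x ∈ supported A (P.F : Set K), x ∈ J → x ∈ P.I)
    (s : Finset K) (hs : (s : Set K) ⊆ P.F) (S : Set K) (hS : (P.F : Set K) ⊆ S) :
    ∃ C : Subalgebra A (T ⧸ J), C ≤ (supported A S).map (Ideal.Quotient.mkₐ A J) ∧
      (∀ b ∈ s, Ideal.Quotient.mk J (X b) ∈ C) ∧ Module.Finite A C ∧ Module.Free A C ∧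
      ∀ c : C, Ideal.Quotient.liftₐ J (aeval (id : K → K)) (fun x hx => hJ hx) c = 0 →
        c ∈ m • (⊤ : Submodule A C) := by
  obtain ⟨C, hC, hb, _, _, hker⟩ := P.cover s hs
  let φ := Ideal.Quotient.factorₐ A h
  have hinj' : Function.Injective (φ.comp C.val) := by
    refine (injective_iff_map_eq_zero _).2 fun c hc => ?_
    obtain ⟨x, hx, hxc⟩ := hC c.2
    refine Subtype.ext (hxc.symm.trans ?_)
    refine Ideal.Quotient.eq_zero_iff_mem.2 (hinj x hx ?_)
    rw [← Ideal.Quotient.eq_zero_iff_mem]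
    have : φ (c : T ⧸ P.I) = 0 := hc
    rw [← hxc] at this
    exact this
  let e : C ≃ₐ[A] C.map φ :=
    (AlgEquiv.ofInjective (φ.comp C.val) hinj').trans (Subalgebra.equivOfEq _ _ (by
      rw [AlgHom.range_comp, Subalgebra.range_val]))
  refine ⟨C.map φ, ?_, fun b hb' => ⟨_, hb b hb', rfl⟩, Module.Finite.equiv e.toLinearEquiv,
    Module.Free.of_equiv e.toLinearEquiv, fun c hc => ?_⟩
  · rintro _ ⟨y, hy, rfl⟩
    obtain ⟨x, hx, rfl⟩ := hC hy
    exact ⟨x, supported_mono hS hx, rfl⟩
  · obtain ⟨c, rfl⟩ := e.surjective c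
    have h0 : c ∈ m • (⊤ : Submodule A C) := hker c (by
      obtain ⟨x, -, hxc⟩ := hC c.2
      have e1 : ((e c : C.map φ) : T ⧸ J) = φ (c : T ⧸ P.I) := rfl
      rw [e1, ← hxc] at hc
      rw [← hxc]
      exact hc)
    have := Submodule.mem_map_of_mem (f := e.toLinearEquiv.toLinearMap) h0
    rw [Submodule.map_smul''] at this
    exact Submodule.smul_mono le_rfl le_top this

variable (A K)

theorem exists_base : Nonempty (Obj A K) := by
  classical
  let l : K → A := fun b => if h : ∃ a, algebraMap A K a = b then h.choose else 0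
  have hl : ∀ b ∈ (⊥ : IntermediateField k K), algebraMap A K (l b) = b := by
    intro b hb
    obtain ⟨c, rfl⟩ := IntermediateField.mem_bot.1 hb
    obtain ⟨a, rfl⟩ := IsLocalRing.residue_surjective c
    have h : ∃ a', algebraMap A K a' = algebraMap k K (IsLocalRing.residue A a) := ⟨a, algebraMap_K a⟩
    simp only [l, dif_pos h]
    exact h.choose_spec
  let I : Ideal T := Ideal.span ((fun b => X b - C (l b)) '' ((⊥ : IntermediateField k K) : Set K))
  let r : T →ₐ[A] A := aeval l
  have hI : I ≤ RingHom.ker r := Ideal.span_le.2 (by rintro _ ⟨b, -, rfl⟩; simp [r])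
  have hIK : I ≤ RingHom.ker (aeval (id : K → K) : T →ₐ[A] K) :=
    Ideal.span_le.2 (by rintro _ ⟨b, hb, rfl⟩; simp [hl b hb])
  have hinj : Function.Injective (algebraMap A (T ⧸ I)) := fun a a' h => by
    have := congrArg (Ideal.Quotient.liftₐ I r (fun x hx => hI hx)) h
    simpa using this
  refine ⟨⟨⊥, I, Ideal.span_mono ?_, hIK, fun s hs => ⟨⊥, bot_le, fun b hb => ?_, ?_, ?_, ?_⟩⟩⟩
  · rintro _ ⟨b, hb, rfl⟩
    exact ⟨Ideal.subset_span ⟨b, hb, rfl⟩,
      sub_mem (X_mem_supported.2 hb) (Subalgebra.algebraMap_mem _ (l b))⟩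
  · refine Algebra.mem_bot.2 ⟨l b, ?_⟩
    refine (Ideal.Quotient.eq.2 ?_).symm
    exact Ideal.subset_span ⟨b, hs hb, rfl⟩
  · exact Module.Finite.equiv (Algebra.botEquivOfInjective hinj).symm.toLinearEquiv
  · exact Module.Free.of_equiv (Algebra.botEquivOfInjective hinj).symm.toLinearEquiv
  · intro c hc
    obtain ⟨a, ha⟩ := Algebra.mem_bot.1 c.2
    rw [← ha, AlgHom.commutes, algebraMap_eq_zero_iff'] at hc
    rw [show c = a • (1 : (⊥ : Subalgebra A (T ⧸ I))) from Subtype.ext (by simp [← ha, Algebra.algebraMap_eq_smul_one])]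
    exact Submodule.smul_mem_smul hc Submodule.mem_top

theorem bddAbove_chain (c : Set (Obj A K)) (hc : IsChain (· ≤ ·) c) : BddAbove c := by
  classical
  rcases c.eq_empty_or_nonempty with rfl | hne
  · obtain ⟨P⟩ := exists_base A K
    exact ⟨P, fun Q hQ => absurd hQ (Set.notMem_empty Q)⟩
  haveI : Nonempty c := hne.to_subtype
  let F : IntermediateField k K := ⨆ P : c, P.1.F
  have hdir : Directed (· ≤ ·) fun P : c => P.1.F := fun P Q => by
    rcases hc.total P.2 Q.2 with h | h
    · exact ⟨Q, h.1, le_rfl⟩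
    · exact ⟨P, le_rfl, h.1⟩
  have hdirI : Directed (· ≤ ·) fun P : c => P.1.I := fun P Q => by
    rcases hc.total P.2 Q.2 with h | h
    · exact ⟨Q, h.2.1, le_rfl⟩
    · exact ⟨P, le_rfl, h.2.1⟩
  let J : Ideal T := ⨆ P : c, P.1.I
  have hmemF : ∀ b, b ∈ F → ∃ P : c, b ∈ P.1.F := fun b hb => by
    rw [← SetLike.mem_coe, show F = ⨆ P : c, P.1.F from rfl, IntermediateField.coe_iSup_of_directed hdir] at hb
    exact Set.mem_iUnion.1 hb
  have hFle : ∀ P : c, P.1.F ≤ F := le_iSup fun P : c => P.1.F
  have hJK : J ≤ RingHom.ker (aeval (id : K → K) : T →ₐ[A] K) := iSup_le fun P => P.1.le_ker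
  have hinj : ∀ P : c, ∀ x ∈ supported A (P.1.F : Set K), x ∈ J → x ∈ P.1.I := fun P x hx hxJ => by
    obtain ⟨Q, hQ⟩ := (Submodule.mem_iSup_of_directed _ hdirI).1 hxJ
    rcases hc.total P.2 Q.2 with h | h
    · exact h.2.2 x hx hQ
    · exact h.2.1 hQ
  refine ⟨⟨F, J, ?_, hJK, fun s hs => ?_⟩, fun P hP => ⟨hFle ⟨P, hP⟩, le_iSup (fun P : c => P.1.I) ⟨P, hP⟩, hinj ⟨P, hP⟩⟩⟩
  · refine iSup_le fun P => P.1.gen.trans (Ideal.span_mono fun x hx => ⟨?_, supported_mono (fun b hb => hFle P hb) hx.2⟩)
    exact le_iSup (fun P : c => P.1.I) P hx.1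
  · choose Q hQ using fun b : s => hmemF b (hs b.2)
    obtain ⟨P, hP⟩ := hdir.finite_le Q
    exact transport (le_iSup (fun P : c => P.1.I) P) hJK (hinj P) s (fun b hb => hP ⟨b, hb⟩ (hQ ⟨b, hb⟩)) _
      (fun b hb => hFle P hb)

variable {A K}

theorem exists_gt [Algebra.IsAlgebraic k K] (P : Obj A K) {a : K} (ha : a ∉ P.F) :
    ∃ Q : Obj A K, P ≤ Q ∧ a ∈ Q.F := by
  classical
  have haF : IsIntegral P.F a :=
    (Algebra.IsIntegral.isIntegral (R := k) a).tower_top
  let F' : IntermediateField k K := (IntermediateField.adjoin P.F ({a} : Set K)).restrictScalars k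
  let μ := minpoly P.F a
  let d := μ.natDegree
  have hμ : μ.Monic := minpoly.monic haF
  have hgex : ∀ b ∈ F', ∃ g : Polynomial P.F, g.degree < μ.degree ∧ Polynomial.aeval a g = b := by
    intro b hb
    have hb' : b ∈ (IntermediateField.adjoin P.F ({a} : Set K)).toSubalgebra := hb
    rw [IntermediateField.adjoin_simple_toSubalgebra_of_isAlgebraic haF.isAlgebraic,
      Algebra.adjoin_singleton_eq_range_aeval] at hb'
    obtain ⟨g, rfl⟩ := hb'
    refine ⟨g %ₘ μ, Polynomial.degree_modByMonic_lt g hμ, ?_⟩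
    exact Polynomial.modByMonic_eq_sub_mul_div (p := g) μ ▸ by simp [μ]
  let gb : K → Polynomial P.F := fun b => if h : b ∈ F' then (hgex b h).choose else 0
  have hgb : ∀ b ∈ F', Polynomial.aeval a (gb b) = b := fun b hb => by
    simp only [gb, dif_pos hb]; exact (hgex b hb).choose_spec.2
  have hgd : ∀ b, (gb b).degree < μ.degree := fun b => by
    simp only [gb]
    split_ifs with h
    · exact (hgex b h).choose_spec.1
    · rw [Polynomial.degree_zero, bot_lt_iff_ne_bot]
      exact Polynomial.degree_eq_bot.not.2 hμ.ne_zero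
  -- lifts to polynomials in `T`
  let lift : Polynomial P.F → Polynomial T := fun g =>
    ∑ j ∈ g.support, Polynomial.C (X ((g.coeff j : P.F) : K)) * Polynomial.X ^ j
  have hlev : ∀ g, (lift g).map (aeval (id : K → K) : T →ₐ[A] K).toRingHom = g.map (algebraMap P.F K) := by
    intro g
    conv_rhs => rw [g.as_sum_support_C_mul_X_pow]
    simp only [lift, Polynomial.map_sum, Polynomial.map_mul, Polynomial.map_pow, Polynomial.map_X, Polynomial.map_C]
    refine Finset.sum_congr rfl fun j _ => ?_
    simp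
  have hlev' : ∀ g, (aeval (id : K → K) : T →ₐ[A] K) ((lift g).eval (X a)) = Polynomial.aeval a g := by
    intro g
    have e : (aeval (id : K → K) : T →ₐ[A] K) ((lift g).eval (X a)) =
        ((lift g).map (aeval (id : K → K) : T →ₐ[A] K).toRingHom).eval
          ((aeval (id : K → K) : T →ₐ[A] K) (X a)) := by
      rw [Polynomial.eval_map]; exact Polynomial.hom_eval₂ (lift g) (RingHom.id T) _ (X a)
    rw [e, hlev, aeval_X, id_eq, Polynomial.eval_map, Polynomial.aeval_def]
  -- the lift of the minimal polynomial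
  let p : Polynomial T := Polynomial.X ^ d + lift (μ - Polynomial.X ^ d)
  have hdeg : (μ - Polynomial.X ^ d).degree < (d : WithBot ℕ) := by
    have := Polynomial.degree_sub_lt (p := μ) (q := Polynomial.X ^ d)
      (by rw [Polynomial.degree_X_pow, Polynomial.degree_eq_natDegree hμ.ne_zero]) hμ.ne_zero (by simp [hμ.leadingCoeff])
    rwa [Polynomial.degree_eq_natDegree hμ.ne_zero] at this
  have hliftdeg : ∀ g, (lift g).degree ≤ g.degree := fun g => by
    refine (Polynomial.degree_sum_le _ _).trans (Finset.sup_le fun j hj => ?_)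
    exact (Polynomial.degree_C_mul_X_pow_le j _).trans (Polynomial.le_degree_of_ne_zero (Polynomial.mem_support_iff.1 hj))
  have hp : p.Monic := Polynomial.monic_X_pow_add ((hliftdeg _).trans_lt hdeg)
  have hpd : p.natDegree = d := by
    refine Polynomial.natDegree_eq_of_degree_eq_some ?_
    rw [Polynomial.degree_add_eq_left_of_degree_lt] <;> rw [Polynomial.degree_X_pow]
    exact (hliftdeg _).trans_lt hdeg
  -- new ideal
  let rel : Set T := insert (p.eval (X a))
    ((fun b => X b - (lift (gb b)).eval (X a)) '' ((F' : Set K) \ ((P.F : Set K) ∪ {a})))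
  let I' : Ideal T := P.I ⊔ Ideal.span rel
  have hI'K : I' ≤ RingHom.ker (aeval (id : K → K) : T →ₐ[A] K) := by
    refine sup_le P.le_ker (Ideal.span_le.2 ?_)
    rintro _ (rfl | ⟨b, hb, rfl⟩)
    · show aeval (id : K → K) (p.eval (X a)) = 0
      simp only [p, Polynomial.eval_add, Polynomial.eval_pow, Polynomial.eval_X, map_add, map_pow, hlev']
      simp [μ]
    · show aeval (id : K → K) (X b - (lift (gb b)).eval (X a)) = 0
      rw [map_sub, hlev', aeval_X, hgb b hb.1, id_eq, sub_self]
  -- retraction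
  let B := T ⧸ P.I
  let q : Polynomial B := p.map (Ideal.Quotient.mk P.I)
  have hq : q.Monic := hp.map _
  haveI : Nontrivial B := Ideal.Quotient.nontrivial_iff.2 fun h => by
    have h1 : (1 : T) ∈ P.I := h ▸ Submodule.mem_top
    simpa using P.le_ker h1
  have hqd : q.natDegree = d := by rw [hp.natDegree_map, hpd]
  let val : K → AdjoinRoot q := fun b =>
    if b ∈ P.F then AdjoinRoot.of q (Ideal.Quotient.mk P.I (X b)) else if b = a then AdjoinRoot.root q
    else if b ∈ F' then AdjoinRoot.mk q ((lift (gb b)).map (Ideal.Quotient.mk P.I)) else 0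
  let σ : T →ₐ[A] AdjoinRoot q := aeval val
  have hσF : ∀ x ∈ supported A (P.F : Set K), σ x = AdjoinRoot.of q (Ideal.Quotient.mk P.I x) := by
    intro x hx
    induction hx using Algebra.adjoin_induction with
    | mem x hx =>
      obtain ⟨b, hb, rfl⟩ := hx
      show aeval val (X b) = _
      rw [aeval_X]
      exact if_pos hb
    | algebraMap r => rw [AlgHom.commutes]; rfl
    | add x y _ _ hx hy => simp only [map_add, hx, hy]
    | mul x y _ _ hx hy => simp only [map_mul, hx, hy]
  have hliftS : ∀ g j, (lift g).coeff j ∈ supported A (P.F : Set K) := by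
    intro g j
    simp only [lift, Polynomial.finsetSum_coeff, Polynomial.coeff_C_mul_X_pow]
    refine Subalgebra.sum_mem _ fun i _ => ?_
    split_ifs
    · exact X_mem_supported.2 (g.coeff i).2
    · exact Subalgebra.zero_mem _
  have hpS : ∀ j, p.coeff j ∈ supported A (P.F : Set K) := fun j => by
    simp only [p, Polynomial.coeff_add, Polynomial.coeff_X_pow]
    refine Subalgebra.add_mem _ ?_ (hliftS _ j)
    split_ifs
    · exact Subalgebra.one_mem _
    · exact Subalgebra.zero_mem _
  have hσroot : σ (X a) = AdjoinRoot.root q := by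
    show aeval val (X a) = _
    rw [aeval_X]
    show (if a ∈ P.F then _ else _) = _
    rw [if_neg ha, if_pos rfl]
  have hσlift : ∀ g : Polynomial T, (∀ j, g.coeff j ∈ supported A (P.F : Set K)) →
      σ (g.eval (X a)) = AdjoinRoot.mk q (g.map (Ideal.Quotient.mk P.I)) := by
    intro g hg
    conv_rhs => rw [g.as_sum_support_C_mul_X_pow]
    conv_lhs => rw [g.as_sum_support_C_mul_X_pow]
    simp only [Polynomial.eval_finset_sum, map_sum, Polynomial.map_sum]
    refine Finset.sum_congr rfl fun j _ => ?_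
    simp only [Polynomial.eval_mul, Polynomial.eval_C, Polynomial.eval_pow, Polynomial.eval_X, map_mul, map_pow,
      Polynomial.map_mul, Polynomial.map_C, Polynomial.map_pow, Polynomial.map_X, hσF _ (hg j), hσroot,
      AdjoinRoot.mk_C, AdjoinRoot.mk_X]
  have hσI : I' ≤ RingHom.ker σ := by
    refine sup_le (P.gen.trans (Ideal.span_le.2 fun x hx => ?_)) (Ideal.span_le.2 ?_)
    · show σ x = 0
      rw [hσF x hx.2, Ideal.Quotient.eq_zero_iff_mem.2 hx.1, map_zero]
    rintro _ (rfl | ⟨b, hb, rfl⟩)
    · show σ (p.eval (X a)) = 0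
      rw [hσlift p hpS]
      exact AdjoinRoot.mk_self
    · show σ (X b - (lift (gb b)).eval (X a)) = 0
      rw [map_sub, hσlift _ (hliftS _), sub_eq_zero]
      show aeval val (X b) = _
      rw [aeval_X]
      show (if b ∈ P.F then _ else _) = _
      have h1 := hb.2
      simp only [Set.mem_union, Set.mem_singleton_iff, not_or] at h1
      rw [if_neg (show b ∉ P.F from h1.1), if_neg h1.2, if_pos (show b ∈ F' from hb.1)]
  have hofinj : Function.Injective (AdjoinRoot.of q) := by
    refine (injective_iff_map_eq_zero _).2 fun x hx => ?_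
    by_contra hx0
    rw [← AdjoinRoot.mk_C, AdjoinRoot.mk_eq_zero] at hx
    refine hq.not_dvd_of_natDegree_lt (Polynomial.C_ne_zero.2 hx0) ?_ hx
    rw [Polynomial.natDegree_C, hqd]
    exact minpoly.natDegree_pos haF
  have hcompat : ∀ x ∈ supported A (P.F : Set K), x ∈ I' → x ∈ P.I := fun x hx hxI => by
    have h0 : AdjoinRoot.of q (Ideal.Quotient.mk P.I x) = 0 := (hσF x hx).symm.trans (hσI hxI)
    exact Ideal.Quotient.eq_zero_iff_mem.1 (hofinj (h0.trans (map_zero _).symm))
  have hFF' : P.F ≤ F' := fun b hb => IntermediateField.algebraMap_mem _ (⟨b, hb⟩ : P.F)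
  have haF' : a ∈ F' := IntermediateField.subset_adjoin _ _ rfl
  have hgen' : I' ≤ Ideal.span ((I' : Set T) ∩ (supported A (F' : Set K) : Set T)) := by
    have hsub : supported A (P.F : Set K) ≤ supported A (F' : Set K) := supported_mono fun b hb => hFF' hb
    have hev : ∀ g : Polynomial T, (∀ j, g.coeff j ∈ supported A (P.F : Set K)) →
        g.eval (X a) ∈ supported A (F' : Set K) := fun g hg => by
      rw [Polynomial.eval_eq_sum_range]
      exact Subalgebra.sum_mem _ fun j _ => Subalgebra.mul_mem _ (hsub (hg j)) (Subalgebra.pow_mem _ (X_mem_supported.2 haF') _)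
    refine sup_le (P.gen.trans (Ideal.span_mono fun x hx => ⟨Ideal.mem_sup_left hx.1, hsub hx.2⟩)) (Ideal.span_le.2 fun x hx => ?_)
    refine Ideal.subset_span ⟨Ideal.mem_sup_right (Ideal.subset_span hx), ?_⟩
    rcases hx with rfl | ⟨b, hb, rfl⟩
    · exact hev p hpS
    · exact Subalgebra.sub_mem _ (X_mem_supported.2 hb.1) (hev _ (hliftS _))
  refine ⟨⟨F', I', hgen', hI'K, fun s hs => ?_⟩, ⟨hFF', le_sup_left, hcompat⟩, haF'⟩
  -- covering
  let Hs : Finset K := s ∪ (s.biUnion fun b => (gb b).coeffs.image (fun c : P.F => (c : K))) ∪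
    ((μ - Polynomial.X ^ d).coeffs.image fun c : P.F => (c : K))
  let H0 : Finset K := Hs.filter fun b => b ∈ P.F
  obtain ⟨C0, hC0, hH0, _, _, hker⟩ := P.cover H0 fun b hb => (Finset.mem_filter.1 hb).2
  let R : Subring B := C0.toSubring
  have hmemC : ∀ g : Polynomial P.F, (∀ c ∈ g.coeffs, (c : K) ∈ H0) → ∀ j,
      Ideal.Quotient.mk P.I ((lift g).coeff j) ∈ C0 := by
    intro g hg j
    simp only [lift, Polynomial.finsetSum_coeff, Polynomial.coeff_C_mul_X_pow, map_sum]
    refine Subalgebra.sum_mem _ fun i hi => ?_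
    split_ifs
    · exact hH0 _ (hg _ (Polynomial.coeff_mem_coeffs (Polynomial.mem_support_iff.1 hi)))
    · rw [map_zero]; exact Subalgebra.zero_mem _
  have hqC : q ∈ Polynomial.lifts C0.val.toRingHom := by
    rw [Polynomial.lifts_iff_coeff_lifts]
    intro j
    refine ⟨⟨q.coeff j, ?_⟩, rfl⟩
    show q.coeff j ∈ C0
    simp only [q, Polynomial.coeff_map]
    simp only [p, Polynomial.coeff_add, Polynomial.coeff_X_pow, map_add]
    refine Subalgebra.add_mem _ ?_ (hmemC _ (fun c hc => ?_) j)
    · split_ifs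
      · rw [map_one]; exact Subalgebra.one_mem _
      · rw [map_zero]; exact Subalgebra.zero_mem _
    · refine Finset.mem_filter.2 ⟨?_, c.2⟩
      exact Finset.mem_union_right _ (Finset.mem_image_of_mem _ hc)
  haveI : Nontrivial C0 := inferInstance
  obtain ⟨qC, hqC', -, hqCm⟩ := Polynomial.lifts_and_degree_eq_and_monic hqC hq
  have hqCd : qC.natDegree = d := by
    rw [← hqd, ← hqC', hqCm.natDegree_map]
  let ι' : B →ₐ[A] T ⧸ I' := Ideal.Quotient.factorₐ A (le_sup_left : P.I ≤ I')
  have hroot : qC.eval₂ (ι'.comp C0.val : C0 →ₐ[A] T ⧸ I').toRingHom (Ideal.Quotient.mk I' (X a)) = 0 := by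
    have e1 : qC.eval₂ (ι'.comp C0.val : C0 →ₐ[A] T ⧸ I').toRingHom (Ideal.Quotient.mk I' (X a)) =
        q.eval₂ ι'.toRingHom (Ideal.Quotient.mk I' (X a)) := by
      rw [← hqC', Polynomial.eval₂_map]; rfl
    rw [e1, Polynomial.eval₂_map]
    have e2 : ι'.toRingHom.comp (Ideal.Quotient.mk P.I) = Ideal.Quotient.mk I' := by ext <;> rfl
    rw [e2]
    refine ((Polynomial.hom_eval₂ p (RingHom.id T) (Ideal.Quotient.mk I') (X a)).symm).trans ?_
    exact Ideal.Quotient.eq_zero_iff_mem.2 (Ideal.mem_sup_right (Ideal.subset_span (Set.mem_insert _ _)))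
  let Λ : AdjoinRoot qC →ₐ[A] T ⧸ I' :=
    AdjoinRoot.liftAlgHom qC (ι'.comp C0.val) (Ideal.Quotient.mk I' (X a)) hroot
  have hΛmk : ∀ g : Polynomial C0, Λ (AdjoinRoot.mk qC g) =
      g.eval₂ (ι'.comp C0.val : C0 →ₐ[A] T ⧸ I').toRingHom (Ideal.Quotient.mk I' (X a)) := fun g =>
    AdjoinRoot.liftAlgHom_mk _ _ _ _ g
  let σ' : (T ⧸ I') →ₐ[A] AdjoinRoot q := Ideal.Quotient.liftₐ I' σ fun x hx => hσI hx
  have hσ' : ∀ g : Polynomial C0, σ' (Λ (AdjoinRoot.mk qC g)) = AdjoinRoot.mk q (g.map C0.val.toRingHom) := by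
    intro g
    induction g using Polynomial.induction_on' with
    | add g h hg hh => simp only [map_add, Polynomial.map_add, hg, hh]
    | monomial j c =>
      rw [hΛmk, Polynomial.eval₂_monomial, map_mul, map_pow, Polynomial.map_monomial,
        ← Polynomial.C_mul_X_pow_eq_monomial, map_mul, map_pow, AdjoinRoot.mk_C, AdjoinRoot.mk_X]
      obtain ⟨x, hx, hxc⟩ := hC0 c.2
      congr 1
      · show σ' (ι' (c : B)) = AdjoinRoot.of q (c : B)
        rw [← hxc]
        exact hσF x hx
      · congr 1
  haveI : Module.Finite C0 (AdjoinRoot qC) := Module.Finite.of_basis (AdjoinRoot.powerBasis' hqCm).basis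
  haveI : Module.Free C0 (AdjoinRoot qC) := Module.Free.of_basis (AdjoinRoot.powerBasis' hqCm).basis
  haveI : Module.Finite A (AdjoinRoot qC) := Module.Finite.trans C0 _
  haveI : Module.Free A (AdjoinRoot qC) := Module.Free.trans (R := A) (S := C0) (M := AdjoinRoot qC)
  have hΛinj : Function.Injective Λ := by
    refine (injective_iff_map_eq_zero _).2 fun u hu => ?_
    obtain ⟨g, rfl⟩ := AdjoinRoot.mk_surjective u
    rw [AdjoinRoot.mk_eq_zero, ← Polynomial.modByMonic_eq_zero_iff_dvd hqCm]
    have h0 : AdjoinRoot.mk q (g.map C0.val.toRingHom) = 0 := by rw [← hσ', hu, map_zero]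
    rw [AdjoinRoot.mk_eq_zero, ← Polynomial.modByMonic_eq_zero_iff_dvd hq, ← hqC', ← Polynomial.map_modByMonic _ hqCm] at h0
    exact (Polynomial.map_eq_zero_iff Subtype.val_injective).1 h0
  let e : AdjoinRoot qC ≃ₐ[A] Λ.range := AlgEquiv.ofInjective Λ hΛinj
  have hC0Λ : ∀ x : T, Ideal.Quotient.mk P.I x ∈ C0 → Ideal.Quotient.mk I' x ∈ Λ.range := fun x hx =>
    ⟨AdjoinRoot.mk qC (Polynomial.C ⟨_, hx⟩), by
      show Λ (AdjoinRoot.mk qC (Polynomial.C _)) = _
      rw [hΛmk, Polynomial.eval₂_C]; rfl⟩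
  have hXa : Ideal.Quotient.mk I' (X a) ∈ Λ.range := ⟨AdjoinRoot.root qC, AdjoinRoot.liftAlgHom_root _ _ _ _⟩
  have hevg : ∀ g : Polynomial T, (∀ j, Ideal.Quotient.mk P.I (g.coeff j) ∈ C0) →
      Ideal.Quotient.mk I' (g.eval (X a)) ∈ Λ.range := fun g hg => by
    rw [Polynomial.eval_eq_sum_range, map_sum]
    refine Subalgebra.sum_mem _ fun j _ => ?_
    rw [map_mul, map_pow]
    exact Subalgebra.mul_mem _ (hC0Λ _ (hg j)) (Subalgebra.pow_mem _ hXa _)
  refine ⟨Λ.range, ?_, fun b hb => ?_, Module.Finite.equiv e.toLinearEquiv, Module.Free.of_equiv e.toLinearEquiv, fun c hc => ?_⟩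
  · rintro _ ⟨u, rfl⟩
    obtain ⟨g, rfl⟩ := AdjoinRoot.mk_surjective u
    show Λ (AdjoinRoot.mk qC g) ∈ _
    rw [hΛmk, Polynomial.eval₂_eq_sum_range]
    have hXa' : Ideal.Quotient.mk I' (X a) ∈ (supported A (F' : Set K)).map (Ideal.Quotient.mkₐ A I') :=
      ⟨X a, X_mem_supported.2 haF', rfl⟩
    refine Subalgebra.sum_mem _ fun j _ => Subalgebra.mul_mem _ ?_ (Subalgebra.pow_mem _ hXa' _)
    obtain ⟨x, hx, hxc⟩ := hC0 (g.coeff j).2
    exact ⟨x, supported_mono (fun b hb => hFF' hb) hx, by
      show Ideal.Quotient.mk I' x = ι' (g.coeff j : B)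
      rw [← hxc]; rfl⟩
  · by_cases hbF : b ∈ P.F
    · refine hC0Λ _ (hH0 b (Finset.mem_filter.2 ⟨?_, hbF⟩))
      exact Finset.mem_union_left _ (Finset.mem_union_left _ hb)
    by_cases hba : b = a
    · subst hba; exact hXa
    have hrel : X b - (lift (gb b)).eval (X a) ∈ I' := Ideal.mem_sup_right (Ideal.subset_span
      (Set.mem_insert_of_mem _ ⟨b, ⟨hs hb, by simp [hbF, hba]⟩, rfl⟩))
    rw [Ideal.Quotient.eq.2 hrel]
    refine hevg _ (hmemC _ fun c hc => Finset.mem_filter.2 ⟨?_, c.2⟩)
    exact Finset.mem_union_left _ (Finset.mem_union_right _ (Finset.mem_biUnion.2 ⟨b, hb, Finset.mem_image_of_mem _ hc⟩))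
  · obtain ⟨u, rfl⟩ := e.surjective c
    obtain ⟨g, rfl⟩ := AdjoinRoot.mk_surjective u
    rw [← AdjoinRoot.mk_leftInverse hqCm (AdjoinRoot.mk qC g)] at hc ⊢
    set r := AdjoinRoot.modByMonicHom hqCm (AdjoinRoot.mk qC g) with hr
    have hrdeg : r.degree < qC.degree := by
      rw [hr, AdjoinRoot.modByMonicHom_mk]; exact Polynomial.degree_modByMonic_lt g hqCm
    let evC : C0 →+* K := P.ev.toRingHom.comp C0.val.toRingHom
    have hce : ∀ z : C0, evC z ∈ P.F := by
      intro z
      obtain ⟨x, hx, hxc⟩ := hC0 z.2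
      show P.ev (z : B) ∈ P.F
      rw [← hxc]
      show aeval (id : K → K) x ∈ P.F
      clear hxc
      induction hx using Algebra.adjoin_induction with
      | mem x hx => obtain ⟨b, hb, rfl⟩ := hx; rw [aeval_X]; exact hb
      | algebraMap t => rw [AlgHom.commutes, algebraMap_K]; exact P.F.algebraMap_mem _
      | add x y _ _ hx hy => rw [map_add]; exact P.F.add_mem hx hy
      | mul x y _ _ hx hy => rw [map_mul]; exact P.F.mul_mem hx hy
    let evF : C0 →+* P.F := evC.codRestrict P.F.toSubalgebra hce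
    have hzero : r.map evF = 0 := by
      refine Polynomial.eq_zero_of_dvd_of_degree_lt (p := μ) (minpoly.dvd _ _ ?_) ?_
      · rw [Polynomial.aeval_def, Polynomial.eval₂_map]
        refine Eq.trans ?_ hc
        have hev' : ∀ t, Ideal.Quotient.liftₐ I' (aeval (id : K → K)) (fun x hx => hI'K hx) (ι' t) = P.ev t := fun t => by
          obtain ⟨t, rfl⟩ := Ideal.Quotient.mk_surjective t; rfl
        show _ = Ideal.Quotient.liftₐ I' (aeval (id : K → K)) (fun x hx => hI'K hx) (Λ (AdjoinRoot.mk qC r))
        rw [hΛmk]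
        refine ((Polynomial.hom_eval₂ r (ι'.comp C0.val : C0 →ₐ[A] T ⧸ I').toRingHom
          (Ideal.Quotient.liftₐ I' (aeval (id : K → K)) (fun x hx => hI'K hx)).toRingHom
          (Ideal.Quotient.mk I' (X a))).trans ?_).symm
        congr 1
        · ext z; exact hev' (z : B)
        · exact aeval_X (id : K → K) a
      · refine (Polynomial.degree_map_le).trans_lt (hrdeg.trans_eq ?_)
        rw [Polynomial.degree_eq_natDegree hqCm.ne_zero, hqCd, Polynomial.degree_eq_natDegree hμ.ne_zero]
    have hcoef : ∀ j, r.coeff j ∈ m • (⊤ : Submodule A C0) := fun j => hker _ (by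
      have := congrArg (fun v : Polynomial P.F => ((v.coeff j : P.F) : K)) hzero
      rw [Polynomial.coeff_map, Polynomial.coeff_zero] at this
      exact this)
    have hmem : AdjoinRoot.mk qC r ∈ m • (⊤ : Submodule A (AdjoinRoot qC)) := by
      rw [r.as_sum_support_C_mul_X_pow, map_sum]
      refine Submodule.sum_mem _ fun j _ => ?_
      let M : C0 →ₗ[A] AdjoinRoot qC :=
        ((LinearMap.mulRight C0 ((AdjoinRoot.root qC) ^ j)).comp (Algebra.linearMap C0 (AdjoinRoot qC))).restrictScalars A
      have := Submodule.mem_map_of_mem (f := M) (hcoef j)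
      rw [Submodule.map_smul''] at this
      have h1 := Submodule.smul_mono le_rfl le_top this
      convert h1 using 1
      simp [M, AdjoinRoot.algebraMap_eq]
    have := Submodule.mem_map_of_mem (f := e.toLinearEquiv.toLinearMap) hmem
    rw [Submodule.map_smul''] at this
    exact Submodule.smul_mono le_rfl le_top this

variable (A K)

theorem exists_full [Algebra.IsAlgebraic k K] : ∃ P : Obj A K, ∀ a : K, a ∈ P.F := by
  haveI := exists_base A K
  obtain ⟨P, hP⟩ := zorn_le (bddAbove_chain A K)
  refine ⟨P, fun a => ?_⟩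
  by_contra ha
  obtain ⟨Q, hPQ, haQ⟩ := exists_gt P ha
  exact ha ((hP hPQ).1 haQ)

end Inflate

open Inflate

/-- Inflation along an algebraic extension of the residue field. -/
theorem exists_inflation_algebraic (A : Type u) [CommRing A] [IsLocalRing A] [IsNoetherianRing A]
    (K : Type u) [Field K] [Algebra (IsLocalRing.ResidueField A) K]
    [Algebra.IsAlgebraic (IsLocalRing.ResidueField A) K] :
    ∃ (B : Type u) (_ : CommRing B) (_ : Algebra A B), IsNoetherianRing B ∧ IsLocalRing B ∧
      IsLocalHom (algebraMap A B) ∧ Module.Flat A B ∧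
      (Module.Finite (IsLocalRing.ResidueField A) K → Module.Finite A B) ∧
      ∃ e : (B ⧸ (IsLocalRing.maximalIdeal A).map (algebraMap A B)) ≃+* K,
        ∀ a : A, e (Ideal.Quotient.mk _ (algebraMap A B a)) =
          algebraMap (IsLocalRing.ResidueField A) K (IsLocalRing.residue A a) := by
  classical
  letI : Algebra A K := ((algebraMap (IsLocalRing.ResidueField A) K).comp (IsLocalRing.residue A)).toAlgebra
  haveI : IsScalarTower A (IsLocalRing.ResidueField A) K := IsScalarTower.of_algebraMap_eq fun _ => rfl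
  obtain ⟨P, hP⟩ := exists_full A K
  let B := MvPolynomial K A ⧸ P.I
  let M : Ideal B := RingHom.ker P.ev
  have hsurj : Function.Surjective P.ev := fun b => ⟨Ideal.Quotient.mk _ (X b), by rw [P.ev_mk, aeval_X]; rfl⟩
  have hcover : ∀ s : Finset B, ∃ C : Subalgebra A B, (s : Set B) ⊆ C ∧ Module.Finite A C ∧ Module.Free A C ∧
      ∀ c : C, P.ev c = 0 → c ∈ IsLocalRing.maximalIdeal A • (⊤ : Submodule A C) := by
    intro s
    choose g hg using fun x : B => Ideal.Quotient.mk_surjective x
    obtain ⟨C, -, hX, h1, h2, h3⟩ := P.cover (s.biUnion fun x => (g x).vars) (fun b _ => hP b)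
    refine ⟨C, fun x hx => ?_, h1, h2, h3⟩
    have key : ∀ f : MvPolynomial K A, (∀ b ∈ f.vars, b ∈ s.biUnion fun x => (g x).vars) →
        Ideal.Quotient.mk P.I f ∈ C := by
      intro f hf
      have hle : supported A (f.vars : Set K) ≤ C.comap (Ideal.Quotient.mkₐ A P.I) := by
        rw [supported_eq_adjoin_X, Algebra.adjoin_le_iff]
        rintro _ ⟨b, hb, rfl⟩
        exact hX b (hf b hb)
      exact hle (mem_supported_vars f)
    rw [← hg x]
    exact key _ fun b hb => Finset.mem_biUnion.2 ⟨x, hx, hb⟩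
  have hker : (IsLocalRing.maximalIdeal A).map (algebraMap A B) = M := by
    refine le_antisymm (Ideal.map_le_iff_le_comap.2 fun a ha => ?_) fun x hx => ?_
    · show P.ev (algebraMap A B a) = 0
      rw [AlgHom.commutes, algebraMap_eq_zero_iff']; exact ha
    · obtain ⟨C, hC, _, _, h3⟩ := hcover {x}
      have := Submodule.mem_map_of_mem (f := C.val.toLinearMap) (h3 ⟨x, hC (by simp)⟩ hx)
      rw [Submodule.map_smul''] at this
      have h1 := Submodule.smul_mono le_rfl le_top this
      rw [Ideal.smul_top_eq_map, Submodule.restrictScalars_mem] at h1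
      exact h1
  haveI hMmax : M.IsMaximal := RingHom.ker_isMaximal_of_surjective _ hsurj
  haveI : Algebra.IsIntegral A B := ⟨fun x => by
    obtain ⟨C, hC, _, _, -⟩ := hcover {x}
    exact (Algebra.IsIntegral.isIntegral (R := A) (⟨x, hC (by simp)⟩ : C)).map C.val⟩
  have hunique : ∀ Q : Ideal B, Q.IsMaximal → Q = M := fun Q hQ => by
    refine (hMmax.eq_of_le hQ.ne_top ?_).symm
    rw [← hker, Ideal.map_le_iff_le_comap]
    haveI : (Q.comap (algebraMap A B)).IsMaximal := Ideal.isMaximal_comap_of_isIntegral_of_isMaximal Q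
    exact (IsLocalRing.eq_maximalIdeal ‹_›).ge
  haveI hBloc : IsLocalRing B := IsLocalRing.of_unique_max_ideal ⟨M, hMmax, hunique⟩
  have hMeq : IsLocalRing.maximalIdeal B = M := (IsLocalRing.eq_maximalIdeal hMmax).symm
  haveI hlocal : IsLocalHom (algebraMap A B) := ⟨fun a ha => by
    by_contra hna
    have : algebraMap A B a ∈ M := hker ▸ Ideal.mem_map_of_mem _ (show a ∈ IsLocalRing.maximalIdeal A from hna)
    exact hMmax.ne_top (Ideal.eq_top_of_isUnit_mem _ this ha)⟩
  haveI hflat : Module.Flat A B := by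
    refine Module.Flat.of_forall_isTrivialRelation fun {l a x} hax => ?_
    obtain ⟨C, hC, _, _, -⟩ := hcover (Finset.univ.image x)
    have hx : ∀ j, x j ∈ C := fun j => hC (by simp)
    have h0 : ∑ j, a j • (⟨x j, hx j⟩ : C) = 0 := Subtype.ext (by simpa using hax)
    obtain ⟨n, b, z, hb, hb'⟩ := Module.Flat.isTrivialRelation_of_sum_smul_eq_zero (R := A) (M := C) h0
    exact ⟨n, b, fun t => (z t : B), fun j => by simpa using congrArg Subtype.val (hb j), hb'⟩
  have hlocC : ∀ C : Subalgebra A B, Module.Finite A C →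
      (∀ c : C, P.ev c = 0 → c ∈ IsLocalRing.maximalIdeal A • (⊤ : Submodule A C)) →
      ∃ _ : IsLocalRing C, (IsLocalRing.maximalIdeal A).map (algebraMap A C) = IsLocalRing.maximalIdeal C ∧
        IsLocalHom (algebraMap C B) := by
    intro C _ h3
    let N : Ideal C := M.comap (algebraMap C B)
    have hN : (IsLocalRing.maximalIdeal A).map (algebraMap A C) = N := by
      refine le_antisymm (Ideal.map_le_iff_le_comap.2 fun a ha => ?_) fun c hc => ?_
      · show algebraMap A B a ∈ M
        rw [← hker]; exact Ideal.mem_map_of_mem _ ha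
      · have := h3 c hc
        rwa [Ideal.smul_top_eq_map, Submodule.restrictScalars_mem] at this
    haveI : Algebra.IsIntegral C B := Algebra.IsIntegral.tower_top A
    haveI hNmax : N.IsMaximal := Ideal.isMaximal_comap_of_isIntegral_of_isMaximal M
    have huniq : ∀ Q : Ideal C, Q.IsMaximal → Q = N := fun Q hQ => by
      refine (hNmax.eq_of_le hQ.ne_top ?_).symm
      rw [← hN, Ideal.map_le_iff_le_comap]
      haveI : (Q.comap (algebraMap A C)).IsMaximal := Ideal.isMaximal_comap_of_isIntegral_of_isMaximal Q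
      exact (IsLocalRing.eq_maximalIdeal ‹_›).ge
    haveI hCloc : IsLocalRing C := IsLocalRing.of_unique_max_ideal ⟨N, hNmax, huniq⟩
    refine ⟨hCloc, hN.trans (IsLocalRing.eq_maximalIdeal hNmax), ⟨fun c hc => ?_⟩⟩
    by_contra hnc
    have : c ∈ N := (IsLocalRing.eq_maximalIdeal hNmax) ▸ (show c ∈ IsLocalRing.maximalIdeal C from hnc)
    exact hMmax.ne_top (Ideal.eq_top_of_isUnit_mem _ this hc)
  have hnoeth : IsNoetherianRing B := by
    refine isNoetherianRing_of_cover.{u, u} ?_ fun s => ?_
    · rw [hMeq, ← hker]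
      exact Ideal.FG.map (IsNoetherian.noetherian _) _
    · obtain ⟨C, hC, hfin, hfree, h3⟩ := hcover s
      obtain ⟨hCloc, hCmax, hCB⟩ := hlocC C hfin h3
      haveI : IsNoetherianRing C := isNoetherian_of_tower A (isNoetherian_of_isNoetherianRing_of_finite A C)
      refine ⟨C, inferInstance, hCloc, inferInstance, algebraMap C B, fun x hx => ⟨⟨x, hC hx⟩, rfl⟩, ?_, fun J => ?_⟩
      · rw [← hCmax, Ideal.map_map, ← IsScalarTower.algebraMap_eq, hker, hMeq]
      · refine le_antisymm (fun c hc => ?_) Ideal.le_comap_map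
        obtain ⟨w, hw⟩ : ∃ w : J →₀ B, w.sum (fun j b => b * algebraMap C B (j : C)) = algebraMap C B c := by
          have hc' : algebraMap C B c ∈ Submodule.span B (Set.range fun j : J => algebraMap C B (j : C)) := by
            rw [show Set.range (fun j : J => algebraMap C B (j : C)) = algebraMap C B '' J by ext; simp]
            exact hc
          obtain ⟨w, hw⟩ := (Finsupp.mem_span_range_iff_exists_finsupp).1 hc'
          exact ⟨w, by simpa using hw⟩
        obtain ⟨G, hG⟩ := Module.Finite.fg_top (R := A) (M := C)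
        obtain ⟨C', hC', hfin', hfree', h3'⟩ := hcover (G.image (fun g : C => (g : B)) ∪ w.support.image w)
        obtain ⟨hC'loc, hC'max, hC'B⟩ := hlocC C' hfin' h3'
        have hle : C ≤ C' := fun x hx => by
          have : (⟨x, hx⟩ : C) ∈ Submodule.span A (G : Set C) := hG ▸ Submodule.mem_top
          refine (Submodule.span_le.2 ?_ : Submodule.span A (G : Set C) ≤ C'.toSubmodule.comap C.val.toLinearMap) this
          intro g hg
          exact hC' (by simp only [Finset.coe_union, Finset.coe_image]; exact Or.inl ⟨g, hg, rfl⟩)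
        letI : Algebra C C' := (Subalgebra.inclusion hle).toRingHom.toAlgebra
        haveI : IsScalarTower A C C' := IsScalarTower.of_algebraMap_eq fun _ => rfl
        haveI : IsLocalHom (algebraMap C C') := ⟨fun z hz => hCB.map_nonunit z (hz.map (algebraMap C' B))⟩
        haveI := faithfullyFlat_of_unramified_free (A := A) (C := C) (C' := C') hCmax hC'max
        rw [← Ideal.comap_map_eq_self_of_faithfullyFlat (B := C') J, Ideal.mem_comap]
        have hwC : ∀ j ∈ w.support, w j ∈ C' := fun j hj => hC' (by simp only [Finset.coe_union, Finset.coe_image]; exact Or.inr ⟨j, hj, rfl⟩)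
        have e1 : algebraMap C C' c = ∑ j ∈ w.support.attach, (⟨w j.1, hwC j.1 j.2⟩ : C') * algebraMap C C' (j.1 : C) := by
          refine Subtype.ext ?_
          rw [AddSubmonoidClass.coe_finsetSum]
          show algebraMap C B c = _
          rw [← hw, Finsupp.sum, ← Finset.sum_attach]
          rfl
        rw [e1]
        exact Ideal.sum_mem _ fun j _ => Ideal.mul_mem_left _ _ (Ideal.mem_map_of_mem _ j.1.2)
  refine ⟨B, inferInstance, inferInstance, hnoeth, hBloc, hlocal, hflat, fun hfin => ?_, ?_⟩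
  · obtain ⟨G, hG⟩ := hfin.fg_top
    obtain ⟨C, hC, hCfin, hCfree, h3⟩ := hcover (G.image fun b => Ideal.Quotient.mk P.I (X b))
    obtain ⟨hCloc, hCmax, hCB⟩ := hlocC C hCfin h3
    suffices htop : C = ⊤ from Module.Finite.equiv ((Subalgebra.equivOfEq _ _ htop).trans Subalgebra.topEquiv).toLinearEquiv
    refine eq_top_iff.2 fun x _ => ?_
    obtain ⟨C', hC', hC'fin, hC'free, h3'⟩ := hcover ({x} ∪ G.image fun b => Ideal.Quotient.mk P.I (X b))
    have hres : ∀ y : B, ∃ c : C, P.ev c = P.ev y := by
      intro y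
      have hy : P.ev y ∈ Submodule.span (IsLocalRing.ResidueField A) (G : Set K) := hG ▸ Submodule.mem_top
      rw [Submodule.mem_span_finset] at hy
      obtain ⟨f, -, hf⟩ := hy
      choose a ha using fun b => IsLocalRing.residue_surjective (f b)
      refine ⟨∑ b ∈ G.attach, a b.1 • ⟨Ideal.Quotient.mk P.I (X b.1), hC (by simp only [Finset.coe_image]; exact ⟨b.1, b.2, rfl⟩)⟩, ?_⟩
      rw [← hf, AddSubmonoidClass.coe_finsetSum, map_sum, ← Finset.sum_attach G]
      refine Finset.sum_congr rfl fun b _ => ?_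
      show P.ev (a b.1 • Ideal.Quotient.mk P.I (X b.1)) = f b.1 • b.1
      rw [map_smul, P.ev_mk, aeval_X, Algebra.smul_def, Algebra.smul_def, algebraMap_K, ha]
      rfl
    -- Nakayama in a finite subalgebra containing `x` and `C`
    obtain ⟨G', hG'⟩ := (Module.Finite.iff_fg (N := Subalgebra.toSubmodule C)).1 hCfin
    obtain ⟨D, hD, hDfin, hDfree, h3D⟩ := hcover ({x} ∪ G')
    have hCD : C ≤ D := fun y hy => by
      have hy' : y ∈ Submodule.span A (G' : Set B) := by rw [hG']; exact hy
      refine (Submodule.span_le.2 ?_ : Submodule.span A (G' : Set B) ≤ D.toSubmodule) hy'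
      intro g hg; exact hD (by simp only [Finset.coe_union]; exact Or.inr hg)
    have hDC : D.toSubmodule ≤ C.toSubmodule := by
      refine Submodule.le_of_le_smul_of_le_jacobson_bot ((Module.Finite.iff_fg (N := Subalgebra.toSubmodule D)).1 hDfin)
        (IsLocalRing.maximalIdeal_le_jacobson (⊥ : Ideal A)) fun y hy => ?_
      obtain ⟨c, hc⟩ := hres y
      refine Submodule.mem_sup.2 ⟨c, c.2, y - c, ?_, by ring⟩
      have hd := h3D ⟨y - c, D.sub_mem hy (hCD c.2)⟩ (by rw [map_sub, hc, sub_self])
      have := Submodule.mem_map_of_mem (f := D.val.toLinearMap) hd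
      rw [Submodule.map_smul'', Submodule.map_top] at this
      refine Submodule.smul_mono le_rfl ?_ this
      rintro _ ⟨d, rfl⟩; exact d.2
    exact hDC (hD (by simp))
  · let e : (B ⧸ (IsLocalRing.maximalIdeal A).map (algebraMap A B)) ≃+* K :=
      (Ideal.quotEquivOfEq hker).trans (RingHom.quotientKerEquivOfSurjective hsurj)
    exact ⟨e, fun a => P.ev.commutes a⟩

end Groth.Calg2
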