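import Groth.Prelude.Def_Found
import Groth.Agent.S2363
import Groth.Agent.Ega41Sep.Separable
import Mathlib

/-!
Existence of Cohen rings and their lifting property.
-/

set_option autoImplicit false

universe u v

open IsLocalRing

namespace Groth.Calg2.CohenRing

/-! ### Existence -/

/-- A complete local ring with nonzerodivisor `p` generating the maximal ideal is a Cohen ring. -/
theorem isCohenRing_of {Λ : Type u} [CommRing Λ] [IsLocalRing Λ]
    [IsAdicComplete (maximalIdeal Λ) Λ] {p : ℕ} (hp : p.Prime)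
    (hm : maximalIdeal Λ = Ideal.span {(p : Λ)}) (hreg : ∀ x : Λ, (p : Λ) * x = 0 → x = 0) :
    CAlg.IsCohenRing Λ := by
  have hfac : ∀ x : Λ, x ≠ 0 → ∃ n : ℕ, Associated ((p : Λ) ^ n) x := by
    intro x hx
    classical
    have hex : ∃ n, x ∉ maximalIdeal Λ ^ n := by
      by_contra! h
      refine hx (IsHausdorff.haus (inferInstance : IsHausdorff (maximalIdeal Λ) Λ) x fun n => ?_)
      rw [SModEq.zero, smul_eq_mul, Ideal.mul_top]
      exact h n
    obtain ⟨k, hk⟩ : ∃ k, Nat.find hex = k + 1 := Nat.exists_eq_succ_of_ne_zero fun h0 => by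
      have := Nat.find_spec hex
      rw [h0, pow_zero] at this
      exact this (by simp)
    have h1 : x ∈ maximalIdeal Λ ^ k := not_not.1 (Nat.find_min hex (by omega))
    have h2 := Nat.find_spec hex
    rw [hk] at h2
    rw [hm, Ideal.span_singleton_pow, Ideal.mem_span_singleton] at h1 h2
    obtain ⟨w, rfl⟩ := h1
    have hw : IsUnit w := by
      by_contra hw
      have hwm : w ∈ Ideal.span {(p : Λ)} := hm ▸ hw
      exact h2 (by rw [pow_succ]; exact mul_dvd_mul_left _ (Ideal.mem_span_singleton.1 hwm))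
    exact ⟨k, hw.unit, rfl⟩
  have hne : ∀ n : ℕ, ∀ x : Λ, (p : Λ) ^ n * x = 0 → x = 0 := by
    intro n
    induction n with
    | zero => intro x hx; simpa using hx
    | succ n ih => intro x hx; exact hreg x (ih _ (by rw [← hx]; ring))
  haveI : NoZeroDivisors Λ := ⟨fun {x y} h => by
    by_contra hc
    rw [not_or] at hc
    obtain ⟨a, u, hu⟩ := hfac x hc.1
    obtain ⟨b, w, hw⟩ := hfac y hc.2
    have : (p : Λ) ^ (a + b) * ((u * w : Λˣ) : Λ) = 0 := by
      rw [Units.val_mul, ← h, ← hu, ← hw]; ring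
    exact (u * w).ne_zero (hne _ _ this)⟩
  haveI : IsDomain Λ := NoZeroDivisors.to_isDomain Λ
  have hp0 : (p : Λ) ≠ 0 := fun h0 => one_ne_zero (hreg 1 (by rw [h0, zero_mul]))
  have hpu : ¬ IsUnit (p : Λ) := fun h =>
    (maximalIdeal Λ).ne_top_iff_one.1 (IsLocalRing.maximalIdeal.isMaximal Λ).ne_top
      (hm ▸ (Ideal.span_singleton_eq_top.2 h).symm ▸ Submodule.mem_top)
  have hprime : Prime (p : Λ) := by
    rw [← Ideal.span_singleton_prime hp0, ← hm]
    infer_instance
  haveI : IsDiscreteValuationRing Λ :=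
    IsDiscreteValuationRing.ofHasUnitMulPowIrreducibleFactorization
      ⟨(p : Λ), hprime.irreducible, fun {x} hx => hfac x hx⟩
  exact ⟨inferInstance, inferInstance, inferInstance, p, hp, hm⟩

instance (p : ℕ) [Fact p.Prime] :
    (Ideal.span {((p : ℤ))}).IsPrime :=
  (Ideal.span_singleton_prime (by exact_mod_cast (Fact.out : p.Prime).ne_zero)).2
    (Nat.prime_iff_prime_int.1 Fact.out)

/-- Cohen rings exist. -/
theorem exists_cohenRing (p : ℕ) [Fact p.Prime] (k : Type u) [Field k] [CharP k p] :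
    ∃ (Λ : Type u) (_ : CommRing Λ) (_ : IsLocalRing Λ), CAlg.IsCohenRing Λ ∧
      Nonempty (IsLocalRing.ResidueField Λ ≃+* k) := by
  let q : Ideal (ULift.{u} ℤ) := (Ideal.span {(p : ℤ)}).comap (ULift.ringEquiv : ULift.{u} ℤ ≃+* ℤ).toRingHom
  haveI : IsNoetherianRing (ULift.{u} ℤ) := isNoetherianRing_of_ringEquiv ℤ ULift.ringEquiv.symm
  let A := Localization.AtPrime q
  haveI : IsNoetherianRing A := IsLocalization.isNoetherianRing q.primeCompl A inferInstance
  let φ : ULift.{u} ℤ →+* k := (Int.castRingHom k).comp ULift.ringEquiv.toRingHom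
  have hφ : ∀ y : q.primeCompl, IsUnit (φ y) := fun y => by
    refine isUnit_iff_ne_zero.2 fun h => y.2 ?_
    change ULift.ringEquiv (y : ULift.{u} ℤ) ∈ Ideal.span {(p : ℤ)}
    exact Ideal.mem_span_singleton.2 ((CharP.intCast_eq_zero_iff k p _).1 h)
  let ψ : A →+* k := IsLocalization.lift hφ
  haveI : IsLocalHom ψ := ⟨fun a ha => by
    obtain ⟨⟨x, s⟩, rfl⟩ := IsLocalization.mk'_surjective q.primeCompl a
    rw [IsLocalization.AtPrime.isUnit_mk'_iff A q]
    intro hx
    refine ha.ne_zero ((IsLocalization.lift_mk'_spec hφ x 0 s).2 ?_)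
    rw [mul_zero]
    exact (CharP.intCast_eq_zero_iff k p _).2 (Ideal.mem_span_singleton.1 hx)⟩
  letI : Algebra (ResidueField A) k := (ResidueField.lift ψ).toAlgebra
  obtain ⟨B, _, _, hN, hL, hlh, hflat, e, -⟩ := Groth.Agent.S2363.result (A := A) k
  have hmA : maximalIdeal A = Ideal.span {(p : A)} := by
    rw [← IsLocalization.AtPrime.map_eq_maximalIdeal q A]
    have : q = Ideal.span {(p : ULift.{u} ℤ)} := by
      ext x
      simp only [q, Ideal.mem_comap, Ideal.mem_span_singleton, RingEquiv.toRingHom_eq_coe, RingEquiv.coe_toRingHom]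
      rw [← map_dvd_iff (ULift.ringEquiv : ULift.{u} ℤ ≃+* ℤ) (a := (p : ULift.{u} ℤ)), map_natCast]
    exact (congrArg (Ideal.map _) this).trans (by rw [Ideal.map_span, Set.image_singleton, map_natCast])
  haveI : ((maximalIdeal A).map (algebraMap A B)).IsMaximal :=
    Ideal.Quotient.maximal_of_isField _ (e.toMulEquiv.isField (Field.toIsField k))
  have hmB : maximalIdeal B = Ideal.span {(p : B)} := by
    rw [← IsLocalRing.eq_maximalIdeal (inferInstance : ((maximalIdeal A).map (algebraMap A B)).IsMaximal),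
      hmA, Ideal.map_span, Set.image_singleton, map_natCast]
  let L := AdicCompletion (maximalIdeal B) B
  have hmL : maximalIdeal L = Ideal.span {(p : L)} := by
    rw [AdicCompletion.maximalIdeal_eq_map]
    exact (congrArg (Ideal.map _) hmB).trans (by rw [Ideal.map_span, Set.image_singleton, map_natCast])
  haveI : IsDomain (ULift.{u} ℤ) := (ULift.ringEquiv : ULift.{u} ℤ ≃+* ℤ).toMulEquiv.isDomain ℤ
  haveI : IsDomain A := IsLocalization.isDomain_localization (Ideal.primeCompl_le_nonZeroDivisors q)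
  have hpA : (p : A) ≠ 0 := fun h => by
    have h' : algebraMap (ULift.{u} ℤ) A (p : ULift.{u} ℤ) = 0 := by rw [map_natCast]; exact h
    have h'' := (IsLocalization.injective A (Ideal.primeCompl_le_nonZeroDivisors q))
      (h'.trans (map_zero _).symm)
    exact (Fact.out : p.Prime).ne_zero (by
      have := congrArg ULift.ringEquiv h''; simpa using this)
  have hregB : ∀ x : B, (p : B) * x = 0 → x = 0 := fun x hx =>
    Module.Flat.isSMulRegular_of_isRegular (M := B) (isRegular_of_ne_zero hpA) (a₁ := x) (a₂ := 0)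
      (by simpa [Algebra.smul_def] using hx)
  haveI : Module.Flat B L := AdicCompletion.flat_of_isNoetherian (maximalIdeal B)
  have hregL : ∀ x : L, (p : L) * x = 0 → x = 0 := fun x hx =>
    (IsSMulRegular.of_flat (S := L) (x := (p : B)) (fun a b h => by
      have := hregB (a - b) (by rw [mul_sub]; exact sub_eq_zero.2 h)
      exact sub_eq_zero.1 this)) (a₁ := x) (a₂ := 0) (by simpa using hx)
  refine ⟨L, inferInstance, inferInstance, isCohenRing_of Fact.out hmL hregL, ⟨?_⟩⟩
  exact ((RingEquiv.ofBijective _ (AdicCompletion.residueField_map_bijective B)).symm.trans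
    (Ideal.quotEquivOfEq (IsLocalRing.eq_maximalIdeal
      (inferInstance : ((maximalIdeal A).map (algebraMap A B)).IsMaximal)).symm)).trans e

/-! ### Lifting -/

section Lift

variable {Λ : Type u} [CommRing Λ] {p : ℕ} [Fact p.Prime]

/-- Lifting along a square-zero extension whose kernel is killed by `p`. -/
theorem exists_lift_square_zero (hreg : ∀ x : Λ, (p : Λ) * x = 0 → x = 0)
    [hmax : (Ideal.span {(p : Λ)}).IsMaximal]
    {C C' : Type v} [CommRing C] [CommRing C'] (g : Λ →+* C) (π : C' →+* C)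
    (hπ : Function.Surjective π) (hsq : ∀ a b, π a = 0 → π b = 0 → a * b = 0)
    (hpJ : ∀ a, π a = 0 → (p : C') * a = 0) :
    ∃ g' : Λ →+* C', π.comp g' = g := by
  classical
  letI := Ideal.Quotient.field (Ideal.span {(p : Λ)})
  let E : Subring (Λ × C') :=
    RingHom.eqLocus (g.comp (RingHom.fst Λ C')) (π.comp (RingHom.snd Λ C'))
  let q : E →+* Λ := (RingHom.fst Λ C').comp E.subtype
  have hq : Function.Surjective q := fun l => by
    obtain ⟨c, hc⟩ := hπ (g l)
    exact ⟨⟨(l, c), hc.symm⟩, rfl⟩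
  let P : Ideal E := Ideal.span {(p : E)}
  have hqp : ∀ z ∈ P, Ideal.Quotient.mk (Ideal.span {(p : Λ)}) (q z) = 0 := by
    intro z hz
    obtain ⟨w, rfl⟩ := Ideal.mem_span_singleton.1 hz
    rw [map_mul, map_natCast, Ideal.Quotient.eq_zero_iff_mem]
    exact Ideal.mul_mem_right _ _ (Ideal.mem_span_singleton_self _)
  let qb : (E ⧸ P) →+* (Λ ⧸ Ideal.span {(p : Λ)}) := Ideal.Quotient.lift P ((Ideal.Quotient.mk _).comp q) hqp
  have hqb : Function.Surjective qb :=
    Ideal.Quotient.lift_surjective_of_surjective P hqp (Ideal.Quotient.mk_surjective.comp hq)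
  haveI : Nontrivial (E ⧸ P) := qb.domain_nontrivial
  haveI : CharP (E ⧸ P) p := by
    refine (CharP.charP_iff_prime_eq_zero (R := E ⧸ P) Fact.out).2 ?_
    rw [← map_natCast (Ideal.Quotient.mk P), Ideal.Quotient.eq_zero_iff_mem]
    exact Ideal.mem_span_singleton_self _
  haveI : CharP (Λ ⧸ Ideal.span {(p : Λ)}) p := by
    refine (CharP.charP_iff_prime_eq_zero (R := Λ ⧸ Ideal.span {(p : Λ)}) Fact.out).2 ?_
    rw [← map_natCast (Ideal.Quotient.mk (Ideal.span {(p : Λ)})), Ideal.Quotient.eq_zero_iff_mem]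
    exact Ideal.mem_span_singleton_self _
  letI : Algebra (Ega41Sep.ZModU.{u} p) (E ⧸ P) :=
    RingHom.toAlgebra' ((ZMod.castHom dvd_rfl (E ⧸ P)).comp (ULift.ringEquiv.toRingHom :
      Ega41Sep.ZModU.{u} p →+* ZMod p)) fun _ _ => Commute.all _ _
  letI : Algebra (Ega41Sep.ZModU.{u} p) (Λ ⧸ Ideal.span {(p : Λ)}) :=
    RingHom.toAlgebra' ((ZMod.castHom dvd_rfl (Λ ⧸ Ideal.span {(p : Λ)})).comp (ULift.ringEquiv.toRingHom :
      Ega41Sep.ZModU.{u} p →+* ZMod p)) fun _ _ => Commute.all _ _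
  haveI : Algebra.FormallySmooth (Ega41Sep.ZModU.{u} p) (Λ ⧸ Ideal.span {(p : Λ)}) :=
    Ega41Sep.formallySmooth_zmodU p _
  let qa : (E ⧸ P) →ₐ[Ega41Sep.ZModU.{u} p] (Λ ⧸ Ideal.span {(p : Λ)}) :=
    { qb with commutes' := fun r => RingHom.congr_fun (Subsingleton.elim (qb.comp (ZMod.castHom dvd_rfl (E ⧸ P)))
        (ZMod.castHom dvd_rfl (Λ ⧸ Ideal.span {(p : Λ)}))) (ULift.ringEquiv r) }
  have hker : ∀ z : E ⧸ P, qb z = 0 → ∃ j : E, q j = 0 ∧ Ideal.Quotient.mk P j = z := by
    intro z hz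
    obtain ⟨z, rfl⟩ := Ideal.Quotient.mk_surjective z
    obtain ⟨l, hl⟩ := Ideal.mem_span_singleton.1
      (Ideal.Quotient.eq_zero_iff_mem.1 (show Ideal.Quotient.mk (Ideal.span {(p : Λ)}) (q z) = 0 from hz))
    obtain ⟨w, hw⟩ := hq l
    refine ⟨z - (p : E) * w, by rw [map_sub, map_mul, map_natCast, hw, hl, sub_self], ?_⟩
    rw [map_sub, Ideal.Quotient.eq_zero_iff_mem.2
      (Ideal.mul_mem_right w P (Ideal.mem_span_singleton_self (p : E))), sub_zero]
  have hJ : ∀ j : E, q j = 0 → π j.1.2 = 0 := fun j hj => by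
    have h : g j.1.1 = π j.1.2 := j.2
    rw [show j.1.1 = 0 from hj, map_zero] at h
    exact h.symm
  have hnil : IsNilpotent (RingHom.ker (qa : (E ⧸ P) →+* (Λ ⧸ Ideal.span {(p : Λ)}))) := by
    refine ⟨2, ?_⟩
    rw [show (2 : ℕ) = 1 + 1 from rfl, Submodule.pow_succ, Submodule.pow_one, Ideal.zero_eq_bot, eq_bot_iff, Ideal.mul_le]
    intro a ha b hb
    obtain ⟨a, hqa, rfl⟩ := hker a ha
    obtain ⟨b, hqb, rfl⟩ := hker b hb
    rw [Ideal.mem_bot, ← map_mul]
    have : a * b = 0 := by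
      refine Subtype.ext (Prod.ext ?_ (hsq _ _ (hJ a hqa) (hJ b hqb)))
      change q a * q b = 0
      rw [hqa, zero_mul]
    rw [this, map_zero]
  let s := Algebra.FormallySmooth.liftOfSurjective (AlgHom.id (Ega41Sep.ZModU.{u} p) (Λ ⧸ Ideal.span {(p : Λ)})) qa hqb hnil
  have hs : ∀ y, qb (s y) = y := fun y =>
    Algebra.FormallySmooth.liftOfSurjective_apply (AlgHom.id (Ega41Sep.ZModU.{u} p) (Λ ⧸ Ideal.span {(p : Λ)})) qa hqb hnil y
  let S : Subring E := (s.toRingHom.range).comap (Ideal.Quotient.mk P)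
  have hbij : Function.Bijective (q.comp S.subtype) := by
    refine ⟨(injective_iff_map_eq_zero _).2 fun x hx => ?_, fun l => ?_⟩
    · obtain ⟨y, hy⟩ := x.2
      have hy' : Ideal.Quotient.mk P (x : E) = 0 := by
        have : qb (Ideal.Quotient.mk P (x : E)) = y := by rw [← hy]; exact hs y
        have hy0 : y = 0 := by
          rw [← this]
          change Ideal.Quotient.mk _ (q (x : E)) = 0
          rw [show q (x : E) = 0 from hx, map_zero]
        rw [← hy, hy0]
        exact map_zero _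
      obtain ⟨w, hw⟩ := Ideal.mem_span_singleton.1 (Ideal.Quotient.eq_zero_iff_mem.1 hy')
      have hqw : q w = 0 := hreg _ (by rw [← map_natCast q p, ← map_mul, ← hw]; exact hx)
      refine Subtype.ext ?_
      rw [hw]
      refine Subtype.ext (Prod.ext ?_ ?_)
      · change ((p : E) : Λ × C').1 * q w = 0
        rw [hqw, mul_zero]
      · change ((p : E) : Λ × C').2 * w.1.2 = 0
        have := hpJ _ (hJ w hqw)
        simpa using this
    · obtain ⟨e, he⟩ := Ideal.Quotient.mk_surjective (s (Ideal.Quotient.mk _ l))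
      have hel : Ideal.Quotient.mk (Ideal.span {(p : Λ)}) (q e) = Ideal.Quotient.mk _ l := by
        change qb (Ideal.Quotient.mk P e) = _
        rw [he, hs]
      obtain ⟨d, hd⟩ := Ideal.mem_span_singleton.1 (Ideal.Quotient.eq.1 hel.symm)
      obtain ⟨w, hw⟩ := hq d
      refine ⟨⟨e + (p : E) * w, ?_⟩, ?_⟩
      · change Ideal.Quotient.mk P _ ∈ s.toRingHom.range
        rw [map_add, Ideal.Quotient.eq_zero_iff_mem.2
          (Ideal.mul_mem_right w P (Ideal.mem_span_singleton_self (p : E))), add_zero, he]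
        exact ⟨_, rfl⟩
      · change q (e + (p : E) * w) = l
        rw [map_add, map_mul, map_natCast, hw, ← hd, add_sub_cancel]
  refine ⟨(((RingHom.snd Λ C').comp E.subtype).comp S.subtype).comp
    (RingEquiv.ofBijective _ hbij).symm.toRingHom, RingHom.ext fun l => ?_⟩
  let t := (RingEquiv.ofBijective _ hbij).symm l
  have ht : (t : E).1.1 = l := (RingEquiv.ofBijective _ hbij).apply_symm_apply l
  exact ((t : E).2 : g (t : E).1.1 = π (t : E).1.2).symm.trans (congrArg g ht)

/-- Lifting to a complete ring along a filtration, given the lifting at each step. -/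
theorem exists_lift_filtration_of_step {Λ : Type u} [CommRing Λ]
    {C : Type v} [CommRing C] (I : Ideal C) [IsAdicComplete I C] (F : ℕ → Ideal C)
    (hdec : ∀ n, F (n + 1) ≤ F n) (hle : ∀ n, F n ≤ I ^ n)
    (step : ∀ (n : ℕ) (g : Λ →+* C ⧸ F n), ∃ g' : Λ →+* C ⧸ F (n + 1),
      (Ideal.Quotient.factor (hdec n)).comp g' = g) (g₀ : Λ →+* C ⧸ F 0) :
    ∃ g : Λ →+* C, ∀ n l c, Ideal.Quotient.mk (F 0) c = g₀ l → g l - c ∈ I ^ n ⊔ F 0 := by
  choose next hnext using step
  let G : ∀ n, Λ →+* C ⧸ F n := fun n => Nat.rec g₀ (fun k gk => next k gk) n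
  have hG : ∀ n, (Ideal.Quotient.factor (hdec n)).comp (G (n + 1)) = G n := fun n => hnext n (G n)
  let f : ∀ n, Λ →+* C ⧸ I ^ n := fun n => (Ideal.Quotient.factor (hle n)).comp (G n)
  have hf : ∀ {m n : ℕ} (h : m ≤ n), (Ideal.Quotient.factorPow I h).comp (f n) = f m := by
    intro m n h
    induction n, h using Nat.le_induction with
    | base => exact RingHom.ext fun x => by simp [f]
    | succ n hmn ih =>
      rw [← ih]
      refine RingHom.ext fun x => ?_
      simp only [f, RingHom.comp_apply, ← hG n]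
      obtain ⟨c, hc⟩ := Ideal.Quotient.mk_surjective (G (n + 1) x)
      simp [← hc]
  refine ⟨IsAdicComplete.liftRingHom I f hf, fun n l c hc => ?_⟩
  have hall : ∀ n, (Ideal.Quotient.factor (show F n ≤ F 0 from antitone_nat_of_succ_le hdec (Nat.zero_le n))).comp
      (G n) = g₀ := fun n => by
    induction n with
    | zero => exact RingHom.ext fun x => by simp; rfl
    | succ n ih =>
      rw [← ih, ← hG n]
      refine RingHom.ext fun x => ?_
      obtain ⟨c, hc⟩ := Ideal.Quotient.mk_surjective (G (n + 1) x)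
      simp [← hc]
  have h1 := IsAdicComplete.mk_liftRingHom I f hf n l
  obtain ⟨cn, hcn⟩ := Ideal.Quotient.mk_surjective (G n l)
  simp only [f, RingHom.comp_apply, ← hcn, Ideal.Quotient.factor_mk, Ideal.Quotient.eq] at h1
  have h2 := RingHom.congr_fun (hall n) l
  rw [RingHom.comp_apply, ← hcn, Ideal.Quotient.factor_mk, ← hc, Ideal.Quotient.eq] at h2
  simpa using Ideal.add_mem (I ^ n ⊔ F 0) (Ideal.mem_sup_left h1) (Ideal.mem_sup_right h2)


/-- Lifting to a complete ring along a filtration. -/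
theorem exists_lift_filtration (hreg : ∀ x : Λ, (p : Λ) * x = 0 → x = 0)
    [(Ideal.span {(p : Λ)}).IsMaximal]
    {C : Type v} [CommRing C] (I : Ideal C) [IsAdicComplete I C] (F : ℕ → Ideal C)
    (hdec : ∀ n, F (n + 1) ≤ F n) (hle : ∀ n, F n ≤ I ^ n) (hsq : ∀ n, F n * F n ≤ F (n + 1))
    (hp : ∀ n, ∀ x ∈ F n, (p : C) * x ∈ F (n + 1)) (g₀ : Λ →+* C ⧸ F 0) :
    ∃ g : Λ →+* C, ∀ n l c, Ideal.Quotient.mk (F 0) c = g₀ l → g l - c ∈ I ^ n ⊔ F 0 := by
  have step : ∀ (n : ℕ) (g : Λ →+* C ⧸ F n), ∃ g' : Λ →+* C ⧸ F (n + 1),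
      (Ideal.Quotient.factor (hdec n)).comp g' = g := fun n g => by
    refine exists_lift_square_zero hreg g (Ideal.Quotient.factor (hdec n))
      (Ideal.Quotient.factor_surjective _) (fun a b ha hb => ?_) (fun a ha => ?_)
    · obtain ⟨a, rfl⟩ := Ideal.Quotient.mk_surjective a
      obtain ⟨b, rfl⟩ := Ideal.Quotient.mk_surjective b
      rw [Ideal.Quotient.factor_mk, Ideal.Quotient.eq_zero_iff_mem] at ha hb
      rw [← map_mul, Ideal.Quotient.eq_zero_iff_mem]
      exact hsq n (Ideal.mul_mem_mul ha hb)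
    · obtain ⟨a, rfl⟩ := Ideal.Quotient.mk_surjective a
      rw [Ideal.Quotient.factor_mk, Ideal.Quotient.eq_zero_iff_mem] at ha
      rw [← map_natCast (Ideal.Quotient.mk (F (n + 1))), ← map_mul, Ideal.Quotient.eq_zero_iff_mem]
      exact hp n a ha
  exact exists_lift_filtration_of_step I F hdec hle step g₀

end Lift

end Groth.Calg2.CohenRing
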