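import Groth.Agent.HilbPn.RankStratum
import Groth.Agent.EGA43Flat.FreeMod
import Groth.Agent.FlatMorOne.FlatLocusOpen
import Groth.Agent.Calg2.ProConsCriteria
import Groth.Agent.ZetaAn.Constructible

/-!
# Flat modules are free on the pieces of a stratification of the base
-/

universe u

open TensorProduct

namespace Groth.Calg2.FreeStrat

/-- `M` becomes free over every algebra in which `f` is invertible and `I` vanishes as soon as it
becomes flat there. -/
def Piece {A : Type u} [CommRing A] (f : A) (I : Ideal A) (M : Type u) [AddCommGroup M] [Module A M] : Prop :=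
  ∀ (C : Type u) [CommRing C] [Algebra A C], IsUnit (algebraMap A C f) → I.map (algebraMap A C) = ⊥ →
    Module.Flat C (C ⊗[A] M) → Module.Free C (C ⊗[A] M)

theorem exists_piece {A : Type u} [CommRing A] [IsNoetherianRing A] (S : Type u) [CommRing S] [Algebra A S]
    [Algebra.FiniteType A S] (M : Type u) [AddCommGroup M] [Module A M] [Module S M] [IsScalarTower A S M]
    [Module.Finite S M] (I p : Ideal A) (hp : p ∈ I.minimalPrimes) :
    ∃ f, f ∉ p ∧ Piece f I M := by
  classical
  have hpp : p.IsPrime := hp.1.1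
  obtain ⟨f₁, hf₁, hfree⟩ :=
    Groth.HilbPn.RankStratum.exists_free_tensor (A := A) (R := S) (N := M) p
  let others := (I.finite_minimalPrimes_of_isNoetherianRing).toFinset.erase p
  have hx : ∀ q ∈ others, ∃ x ∈ q, x ∉ p := fun q hq => by
    obtain ⟨hne, hqm⟩ := Finset.mem_erase.1 hq
    rw [Set.Finite.mem_toFinset] at hqm
    by_contra h
    push Not at h
    exact hne (le_antisymm (h : q ≤ p) (hp.2 ⟨hqm.1.1, hqm.1.2⟩ h))
  choose! x hxq hxp using hx
  let g₀ := ∏ q ∈ others, x q
  have hg₀ : g₀ ∉ p := fun h => by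
    obtain ⟨q, hq, hqp⟩ := hpp.prod_mem_iff.1 h
    exact hxp q hq hqp
  refine ⟨f₁ * g₀, fun h => (hpp.mem_or_mem h).elim hf₁ hg₀, fun C _ _ hu hI hflat => ?_⟩
  rw [map_mul, IsUnit.mul_iff] at hu
  let J : Ideal C := p.map (algebraMap A C)
  have hrad : p * Ideal.span {g₀} ≤ I.radical := by
    rw [← Ideal.sInf_minimalPrimes]
    refine le_sInf fun q hq => ?_
    by_cases hqp : q = p
    · exact hqp ▸ Ideal.mul_le_left
    · refine Ideal.mul_le_right.trans ((Ideal.span_singleton_le_iff_mem _).2 ?_)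
      have hq' : q ∈ others := Finset.mem_erase.2 ⟨hqp, (Set.Finite.mem_toFinset _).2 hq⟩
      exact Ideal.mem_of_dvd q (Finset.dvd_prod_of_mem x hq') (hxq q hq')
  have hJ : IsNilpotent J := by
    obtain ⟨n, hn⟩ := Ideal.exists_radical_pow_le_of_fg I (IsNoetherian.noetherian _)
    refine ⟨n, ?_⟩
    have h1 : ((p * Ideal.span {g₀}).map (algebraMap A C)) ^ n ≤ ⊥ := by
      rw [← Ideal.map_pow, ← hI]
      exact Ideal.map_mono ((Ideal.pow_right_mono hrad n).trans hn)
    rw [Ideal.map_mul, Ideal.map_span, Set.image_singleton,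
      Ideal.span_singleton_eq_top.2 hu.2, Ideal.mul_top] at h1
    exact le_bot_iff.1 h1
  let χ : A ⧸ p →+* C ⧸ J := Ideal.Quotient.lift p ((Ideal.Quotient.mk J).comp (algebraMap A C))
    fun a ha => Ideal.Quotient.eq_zero_iff_mem.2 (Ideal.mem_map_of_mem _ ha)
  let _ : Algebra (A ⧸ p) (C ⧸ J) := χ.toAlgebra
  have : IsScalarTower A (A ⧸ p) (C ⧸ J) := IsScalarTower.of_algebraMap_eq fun a => rfl
  let L := Localization.Away (Ideal.Quotient.mk p f₁)
  let ψ : L →+* C ⧸ J :=
    IsLocalization.Away.lift (Ideal.Quotient.mk p f₁) (g := χ) (hu.1.map (Ideal.Quotient.mk J))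
  let _ : Algebra L (C ⧸ J) := ψ.toAlgebra
  have : IsScalarTower (A ⧸ p) L (C ⧸ J) := IsScalarTower.of_algebraMap_eq fun a =>
    (IsLocalization.Away.lift_eq (Ideal.Quotient.mk p f₁) (g := χ) (hu.1.map (Ideal.Quotient.mk J)) a).symm
  have : Module.Free (C ⧸ J) ((C ⧸ J) ⊗[C] (C ⊗[A] M)) := Module.Free.of_equiv
    (((AlgebraTensorModule.cancelBaseChange (A ⧸ p) L (C ⧸ J) (C ⧸ J) ((A ⧸ p) ⊗[A] M)).trans
      (AlgebraTensorModule.cancelBaseChange A (A ⧸ p) (C ⧸ J) (C ⧸ J) M)).trans
      (AlgebraTensorModule.cancelBaseChange A C (C ⧸ J) (C ⧸ J) M).symm)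
  have : Module.Flat C (C ⊗[C] (C ⊗[A] M)) := Module.Flat.of_linearEquiv (TensorProduct.lid C (C ⊗[A] M))
  exact Groth.EGA43Flat.free_of_flat_family (A := C) (M := C ⊗[A] M) hJ (fun _ : PUnit.{1} => C)
    fun a h => h PUnit.unit

theorem exists_pieces {A : Type u} [CommRing A] [IsNoetherianRing A] (S : Type u) [CommRing S] [Algebra A S]
    [Algebra.FiniteType A S] (M : Type u) [AddCommGroup M] [Module A M] [Module S M] [IsScalarTower A S M]
    [Module.Finite S M] (I : Ideal A) :
    ∃ l : List A, Ideal.span {a | a ∈ l} ⊔ I = ⊤ ∧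
      ∀ (i : ℕ) (hi : i < l.length), Piece l[i] (I ⊔ Ideal.span {a | a ∈ l.take i}) M := by
  refine IsNoetherian.induction (P := fun I : Ideal A => ∃ l : List A, Ideal.span {a | a ∈ l} ⊔ I = ⊤ ∧
      ∀ (i : ℕ) (hi : i < l.length), Piece l[i] (I ⊔ Ideal.span {a | a ∈ l.take i}) M) (fun I ih => ?_) I
  by_cases hI : I = ⊤
  · exact ⟨[], by simp [hI], fun i hi => by simp at hi⟩
  obtain ⟨p, hp⟩ := Ideal.nonempty_minimalPrimes hI
  obtain ⟨f, hf, hpiece⟩ := exists_piece S M I p hp
  obtain ⟨l, hl, hpl⟩ := ih (I ⊔ Ideal.span {f}) (lt_of_le_of_ne le_sup_left fun h =>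
    hf (hp.1.2 (by rw [h]; exact Ideal.mem_sup_right (Ideal.subset_span rfl))))
  have hins : ∀ t : List A, Ideal.span {a | a ∈ f :: t} = Ideal.span {f} ⊔ Ideal.span {a | a ∈ t} := fun t => by
    rw [← Ideal.span_union]
    congr 1
    ext a
    simp
  refine ⟨f :: l, ?_, fun i hi => ?_⟩
  · rw [hins, ← hl]
    ac_rfl
  · cases i with
    | zero => simpa using hpiece
    | succ j =>
      have := hpl j (Nat.lt_of_succ_lt_succ hi)
      rw [List.take_succ_cons, hins, ← sup_assoc]
      simpa using this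

/-- A piece over a model gives freeness after base change. -/
theorem free_of_piece {R₀ R : Type u} [CommRing R₀] [CommRing R] [Algebra R₀ R] {M₀ M : Type u}
    [AddCommGroup M₀] [Module R₀ M₀] [AddCommGroup M] [Module R M] (e : R ⊗[R₀] M₀ ≃ₗ[R] M)
    {f : R₀} {I : Ideal R₀} (hP : Piece f I M₀) (C : Type u) [CommRing C] [Algebra R C]
    (hf : IsUnit (algebraMap R C (algebraMap R₀ R f)))
    (hI : (I.map (algebraMap R₀ R)).map (algebraMap R C) = ⊥) [Module.Flat C (C ⊗[R] M)] :
    Module.Free C (C ⊗[R] M) := by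
  let _ : Algebra R₀ C := ((algebraMap R C).comp (algebraMap R₀ R)).toAlgebra
  have : IsScalarTower R₀ R C := IsScalarTower.of_algebraMap_eq fun a => rfl
  let e' : C ⊗[R₀] M₀ ≃ₗ[C] C ⊗[R] M :=
    (AlgebraTensorModule.cancelBaseChange R₀ R C C M₀).symm.trans (e.baseChange R C _ _)
  have : Module.Flat C (C ⊗[R₀] M₀) := Module.Flat.of_linearEquiv e'
  have := hP C hf ((Ideal.map_map _ _).symm.trans hI) this
  exact Module.Free.of_equiv e'

/-- A finitely presented module over a finitely presented algebra comes from a Noetherian base. -/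
theorem exists_noetherian_model {R S : Type u} [CommRing R] [CommRing S] [Algebra R S]
    [Algebra.FinitePresentation R S] (M : Type u) [AddCommGroup M] [Module S M] [Module R M]
    [IsScalarTower R S M] [Module.FinitePresentation S M] :
    ∃ (R₀ : Subalgebra ℤ R) (S₀ : Type u) (_ : CommRing S₀) (_ : Algebra R₀ S₀) (M₀ : Type u)
      (_ : AddCommGroup M₀) (_ : Module S₀ M₀) (_ : Module R₀ M₀) (_ : IsScalarTower R₀ S₀ M₀),
      IsNoetherianRing R₀ ∧ Algebra.FiniteType R₀ S₀ ∧ Module.Finite S₀ M₀ ∧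
        Nonempty (R ⊗[R₀] M₀ ≃ₗ[R] M) := by
  obtain ⟨R₀, hR₀, S₀, _, _, _, _, hS₀, hpush, M₀, _, _, _, _, _, _, f, hM₀, hf⟩ :=
    Groth.FlatMorOne.exists_models R S M
  refine ⟨R₀, S₀, inferInstance, inferInstance, M₀, inferInstance, inferInstance, inferInstance,
    inferInstance, Algebra.FiniteType.isNoetherianRing ℤ R₀, inferInstance, inferInstance,
    ⟨((Groth.FlatMorOne.isBaseChange_betaOf R₀ S₀ M₀ R).equiv).trans
      (Groth.FlatMorOne.pushoutModuleEquiv' hf)⟩⟩

theorem exists_pieces_of_flat {R S : Type u} [CommRing R] [CommRing S] [Algebra R S]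
    [Algebra.FinitePresentation R S] (M : Type u) [AddCommGroup M] [Module S M] [Module R M]
    [IsScalarTower R S M] [Module.FinitePresentation S M] [Module.Flat R M] :
    ∃ l : List R, Ideal.span {a | a ∈ l} = ⊤ ∧
      ∀ (i : ℕ) (hi : i < l.length) (C : Type u) [CommRing C] [Algebra R C],
        IsUnit (algebraMap R C l[i]) → (Ideal.span {a | a ∈ l.take i}).map (algebraMap R C) = ⊥ →
          Module.Free C (C ⊗[R] M) := by
  obtain ⟨R₀, S₀, _, _, M₀, _, _, _, _, _, _, _, ⟨e⟩⟩ := exists_noetherian_model (R := R) (S := S) M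
  obtain ⟨l, hl, hp⟩ := exists_pieces (A := R₀) S₀ M₀ ⊥
  rw [sup_bot_eq] at hl
  have himg : ∀ t : List R₀, Ideal.span {a | a ∈ t.map (algebraMap R₀ R)} =
      (Ideal.span {a | a ∈ t}).map (algebraMap R₀ R) := fun t => by
    rw [Ideal.map_span]
    congr 1
    ext a
    simp
  refine ⟨l.map (algebraMap R₀ R), by rw [himg, hl, Ideal.map_top], fun i hi C _ _ hu hI => ?_⟩
  rw [List.getElem_map] at hu
  rw [← List.map_take, himg] at hI
  have hP := hp i (by simpa using hi)
  rw [bot_sup_eq] at hP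
  exact free_of_piece e hP C hu hI

section GenericPoint

variable {A B : Type u} [CommRing A] [CommRing B] [Algebra A B] {p : Ideal A} [p.IsPrime]
  {M : Type u} [AddCommGroup M] [Module B M] [Module A M] [IsScalarTower A B M]

theorem exists_flat_localized [Algebra.FinitePresentation A B] [Module.FinitePresentation B M]
    (hp : minimalPrimes A = {p})
    (hflat : Module.Flat (Localization.AtPrime p) (LocalizedModule p.primeCompl M)) :
    ∃ t : A, t ∉ p ∧ Module.Flat (Localization.Away t) (Localization.Away t ⊗[A] M) := by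
  let X := AlgebraicGeometry.Spec (CommRingCat.of A)
  let p' : X := (⟨p, inferInstance⟩ : PrimeSpectrum A)
  let K : Set (PrimeSpectrum B) :=
    {q : PrimeSpectrum B | Module.Flat A (LocalizedModule q.asIdeal.primeCompl M)}ᶜ
  have hK : IsClosed K := (Groth.FlatMorOne.isOpen_flatLocus A B M).isClosed_compl
  have hflatA : Module.Flat A (LocalizedModule p.primeCompl M) :=
    (Module.flat_iff_of_isLocalization (Localization.AtPrime p) p.primeCompl _).1 hflat
  have hover : ∀ q : PrimeSpectrum B, q.asIdeal.comap (algebraMap A B) = p → q ∉ K := by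
    intro q hq hqK
    refine hqK ?_
    show Module.Flat A (LocalizedModule q.asIdeal.primeCompl M)
    rw [Module.Flat.iff_lTensor_preserves_injective_linearMap]
    intro N Y _ _ _ _ f hf
    refine Groth.FlatMorOne.lTensor_localized_injective_of_killed _ _ fun z hz => ?_
    obtain ⟨s, hs, hsz⟩ :=
      Groth.FlatMorOne.exists_smul_eq_zero_of_flat_localized (R := A) (S := A) (M := M) p f hf z hz
    refine ⟨algebraMap A B s, fun h => hs (hq ▸ Ideal.mem_comap.2 h), ?_⟩
    rw [algebraMap_smul]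
    exact hsz
  let T : Set X := AlgebraicGeometry.Spec.map (CommRingCat.ofHom (algebraMap A B)) '' K
  have hT : Groth.Limits.PC T := by
    have : Groth.Limits.QCImage (X := AlgebraicGeometry.Spec (CommRingCat.of B)) K :=
      (Groth.Limits.pc_of_isClosed (X := AlgebraicGeometry.Spec (CommRingCat.of B)) hK).qcImage
    exact Groth.Calg2.ProCons.pc_of_qcImage (this.image _)
  have hpT : p' ∉ T := by
    rintro ⟨q, hqK, hq⟩
    exact hover q (congrArg PrimeSpectrum.asIdeal hq) hqK
  obtain ⟨Z, hZ, hTZ, hpZ⟩ := Groth.Calg2.ProCons.exists_constructible_sep hT hpT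
  obtain ⟨U, hU, hpU, hUZ⟩ := (Groth.ZetaAn.isConstructible_near hZ p').2 hpZ
  obtain ⟨_, ⟨t, rfl⟩, hpt, htU⟩ :=
    PrimeSpectrum.isTopologicalBasis_basic_opens.exists_subset_of_mem_open hpU hU
  have hgen : ∀ x : PrimeSpectrum A, p ≤ x.asIdeal := fun x => by
    obtain ⟨q, hq, hqx⟩ := Ideal.exists_minimalPrimes_le (bot_le (a := x.asIdeal))
    have : q = p := by
      have h : q ∈ minimalPrimes A := hq
      rw [hp] at h
      exact h
    exact this ▸ hqx
  have hgood : ∀ q : PrimeSpectrum B, algebraMap A B t ∉ q.asIdeal →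
      Module.Flat A (LocalizedModule q.asIdeal.primeCompl M) := by
    intro q hq
    by_contra hqK
    let x : PrimeSpectrum A := PrimeSpectrum.comap (algebraMap A B) q
    have hxU : x ∈ U := htU (show t ∉ x.asIdeal from hq)
    have hxcl : x ∈ closure ({p'} : Set X) :=
      specializes_iff_mem_closure.1 ((PrimeSpectrum.le_iff_specializes _ _).1 (hgen x))
    exact hUZ ⟨hxU, hxcl⟩ (hTZ ⟨q, hqK, rfl⟩)
  refine ⟨t, hpt, ?_⟩
  have hM : Module.Flat A (LocalizedModule (Submonoid.powers t) M) := by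
    rw [Module.Flat.iff_lTensor_preserves_injective_linearMap]
    intro N Y _ _ _ _ f hf
    refine Groth.FlatMorOne.lTensor_localized_injective_of_killed (S := A) _ _ fun z hz => ?_
    let ann : Ideal B := (Submodule.span B {z}).annihilator
    have hmem : algebraMap A B t ∈ ann.radical := by
      rw [Ideal.radical_eq_sInf, Ideal.mem_sInf]
      rintro P ⟨hP, hPp⟩
      by_contra htP
      have := hgood ⟨P, hPp⟩ htP
      obtain ⟨c, hc, hcz⟩ := Groth.FlatMorOne.exists_smul_eq_zero_of_flat_localized P f hf z hz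
      exact hc (hP ((Submodule.mem_annihilator_span_singleton _ _).2 hcz))
    obtain ⟨n, hn⟩ := hmem
    refine ⟨t ^ n, ⟨n, rfl⟩, ?_⟩
    have := (Submodule.mem_annihilator_span_singleton _ _).1 hn
    rwa [← map_pow, algebraMap_smul] at this
  have : Module.Flat A (Localization.Away t ⊗[A] M) := Module.Flat.of_linearEquiv
    ((LocalizedModule.equivTensorProduct (Submonoid.powers t) M).restrictScalars A).symm
  exact (Module.flat_iff_of_isLocalization (Localization.Away t) (Submonoid.powers t) _).2 this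

theorem exists_free_localization [Algebra.FinitePresentation A B] [Module.FinitePresentation B M]
    (hp : minimalPrimes A = {p})
    (hflat : Module.Flat (Localization.AtPrime p) (LocalizedModule p.primeCompl M)) :
    ∃ t : A, t ∉ p ∧ Module.Free (Localization.Away t) (LocalizedModule (Submonoid.powers t) M) := by
  obtain ⟨t, ht, htflat⟩ := exists_flat_localized (B := B) hp hflat
  obtain ⟨R₀, S₀, _, _, M₀, _, _, _, _, _, _, _, ⟨e⟩⟩ := exists_noetherian_model (R := A) (S := B) M
  let p₀ : Ideal R₀ := p.comap (algebraMap R₀ A)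
  have hp₀ : p₀ ∈ (⊥ : Ideal R₀).minimalPrimes := by
    refine ⟨⟨Ideal.IsPrime.comap _, bot_le⟩, fun q ⟨hq, _⟩ hqp x hx => ?_⟩
    have hn : IsNilpotent (algebraMap R₀ A x) := by
      rw [← mem_nilradical, nilradical, ← Ideal.sInf_minimalPrimes, Ideal.mem_sInf]
      intro P hP
      have h : P ∈ minimalPrimes A := hP
      rw [hp] at h
      exact h ▸ hx
    obtain ⟨n, hn⟩ := hn
    refine hq.mem_of_pow_mem n ?_
    have : x ^ n = 0 := Subtype.val_injective (by simpa using hn)
    rw [this]
    exact q.zero_mem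
  obtain ⟨g, hg, hP⟩ := exists_piece (A := R₀) S₀ M₀ ⊥ p₀ hp₀
  refine ⟨t * algebraMap R₀ A g, fun h => ?_, ?_⟩
  · exact ((‹p.IsPrime›).mem_or_mem h).elim ht hg
  let C := Localization.Away (t * algebraMap R₀ A g)
  have hu := IsLocalization.Away.algebraMap_isUnit (S := C) (t * algebraMap R₀ A g)
  rw [map_mul, IsUnit.mul_iff] at hu
  let ψ : Localization.Away t →+* C := IsLocalization.Away.lift t (g := algebraMap A C) hu.1
  let _ : Algebra (Localization.Away t) C := ψ.toAlgebra
  have : IsScalarTower A (Localization.Away t) C := IsScalarTower.of_algebraMap_eq fun a =>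
    (IsLocalization.Away.lift_eq t (g := algebraMap A C) hu.1 a).symm
  have : Module.Flat C (C ⊗[A] M) := Module.Flat.of_linearEquiv
    (AlgebraTensorModule.cancelBaseChange A (Localization.Away t) C C M).symm
  have := free_of_piece e hP C hu.2 (by rw [Ideal.map_bot, Ideal.map_bot])
  exact Module.Free.of_equiv (LocalizedModule.equivTensorProduct (Submonoid.powers (t * algebraMap R₀ A g)) M).symm

end GenericPoint

end Groth.Calg2.FreeStrat
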