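import Mathlib.LinearAlgebra.Matrix.Transvection
import Mathlib.LinearAlgebra.Matrix.Permutation
import Mathlib.LinearAlgebra.Matrix.GeneralLinearGroup.Defs
import Mathlib.LinearAlgebra.Matrix.NonsingularInverse
import Mathlib.GroupTheory.Abelianization.Defs
import Mathlib.RingTheory.LocalRing.MaximalIdeal.Basic
import Mathlib.Algebra.Group.Pi.Units

universe u v

namespace Groth.Calg2.GLComm

open Matrix

variable {R : Type u} [CommRing R] {n : Type v} [Fintype n] [DecidableEq n]

/-- The elementary matrix `1 + c e_{ij}` in `GL_n`. -/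
def e (i j : n) (h : i ≠ j) (c : R) : GL n R where
  val := transvection i j c
  inv := transvection i j (-c)
  val_inv := by rw [transvection_mul_transvection_same _ _ h, add_neg_cancel, transvection_zero]
  inv_val := by rw [transvection_mul_transvection_same _ _ h, neg_add_cancel, transvection_zero]

/-- Diagonal matrices in `GL_n`. -/
def diag : (n → Rˣ) →* GL n R :=
  (Units.map (diagonalRingHom n R).toMonoidHom).comp
    (MulEquiv.symm (MulEquiv.piUnits (M := fun _ : n => R))).toMonoidHom

theorem diag_val (d : n → Rˣ) : (diag d).1 = diagonal fun i => (d i : R) := rfl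

/-- With a unit `u` such that `u - 1` is a unit, elementary matrices are commutators. -/
theorem hom_e {G : Type*} [CommGroup G] (φ : GL n R →* G) (u : Rˣ) (hu : IsUnit ((u : R) - 1))
    (i j : n) (h : i ≠ j) (c : R) : φ (e i j h c) = 1 := by
  obtain ⟨w, hw⟩ := hu
  have key : diag (Pi.mulSingle i u) * e i j h (↑w⁻¹ * c) =
      e i j h c * e i j h (↑w⁻¹ * c) * diag (Pi.mulSingle i u) := by
    refine Units.ext ?_
    change (diag (Pi.mulSingle i u)).1 * transvection i j (↑w⁻¹ * c) =
      transvection i j c * transvection i j (↑w⁻¹ * c) * (diag (Pi.mulSingle i u)).1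
    rw [diag_val, transvection_mul_transvection_same _ _ h]
    have h1 : (u : R) * (↑w⁻¹ * c) = c + ↑w⁻¹ * c := by
      calc (u : R) * (↑w⁻¹ * c) = ((u : R) - 1) * ↑w⁻¹ * c + ↑w⁻¹ * c := by ring
        _ = c + ↑w⁻¹ * c := by rw [← hw, Units.mul_inv, one_mul]
    ext a b
    rw [diagonal_mul, mul_diagonal]
    simp only [transvection, Matrix.add_apply, Matrix.single_apply, Matrix.one_apply]
    by_cases hab : i = a ∧ j = b
    · obtain ⟨rfl, rfl⟩ := hab
      simp [Pi.mulSingle_eq_same, h, h1]
    · simp only [hab, if_false, add_zero]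
      by_cases hab' : a = b
      · subst hab'; simp
      · simp [hab']
  have := congrArg φ key
  rw [map_mul, map_mul, map_mul, mul_comm (φ (diag _)), mul_right_cancel_iff,
    eq_comm, mul_eq_right] at this
  exact this

theorem diag_mulSingle_hom {G : Type*} [CommGroup G] (φ : GL n R →* G) (i j : n) (a : Rˣ) :
    φ (diag (Pi.mulSingle i a)) = φ (diag (Pi.mulSingle j a)) := by
  let P : GL n R := (Matrix.permMatrixHom (n := n) (R := R)).toHomUnits (Equiv.swap i j)
  have key : P * diag (Pi.mulSingle j a) = diag (Pi.mulSingle i a) * P := by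
    refine Units.ext ?_
    change P.1 * (diag (Pi.mulSingle j a)).1 = (diag (Pi.mulSingle i a)).1 * P.1
    rw [diag_val, diag_val]
    ext x y
    rw [mul_diagonal, diagonal_mul]
    change ((Equiv.swap i j)⁻¹.permMatrix R) x y * _ = _ * ((Equiv.swap i j)⁻¹.permMatrix R) x y
    rw [Equiv.swap_inv, Equiv.Perm.permMatrix, PEquiv.toMatrix_apply]
    simp only [Equiv.toPEquiv_apply, Option.mem_def, Option.some.injEq]
    by_cases hxy : Equiv.swap i j x = y
    · subst hxy
      simp only [if_true, one_mul, mul_one]
      congr 1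
      rcases eq_or_ne x i with rfl | hxi
      · rw [Equiv.swap_apply_left, Pi.mulSingle_eq_same, Pi.mulSingle_eq_same]
      · rw [Pi.mulSingle_eq_of_ne hxi, Pi.mulSingle_eq_of_ne]
        intro hx
        rw [Equiv.swap_apply_eq_iff, Equiv.swap_apply_right] at hx
        exact hxi hx
    · simp [hxy]
  have := congrArg φ key
  rw [map_mul, map_mul, mul_comm (φ P), mul_right_cancel_iff] at this
  exact this.symm

theorem hom_diag {G : Type*} [CommGroup G] (φ : GL n R →* G) (d : n → Rˣ) (hd : ∏ i, d i = 1) :
    φ (diag d) = 1 := by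
  rcases isEmpty_or_nonempty n with hn | ⟨⟨i₀⟩⟩
  · rw [Subsingleton.elim d 1, map_one, map_one]
  have h1 : d = ∏ i, Pi.mulSingle i (d i) := (Finset.univ_prod_mulSingle d).symm
  rw [h1, show φ (diag (∏ i, Pi.mulSingle i (d i))) = (φ.comp diag) (∏ i, Pi.mulSingle i (d i))
    from rfl, map_prod]
  refine (Finset.prod_congr rfl fun i _ =>
    (diag_mulSingle_hom φ i i₀ (d i) : (φ.comp diag) (Pi.mulSingle i (d i)) = _)).trans ?_
  have h2 := map_prod (φ.comp (diag.comp (MonoidHom.mulSingle (fun _ : n => Rˣ) i₀))) d Finset.univ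
  rw [hd, map_one] at h2
  exact h2.symm

theorem hom_eq_one_of_det_eq_one [IsLocalRing R] {m : ℕ} {G : Type*} [CommGroup G]
    (φ : GL (Fin m) R →* G) (u : Rˣ) (hu : IsUnit ((u : R) - 1)) (M : GL (Fin m) R)
    (hM : M.1.det = 1) : φ M = 1 := by
  -- multiplication on the left by elementary matrices does not change `φ` and `det`
  have hstep : ∀ (i j : Fin m) (h : i ≠ j) (c : R) (A : GL (Fin m) R),
      φ (e i j h c * A) = φ A ∧ (e i j h c * A).1.det = A.1.det := by
    intro i j h c A
    rw [map_mul, hom_e φ u hu, one_mul, Units.val_mul, det_mul]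
    exact ⟨rfl, by rw [show (e i j h c).1 = transvection i j c from rfl,
      det_transvection_of_ne _ _ h, one_mul]⟩
  have hcols : ∀ k, k ≤ m → ∃ A : GL (Fin m) R, φ A = φ M ∧ A.1.det = 1 ∧
      ∀ j : Fin m, j.1 < k → ∀ i, i ≠ j → A.1 i j = 0 := by
    intro k
    induction k with
    | zero => exact fun _ => ⟨M, rfl, hM, fun j hj => absurd hj (Nat.not_lt_zero _)⟩
    | succ k ih =>
      intro hk
      obtain ⟨A, hA, hAd, hA0⟩ := ih (Nat.le_of_succ_le hk)
      let c : Fin m := ⟨k, hk⟩
      -- make the pivot a unit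
      obtain ⟨B, hB, hBd, hB0, hBu⟩ : ∃ B : GL (Fin m) R, φ B = φ M ∧ B.1.det = 1 ∧
          (∀ j : Fin m, j.1 < k → ∀ i, i ≠ j → B.1 i j = 0) ∧ IsUnit (B.1 c c) := by
        by_cases hu' : IsUnit (A.1 c c)
        · exact ⟨A, hA, hAd, hA0, hu'⟩
        have hsum : ∑ i, A.inv c i * A.1 i c = 1 := by
          have := congrFun (congrFun A.inv_val c) c
          rwa [Matrix.mul_apply, Matrix.one_apply_eq] at this
        obtain ⟨i, -, hi⟩ : ∃ i ∈ Finset.univ, IsUnit (A.inv c i * A.1 i c) := by
          by_contra hcon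
          push Not at hcon
          have hmem : ∑ i, A.inv c i * A.1 i c ∈ IsLocalRing.maximalIdeal R :=
            sum_mem fun i _ => hcon i (Finset.mem_univ i)
          rw [hsum] at hmem
          exact hmem isUnit_one
        rw [IsUnit.mul_iff] at hi
        have hic : i ≠ c := fun h => hu' (h ▸ hi.2)
        have hki : ¬ i.1 < k := by
          intro hlt
          have h1 := congrFun (congrFun A.inv_val c) i
          rw [Matrix.mul_apply, Matrix.one_apply_ne hic.symm,
            Finset.sum_eq_single i (fun b _ hb => by rw [hA0 i hlt b hb, mul_zero])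
              (fun h => absurd (Finset.mem_univ i) h)] at h1
          have h3 : A.1 i i = 0 := hi.1.mul_right_eq_zero.1 h1
          have h2 := congrFun (congrFun A.inv_val i) i
          rw [Matrix.mul_apply, Matrix.one_apply_eq,
            Finset.sum_eq_single i (fun b _ hb => by rw [hA0 i hlt b hb, mul_zero])
              (fun h => absurd (Finset.mem_univ i) h), h3, mul_zero] at h2
          exact zero_ne_one h2
        refine ⟨e c i hic.symm 1 * A, (hstep _ _ _ _ A).1.trans hA, (hstep _ _ _ _ A).2.trans hAd,
          fun j hj a ha => ?_, ?_⟩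
        · change (transvection c i (1 : R) * A.1 : Matrix (Fin m) (Fin m) R) a j = 0
          rcases eq_or_ne a c with rfl | hac
          · rw [transvection_mul_apply_same, hA0 j hj c ha,
              hA0 j hj i (fun h => hki (h ▸ hj)), mul_zero, add_zero]
          · rw [transvection_mul_apply_of_ne _ _ _ _ hac, hA0 j hj a ha]
        · change IsUnit ((transvection c i (1 : R) * A.1 : Matrix (Fin m) (Fin m) R) c c)
          rw [transvection_mul_apply_same, one_mul]
          by_contra hcon
          have h1 : A.1 c c + A.1 i c ∈ IsLocalRing.maximalIdeal R := hcon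
          have h2 : A.1 c c ∈ IsLocalRing.maximalIdeal R := hu'
          exact ((Ideal.add_mem_iff_right _ h2).1 h1) hi.2
      -- clear the column
      have hclear : ∀ s : Finset (Fin m), c ∉ s → ∃ B' : GL (Fin m) R, φ B' = φ M ∧ B'.1.det = 1 ∧
          (∀ j : Fin m, j.1 < k → ∀ i, i ≠ j → B'.1 i j = 0) ∧ IsUnit (B'.1 c c) ∧
          ∀ i ∈ s, B'.1 i c = 0 := by
        intro s
        induction s using Finset.induction_on with
        | empty => exact fun _ => ⟨B, hB, hBd, hB0, hBu, fun i hi => absurd hi (Finset.notMem_empty i)⟩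
        | insert a s _ ih' =>
          intro hc
          rw [Finset.mem_insert, not_or] at hc
          obtain ⟨B', h1, h2, h3, h4, h5⟩ := ih' hc.2
          let x : R := -(B'.1 a c * ↑h4.unit⁻¹)
          refine ⟨e a c (Ne.symm hc.1) x * B', (hstep _ _ _ _ B').1.trans h1,
            (hstep _ _ _ _ B').2.trans h2, fun j hj i hi => ?_, ?_, fun i hi => ?_⟩
          · change (transvection a c x * B'.1) i j = 0
            rcases eq_or_ne i a with rfl | hia
            · rw [transvection_mul_apply_same, h3 j hj i hi,
                h3 j hj c (fun h => by rw [← h] at hj; exact lt_irrefl _ hj), mul_zero, add_zero]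
            · rw [transvection_mul_apply_of_ne _ _ _ _ hia, h3 j hj i hi]
          · change IsUnit ((transvection a c x * B'.1) c c)
            rwa [transvection_mul_apply_of_ne _ _ _ _ hc.1]
          · change (transvection a c x * B'.1) i c = 0
            rcases eq_or_ne i a with rfl | hia
            · rw [transvection_mul_apply_same]
              simp only [x]
              rw [neg_mul, mul_assoc, IsUnit.val_inv_mul, mul_one, add_neg_cancel]
            · rw [transvection_mul_apply_of_ne _ _ _ _ hia]
              exact h5 i ((Finset.mem_insert.1 hi).resolve_left hia)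
      obtain ⟨B', h1, h2, h3, -, h5⟩ := hclear (Finset.univ.erase c) (Finset.notMem_erase c _)
      refine ⟨B', h1, h2, fun j hj i hi => ?_⟩
      rcases Nat.lt_succ_iff_lt_or_eq.1 hj with hj' | hj'
      · exact h3 j hj' i hi
      · obtain rfl : j = c := Fin.ext hj'
        exact h5 i (Finset.mem_erase.2 ⟨hi, Finset.mem_univ i⟩)
  obtain ⟨A, hA, hAd, hA0⟩ := hcols m le_rfl
  have hdiag : A.1 = diagonal fun i => A.1 i i := by
    ext i j
    rcases eq_or_ne i j with rfl | hij
    · rw [diagonal_apply_eq]
    · rw [diagonal_apply_ne _ hij, hA0 j j.2 i hij]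
  have hu' : ∀ i, IsUnit (A.1 i i) := fun i => by
    rw [hdiag, det_diagonal] at hAd
    exact isUnit_of_dvd_one (hAd ▸ Finset.dvd_prod_of_mem _ (Finset.mem_univ i))
  let d : Fin m → Rˣ := fun i => (hu' i).unit
  have hAd' : A = diag d := Units.ext hdiag
  rw [← hA, hAd']
  refine hom_diag φ d (Units.ext ?_)
  rw [Units.coe_prod, Units.val_one]
  rw [hdiag, det_diagonal] at hAd
  exact hAd

theorem mem_commutator_of_det_eq_one [IsLocalRing R] {m : ℕ} (u : Rˣ)
    (hu : IsUnit ((u : R) - 1)) (M : GL (Fin m) R) (hM : M.1.det = 1) :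
    M ∈ commutator (GL (Fin m) R) := by
  rw [← Abelianization.ker_of, MonoidHom.mem_ker]
  exact hom_eq_one_of_det_eq_one Abelianization.of u hu M hM

end Groth.Calg2.GLComm
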