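import Groth.Agent.Calg2.KProjResolution
import Mathlib.Algebra.Homology.DerivedCategory.KProjective
import Mathlib.Algebra.Homology.DerivedCategory.HomologySequence
import Mathlib.CategoryTheory.Functor.Derived.PointwiseLeftDerived
import Mathlib.CategoryTheory.Limits.Shapes.IsTerminal

/-!
Left derived functors of functors on the homotopy category of modules: they exist pointwise and are
computed by K-projective complexes.
-/

set_option autoImplicit false

universe u w v

open CategoryTheory CategoryTheory.Limits HomologicalComplex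

attribute [local instance] HasDerivedCategory.standard

namespace Groth.Calg2.KProj

variable {A : Type u} [CommRing A]

/-- `DerivedCategory.Qh` on modules. -/
noncomputable abbrev qh (A : Type u) [CommRing A] :
    HomotopyCategory (ModuleCat.{u} A) (ComplexShape.up ℤ) ⥤ DerivedCategory (ModuleCat.{u} A) :=
  DerivedCategory.Qh

/-- Quasi-isomorphisms in the homotopy category. -/
abbrev qis (A : Type u) [CommRing A] :
    MorphismProperty (HomotopyCategory (ModuleCat.{u} A) (ComplexShape.up ℤ)) :=
  HomotopyCategory.quasiIso (ModuleCat.{u} A) (ComplexShape.up ℤ)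

/-- The quotient functor. -/
noncomputable abbrev quot (A : Type u) [CommRing A] :
    CochainComplex (ModuleCat.{u} A) ℤ ⥤ HomotopyCategory (ModuleCat.{u} A) (ComplexShape.up ℤ) :=
  HomotopyCategory.quotient _ _

/-- For `P` K-projective, `P` is initial among complexes under `Q P`. -/
noncomputable def isInitialStructuredArrow (P : CochainComplex (ModuleCat.{u} A) ℤ) [P.IsKProjective] :
    IsInitial (StructuredArrow.mk (S := (qh A).obj ((quot A).obj P)) (T := qh A) (Y := (quot A).obj P)
      (𝟙 _)) :=
  haveI : ∀ Y : StructuredArrow ((qh A).obj ((quot A).obj P)) (qh A), Nonempty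
      (StructuredArrow.mk (S := (qh A).obj ((quot A).obj P)) (T := qh A) (Y := (quot A).obj P) (𝟙 _) ⟶ Y) :=
    fun Y =>
      ⟨StructuredArrow.homMk ((CochainComplex.IsKProjective.Qh_map_bijective P Y.right).2 Y.hom).choose
        (by simpa using ((CochainComplex.IsKProjective.Qh_map_bijective P Y.right).2 Y.hom).choose_spec)⟩
  haveI : ∀ Y : StructuredArrow ((qh A).obj ((quot A).obj P)) (qh A), Subsingleton
      (StructuredArrow.mk (S := (qh A).obj ((quot A).obj P)) (T := qh A) (Y := (quot A).obj P) (𝟙 _) ⟶ Y) :=
    fun Y => ⟨fun f g => StructuredArrow.ext _ _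
      ((CochainComplex.IsKProjective.Qh_map_bijective P Y.right).1 (by
        have h1 := StructuredArrow.w f
        have h2 := StructuredArrow.w g
        simp only [StructuredArrow.mk_hom_eq_self, Category.id_comp] at h1 h2
        exact h1.trans h2.symm))⟩
  IsInitial.ofUniqueHom (fun Y => Classical.arbitrary _) (fun _ _ => Subsingleton.elim _ _)

variable {H : Type w} [Category.{v} H] (F : HomotopyCategory (ModuleCat.{u} A) (ComplexShape.up ℤ) ⥤ H)

/-- Any functor on the homotopy category of modules has a pointwise left derived functor. -/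
theorem hasPointwiseLeftDerivedFunctor : F.HasPointwiseLeftDerivedFunctor (qis A) := by
  intro X
  obtain ⟨K, rfl⟩ := HomotopyCategory.quotient_obj_surjective X
  obtain ⟨P, ε, hε, hP, -⟩ := exists_kProjective_resolution K
  have hw : qis A ((quot A).map ε) :=
    (HomotopyCategory.quotient_map_mem_quasiIso_iff ε).2 hε
  rw [← F.hasPointwiseLeftDerivedFunctorAt_iff_of_mem (qis A) ((quot A).map ε) hw,
    F.hasPointwiseLeftDerivedFunctorAt_iff (qh A) (qis A)]
  exact HasLimit.mk ⟨_, limitOfDiagramInitial (isInitialStructuredArrow P) _⟩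

theorem hasLeftDerivedFunctor : F.HasLeftDerivedFunctor (qis A) :=
  haveI := hasPointwiseLeftDerivedFunctor F
  F.hasLeftDerivedFunctor_of_hasPointwiseLeftDerivedFunctor (qis A)

/-- A left derived functor agrees with the functor on K-projective complexes. -/
theorem isIso_counit_app (LF : DerivedCategory (ModuleCat.{u} A) ⥤ H) (α : qh A ⋙ LF ⟶ F)
    [LF.IsLeftDerivedFunctor α (qis A)] (P : CochainComplex (ModuleCat.{u} A) ℤ) [P.IsKProjective] :
    IsIso (α.app ((quot A).obj P)) := by
  haveI := hasPointwiseLeftDerivedFunctor F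
  have h := Functor.isPointwiseRightKanExtensionOfHasPointwiseLeftDerivedFunctor LF α (qis A)
    ((qh A).obj ((quot A).obj P))
  have h1 := h.isIso_π_app_of_isInitial _ (isInitialStructuredArrow P)
  simp at h1
  exact h1

/-- Every object of `D(A)` is represented by a K-projective complex with free terms. -/
theorem exists_kProjective_iso (K : DerivedCategory (ModuleCat.{u} A)) :
    ∃ P : CochainComplex (ModuleCat.{u} A) ℤ, P.IsKProjective ∧ (∀ n, Module.Free A (P.X n)) ∧
      Nonempty (DerivedCategory.Q.obj P ≅ K) := by
  obtain ⟨P, ε, hε, hP, hfree⟩ := exists_kProjective_resolution (DerivedCategory.Q.objPreimage K)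
  exact ⟨P, hP, hfree, ⟨asIso (DerivedCategory.Q.map ε) ≪≫ DerivedCategory.Q.objObjPreimageIso K⟩⟩

/-- Morphisms out of a K-projective complex in `D(A)` come from chain maps. -/
theorem exists_map_eq {P K : CochainComplex (ModuleCat.{u} A) ℤ} [P.IsKProjective]
    (α : DerivedCategory.Q.obj P ⟶ DerivedCategory.Q.obj K) :
    ∃ g : P ⟶ K, DerivedCategory.Q.map g = α := by
  obtain ⟨g, hg⟩ := (CochainComplex.IsKProjective.Qh_map_bijective P ((quot A).obj K)).2
    ((DerivedCategory.quotientCompQhIso (ModuleCat.{u} A)).hom.app P ≫ α ≫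
      (DerivedCategory.quotientCompQhIso (ModuleCat.{u} A)).inv.app K)
  obtain ⟨g, rfl⟩ := (quot A).map_surjective g
  refine ⟨g, ?_⟩
  rw [← cancel_epi ((DerivedCategory.quotientCompQhIso (ModuleCat.{u} A)).hom.app P),
    ← DerivedCategory.quotientCompQhIso_hom_naturality, hg]
  simp

end Groth.Calg2.KProj
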