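import Groth.Agent.FlatCxBase.Core
import Mathlib.Algebra.Homology.HomotopyCategory.KProjective
import Mathlib.Algebra.Homology.QuasiIso
import Mathlib.LinearAlgebra.Finsupp.LinearCombination

/-!
Every cochain complex of modules receives a quasi-isomorphism from a K-projective complex with free
terms: attach, level by level, one free generator for each pair `(z, y)` of a cycle `z` built so far and
`y` with `d y = ε z`; the union is semi-free, so null-homotopies are built level by level.
-/

set_option autoImplicit false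

universe u

open CategoryTheory CategoryTheory.Limits HomologicalComplex

namespace Groth.Calg2.KProj

variable {A : Type u} [CommRing A] (K : CochainComplex (ModuleCat.{u} A) ℤ)

/-- A free complex over `K`, without the axioms. -/
structure Stage where
  S : ℤ → Type u
  d : ∀ n, (S n →₀ A) →ₗ[A] (S (n + 1) →₀ A)
  e : ∀ n, (S n →₀ A) →ₗ[A] K.X n

variable {K}

/-- The cells to attach to a stage. -/
abbrev Cell (St : Stage K) (n : ℤ) : Type u :=
  {p : (St.S (n + 1) →₀ A) × K.X n // St.d (n + 1) p.1 = 0 ∧ St.e (n + 1) p.1 = K.d n (n + 1) p.2}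

variable (K)

/-- The empty stage. -/
noncomputable def Stage.empty : Stage K where
  S _ := PEmpty
  d _ := 0
  e _ := 0

variable {K}

/-- Attach all cells. -/
noncomputable def Stage.next (St : Stage K) : Stage K where
  S n := St.S n ⊕ Cell St n
  d n := Finsupp.linearCombination A (Sum.elim
    (fun s => Finsupp.lmapDomain A A Sum.inl (St.d n (Finsupp.single s 1)))
    (fun t => Finsupp.lmapDomain A A Sum.inl t.1.1))
  e n := Finsupp.linearCombination A (Sum.elim (fun s => St.e n (Finsupp.single s 1)) (fun t => t.1.2))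

variable (K)

/-- The stages. -/
noncomputable def stage : ℕ → Stage K
  | 0 => Stage.empty K
  | k + 1 => (stage k).next

/-- All generators. -/
abbrev Gen (n : ℤ) : Type u := Σ k : ℕ, Cell (stage K k) n

/-- The generators of a stage among all generators. -/
def incl : ∀ (k : ℕ) (n : ℤ), (stage K k).S n → Gen K n
  | 0, _ => fun e => e.elim
  | k + 1, n => Sum.elim (incl k n) (fun t => ⟨k, t⟩)

lemma incl_injective : ∀ (k : ℕ) (n : ℤ), Function.Injective (incl K k n)
  | 0, _ => fun e => e.elim
  | k + 1, n => by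
    have key : ∀ (k : ℕ) (s : (stage K k).S n), (incl K k n s).1 < k := by
      intro k
      induction k with
      | zero => exact fun e => e.elim
      | succ k ih =>
        rintro (s | t)
        · exact (ih s).trans k.lt_succ_self
        · exact k.lt_succ_self
    rintro (s | t) (s' | t') h
    · exact congrArg _ (incl_injective k n h)
    · exact absurd (congrArg Sigma.fst h) (key k s).ne
    · exact absurd (congrArg Sigma.fst h) (key k s').ne'
    · exact congrArg _ (eq_of_heq (Sigma.mk.inj_iff.1 h).2)

lemma exists_incl : ∀ (k : ℕ) (n : ℤ) (g : Gen K n), g.1 < k → ∃ s, incl K k n s = g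
  | 0, _, g, h => absurd h (Nat.not_lt_zero _)
  | k + 1, n, g, h => by
    rcases Nat.lt_succ_iff_lt_or_eq.1 h with h | h
    · obtain ⟨s, hs⟩ := exists_incl k n g h
      exact ⟨Sum.inl s, hs⟩
    · obtain ⟨j, t⟩ := g
      obtain rfl : j = k := h
      exact ⟨Sum.inr t, rfl⟩

/-- The inclusion on free modules. -/
noncomputable abbrev inclL (k : ℕ) (n : ℤ) : ((stage K k).S n →₀ A) →ₗ[A] (Gen K n →₀ A) :=
  Finsupp.lmapDomain A A (incl K k n)

lemma exists_inclL (n : ℤ) (x : Gen K n →₀ A) : ∃ k x', inclL K k n x' = x := by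
  classical
  refine ⟨x.support.sup (fun g => g.1 + 1), ?_⟩
  refine ⟨Finsupp.comapDomain (incl K _ n) x (incl_injective K _ n).injOn,
    Finsupp.mapDomain_comapDomain _ (incl_injective K _ n) x ?_⟩
  intro g hg
  exact exists_incl K _ n g (Nat.lt_of_succ_le (Finset.le_sup (f := fun g => g.1 + 1) hg))

/-- The differential. -/
noncomputable def dL (n : ℤ) : (Gen K n →₀ A) →ₗ[A] (Gen K (n + 1) →₀ A) :=
  Finsupp.linearCombination A fun g => inclL K g.1 (n + 1) g.2.1.1

/-- The augmentation. -/
noncomputable def eL (n : ℤ) : (Gen K n →₀ A) →ₗ[A] K.X n :=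
  Finsupp.linearCombination A fun g => g.2.1.2

lemma dL_single (n : ℤ) (g : Gen K n) : dL K n (Finsupp.single g 1) = inclL K g.1 (n + 1) g.2.1.1 := by
  simp [dL]

lemma eL_single (n : ℤ) (g : Gen K n) : eL K n (Finsupp.single g 1) = g.2.1.2 := by
  simp [eL]

lemma dL_incl : ∀ (k : ℕ) (n : ℤ) (x : (stage K k).S n →₀ A),
    dL K n (inclL K k n x) = inclL K k (n + 1) ((stage K k).d n x)
  | 0, n, x => by
    have : x = 0 := Finsupp.ext fun e => e.elim
    simp [this]
  | k + 1, n, x => by
    induction x using Finsupp.induction_linear with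
    | zero => simp
    | add a b ha hb => simp only [map_add, ha, hb]
    | single s r =>
      rw [← mul_one r, ← smul_eq_mul, ← Finsupp.smul_single, map_smul, map_smul, map_smul, map_smul]
      congr 1
      rw [Finsupp.lmapDomain_apply, Finsupp.mapDomain_single, dL_single]
      change _ = inclL K (k + 1) (n + 1) (Finsupp.linearCombination A _ (Finsupp.single s 1))
      rw [Finsupp.linearCombination_single, one_smul]
      rcases s with s | t
      · change inclL K _ _ (incl K k n s).2.1.1 = _
        have := dL_incl k n (Finsupp.single s 1)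
        rw [Finsupp.lmapDomain_apply, Finsupp.mapDomain_single, dL_single] at this
        rw [this]
        exact Finsupp.mapDomain_comp (f := Sum.inl) (g := incl K (k + 1) (n + 1))
      · change inclL K k _ t.1.1 = _
        exact Finsupp.mapDomain_comp (f := Sum.inl) (g := incl K (k + 1) (n + 1))

lemma eL_incl : ∀ (k : ℕ) (n : ℤ) (x : (stage K k).S n →₀ A),
    eL K n (inclL K k n x) = (stage K k).e n x
  | 0, n, x => by
    have : x = 0 := Finsupp.ext fun e => e.elim
    simp [this]
  | k + 1, n, x => by
    induction x using Finsupp.induction_linear with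
    | zero => simp
    | add a b ha hb => simp only [map_add, ha, hb]
    | single s r =>
      rw [← mul_one r, ← smul_eq_mul, ← Finsupp.smul_single, map_smul, map_smul, map_smul]
      congr 1
      rw [Finsupp.lmapDomain_apply, Finsupp.mapDomain_single, eL_single]
      change _ = Finsupp.linearCombination A _ (Finsupp.single s 1)
      rw [Finsupp.linearCombination_single, one_smul]
      rcases s with s | t
      · have := eL_incl k n (Finsupp.single s 1)
        rw [Finsupp.lmapDomain_apply, Finsupp.mapDomain_single, eL_single] at this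
        exact this
      · rfl

lemma dL_dL (n : ℤ) : dL K (n + 1) ∘ₗ dL K n = 0 :=
  Finsupp.lhom_ext' fun g => LinearMap.ext_ring <| by
    simp only [LinearMap.comp_apply, Finsupp.lsingle_apply, LinearMap.zero_apply, dL_single]
    rw [dL_incl, g.2.2.1, map_zero]

lemma eL_dL (n : ℤ) : eL K (n + 1) ∘ₗ dL K n = (K.d n (n + 1)).hom ∘ₗ eL K n :=
  Finsupp.lhom_ext' fun g => LinearMap.ext_ring <| by
    simp only [LinearMap.comp_apply, Finsupp.lsingle_apply, dL_single, eL_single]
    rw [eL_incl]
    exact g.2.2.2

/-- The resolution. -/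
noncomputable def res : CochainComplex (ModuleCat.{u} A) ℤ :=
  CochainComplex.of (fun n => ModuleCat.of A (Gen K n →₀ A)) (fun n => ModuleCat.ofHom (dL K n))
    (fun n => by ext1; exact dL_dL K n)

lemma res_d (n : ℤ) : (res K).d n (n + 1) = ModuleCat.ofHom (dL K n) := by
  simp [res]

lemma res_d_apply (n : ℤ) (x : Gen K n →₀ A) : (res K).d n (n + 1) x = dL K n x :=
  ConcreteCategory.congr_hom (res_d K n) x

/-- The map of the resolution. -/
noncomputable def aug : res K ⟶ K where
  f n := ModuleCat.ofHom (eL K n)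
  comm' i j hij := by
    obtain rfl : i + 1 = j := hij
    rw [res_d]
    ext1
    exact (eL_dL K i).symm

lemma exists_cell (n : ℤ) (z : Gen K (n + 1) →₀ A) (y : K.X n) (hz : dL K (n + 1) z = 0)
    (hy : eL K (n + 1) z = K.d n (n + 1) y) :
    ∃ x, dL K n x = z ∧ eL K n x = y := by
  obtain ⟨k, z', rfl⟩ := exists_inclL K (n + 1) z
  rw [dL_incl] at hz
  rw [eL_incl] at hy
  have hz' : (stage K k).d (n + 1) z' = 0 :=
    Finsupp.mapDomain_injective (incl_injective K k (n + 1 + 1))
      (hz.trans (Finsupp.mapDomain_zero).symm)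
  exact ⟨Finsupp.single ⟨k, ⟨(z', y), hz', hy⟩⟩ 1, dL_single K n _, eL_single K n _⟩

theorem quasiIso_aug : QuasiIso (aug K) := by
  constructor
  intro j
  rw [quasiIsoAt_iff_isIso_homologyMap, ConcreteCategory.isIso_iff_bijective]
  obtain ⟨i, rfl⟩ : ∃ i, i + 1 = j := ⟨j - 1, sub_add_cancel j 1⟩
  have hi : (ComplexShape.up ℤ).prev (i + 1) = i := (ComplexShape.up ℤ).prev_eq' rfl
  have hk : (ComplexShape.up ℤ).next (i + 1) = i + 1 + 1 := (ComplexShape.up ℤ).next_eq' rfl
  refine ⟨(FlatCxBase.homologyMap_injective_iff (aug K) hi hk).2 ?_,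
    (FlatCxBase.homologyMap_surjective_iff (aug K) hi hk).2 ?_⟩
  · rintro z hz ⟨y, hy⟩
    rw [res_d_apply] at hz
    obtain ⟨x, hx, -⟩ := exists_cell K i z y hz hy.symm
    exact ⟨x, (res_d_apply K i x).trans hx⟩
  · intro y hy
    obtain ⟨x, hx, hxy⟩ := exists_cell K (i + 1) 0 y (map_zero _) (by rw [map_zero, hy])
    refine ⟨x, 0, (res_d_apply K (i + 1) x).trans hx, ?_⟩
    rw [map_zero, add_zero]
    exact hxy

/-! ### K-projectivity -/

section Htpy

variable {K} {L : CochainComplex (ModuleCat.{u} A) ℤ} (f : res K ⟶ L) (hL : L.Acyclic)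

/-- A chain map as linear maps on free modules. -/
noncomputable def fL (n : ℤ) : (Gen K n →₀ A) →ₗ[A] L.X n := (f.f n).hom

include hL in
lemma exists_preimage (n : ℤ) (x : L.X n) (hx : L.d n (n + 1) x = 0) :
    ∃ w : L.X (n - 1), L.d (n - 1) n w = x :=
  (FlatCxBase.isZero_homology_iff (K := L) ((ComplexShape.up ℤ).prev_eq' (by simp))
    ((ComplexShape.up ℤ).next_eq' rfl)).1 ((exactAt_iff_isZero_homology _ _).1 (hL n)) x hx

open scoped Classical in
/-- A preimage under the differential, for cycles. -/
noncomputable def pre (n : ℤ) (x : L.X n) : L.X (n - 1) :=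
  if h : ∃ w : L.X (n - 1), L.d (n - 1) n w = x then h.choose else 0

include hL in
lemma d_pre (n : ℤ) (x : L.X n) (hx : L.d n (n + 1) x = 0) : L.d (n - 1) n (pre n x) = x := by
  have h := exists_preimage hL n x hx
  rw [pre, dif_pos h]
  exact h.choose_spec

/-- The homotopy on the generators of a stage. -/
noncomputable def hS : ∀ (k : ℕ) (n : ℤ), (stage K k).S n → L.X (n - 1)
  | 0, _ => fun e => e.elim
  | k + 1, n => Sum.elim (hS k n) fun t =>
      pre n (fL f n (Finsupp.single (⟨k, t⟩ : Gen K n) 1) -
        (L.XIsoOfEq (add_sub_cancel_right n 1)).hom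
          (Finsupp.linearCombination A (hS k (n + 1)) t.1.1))

/-- The homotopy on all generators. -/
noncomputable def hG (n : ℤ) (g : Gen K n) : L.X (n - 1) := hS f (g.1 + 1) n (Sum.inr g.2)

/-- The homotopy. -/
noncomputable def hL' (n : ℤ) : (Gen K n →₀ A) →ₗ[A] L.X (n - 1) :=
  Finsupp.linearCombination A (hG f n)

lemma hG_incl : ∀ (k : ℕ) (n : ℤ) (s : (stage K k).S n), hG f n (incl K k n s) = hS f k n s
  | 0, _, s => s.elim
  | k + 1, n, .inl s => hG_incl k n s
  | k + 1, n, .inr t => rfl

lemma hL'_incl (k : ℕ) (n : ℤ) (x : (stage K k).S n →₀ A) :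
    hL' f n (inclL K k n x) = Finsupp.linearCombination A (hS f k n) x := by
  rw [Finsupp.lmapDomain_apply, hL', Finsupp.linearCombination_mapDomain]
  congr 2
  exact funext (hG_incl f k n)

/-- `d h + h d` in degree `n`. -/
noncomputable def dh (n : ℤ) : (Gen K n →₀ A) →ₗ[A] L.X n :=
  (L.d (n - 1) n).hom ∘ₗ hL' f n +
    (L.XIsoOfEq (add_sub_cancel_right n 1)).hom.hom ∘ₗ hL' f (n + 1) ∘ₗ dL K n

lemma d_eqToHom (n : ℤ) (w : L.X (n + 1 - 1)) :
    L.d n (n + 1) ((L.XIsoOfEq (add_sub_cancel_right n 1)).hom w) = L.d (n + 1 - 1) (n + 1) w :=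
  ConcreteCategory.congr_hom (L.XIsoOfEq_hom_comp_d (add_sub_cancel_right n 1) (n + 1)) w

include hL in
lemma dh_incl : ∀ (k : ℕ) (n : ℤ) (x : (stage K k).S n →₀ A),
    dh f n (inclL K k n x) = fL f n (inclL K k n x)
  | 0, n, x => by
    have : x = 0 := Finsupp.ext fun e => e.elim
    simp [this]
  | k + 1, n, x => by
    induction x using Finsupp.induction_linear with
    | zero => simp
    | add a b ha hb => rw [map_add, map_add, map_add, ha, hb]
    | single s r =>
      rw [← mul_one r, ← smul_eq_mul, ← Finsupp.smul_single, map_smul, map_smul, map_smul]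
      congr 1
      rw [Finsupp.lmapDomain_apply, Finsupp.mapDomain_single]
      rcases s with s | t
      · have := dh_incl k n (Finsupp.single s 1)
        rwa [Finsupp.lmapDomain_apply, Finsupp.mapDomain_single] at this
      · change dh f n (Finsupp.single (⟨k, t⟩ : Gen K n) 1) =
          fL f n (Finsupp.single (⟨k, t⟩ : Gen K n) 1)
        simp only [dh, LinearMap.add_apply, LinearMap.comp_apply, dL_single, hL'_incl]
        rw [hL', Finsupp.linearCombination_single, one_smul]
        change L.d (n - 1) n (pre n _) + _ = _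
        rw [d_pre hL]
        · exact sub_add_cancel _ _
        · rw [map_sub, d_eqToHom]
          have h1 : L.d n (n + 1) (fL f n (Finsupp.single (⟨k, t⟩ : Gen K n) 1)) =
              fL f (n + 1) (dL K n (Finsupp.single (⟨k, t⟩ : Gen K n) 1)) :=
            (ConcreteCategory.congr_hom (f.comm n (n + 1)) _).trans
              (congrArg (f.f (n + 1)) (res_d_apply K n _))
          rw [h1, dL_single, ← dh_incl k (n + 1) t.1.1, sub_eq_zero]
          simp only [dh, LinearMap.add_apply, LinearMap.comp_apply, hL'_incl, dL_incl, t.2.1, map_zero,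
            add_zero]

include hL in
lemma dh_eq (n : ℤ) (x : Gen K n →₀ A) : dh f n x = fL f n x := by
  obtain ⟨k, x', rfl⟩ := exists_inclL K n x
  exact dh_incl f hL k n x'

include hL in
lemma nonempty_homotopy_zero : Nonempty (Homotopy f 0) := by
  refine ⟨{
    hom := fun i j => if h : i - 1 = j then ModuleCat.ofHom (hL' f i) ≫ (L.XIsoOfEq h).hom else 0
    zero := fun i j hij => dif_neg fun h => hij (show j + 1 = i by omega)
    comm := fun n => ?_ }⟩
  rw [dNext_eq _ (show (ComplexShape.up ℤ).Rel n (n + 1) from rfl),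
    prevD_eq _ (show (ComplexShape.up ℤ).Rel (n - 1) n by simp),
    dif_pos (add_sub_cancel_right n 1), dif_pos rfl, zero_f, add_zero, res_d]
  ext1
  refine LinearMap.ext fun x => ?_
  refine (dh_eq f hL n x).symm.trans ((add_comm _ _).trans ?_)
  rfl

end Htpy

theorem isKProjective_res : (res K).IsKProjective := ⟨fun f hL => nonempty_homotopy_zero f hL⟩

/-- **K-projective resolutions of complexes of modules.** -/
theorem exists_kProjective_resolution :
    ∃ (P : CochainComplex (ModuleCat.{u} A) ℤ) (ε : P ⟶ K),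
      QuasiIso ε ∧ P.IsKProjective ∧ ∀ n, Module.Free A (P.X n) :=
  ⟨res K, aug K, quasiIso_aug K, isKProjective_res K,
    fun n => Module.Free.of_basis (Finsupp.basisSingleOne (R := A) (ι := Gen K n))⟩

end Groth.Calg2.KProj
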