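import Groth.Prelude.Def_DDual2
import Groth.Prelude.Def_DRing2
import Groth.Agent.Calg2.KProjDerived

/-!
`DRing.LBaseChange` is termwise base change on K-projective complexes; degreewise homology estimates
for cones of maps of K-projective complexes.
-/

set_option autoImplicit false

universe u

open CategoryTheory CategoryTheory.Limits CategoryTheory.Pretriangulated HomologicalComplex

attribute [local instance] HasDerivedCategory.standard

namespace Groth.Calg2.KProj

variable {A B : Type u} [CommRing A] [CommRing B] (φ : A →+* B)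

/-- Derived base change exists. -/
theorem hasLBaseChange : DRing.HasLBaseChange φ := hasLeftDerivedFunctor _

/-- Termwise extension of scalars. -/
noncomputable abbrev extCx : CochainComplex (ModuleCat.{u} A) ℤ ⥤ CochainComplex (ModuleCat.{u} B) ℤ :=
  (ModuleCat.extendScalars.{u, u, u} φ).mapHomologicalComplex (ComplexShape.up ℤ)

variable [DRing.HasLBaseChange φ]

/-- The comparison natural transformation on complexes. -/
noncomputable def lbcHom : DerivedCategory.Q ⋙ DRing.LBaseChange φ ⟶ extCx φ ⋙ DerivedCategory.Q :=
  Functor.whiskerRight (DerivedCategory.quotientCompQhIso (ModuleCat.{u} A)).inv (DRing.LBaseChange φ) ≫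
    Functor.whiskerLeft (quot A) ((DRing.baseChangeKh φ).totalLeftDerivedCounit (qh A) (qis A)) ≫
    Functor.whiskerRight
      ((ModuleCat.extendScalars.{u, u, u} φ).mapHomotopyCategoryFactors (ComplexShape.up ℤ)).hom
      DerivedCategory.Qh ≫
    Functor.whiskerLeft (extCx φ) (DerivedCategory.quotientCompQhIso (ModuleCat.{u} B)).hom

theorem isIso_lbcHom_app (P : CochainComplex (ModuleCat.{u} A) ℤ) [P.IsKProjective] :
    IsIso ((lbcHom φ).app P) := by
  haveI : IsIso (((DRing.baseChangeKh φ).totalLeftDerivedCounit (qh A) (qis A)).app ((quot A).obj P)) :=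
    isIso_counit_app _ (DRing.LBaseChange φ) _ P
  simp only [lbcHom, NatTrans.comp_app, Functor.whiskerRight_app, Functor.whiskerLeft_app]
  infer_instance

/-- Derived base change of a K-projective complex. -/
noncomputable def lbcIso (P : CochainComplex (ModuleCat.{u} A) ℤ) [P.IsKProjective] :
    (DRing.LBaseChange φ).obj (DerivedCategory.Q.obj P) ≅ DerivedCategory.Q.obj ((extCx φ).obj P) :=
  haveI := isIso_lbcHom_app φ P
  asIso ((lbcHom φ).app P)

theorem lbcIso_naturality {P P' : CochainComplex (ModuleCat.{u} A) ℤ} [P.IsKProjective]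
    [P'.IsKProjective] (g : P ⟶ P') :
    (DRing.LBaseChange φ).map (DerivedCategory.Q.map g) ≫ (lbcIso φ P').hom =
      (lbcIso φ P).hom ≫ DerivedCategory.Q.map ((extCx φ).map g) :=
  (lbcHom φ).naturality g

end Groth.Calg2.KProj
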