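import Groth.Agent.Calg2.ML

/-!
Mittag-Leffler modules under change of rings; flatness of cokernels of universally injective maps.
-/

universe u

open TensorProduct

namespace Groth.Calg2

variable {R S : Type u} [CommRing R] [CommRing S] [Algebra R S]

theorem isMittagLeffler_restrictScalars {M : Type u} [AddCommGroup M] [Module S M] [Module R M]
    [IsScalarTower R S M] (hM : CAlg.IsMittagLeffler S M)
    (h : ∀ (ι : Type u) (Q : ι → Type u) [∀ i, AddCommGroup (Q i)] [∀ i, Module R (Q i)],
      Function.Injective ((piRightHom R S S Q).lTensor M)) :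
    CAlg.IsMittagLeffler R M := by
  intro ι Q _ _
  have key : ∀ (z : M ⊗[S] (S ⊗[R] (∀ i, Q i))) (i : ι),
      AlgebraTensorModule.cancelBaseChange R S S M (Q i)
        (piRightHom S S M (fun i => S ⊗[R] Q i) ((piRightHom R S S Q).lTensor M z) i) =
      piRightHom R R M Q (AlgebraTensorModule.cancelBaseChange R S S M (∀ i, Q i) z) i := by
    intro z i
    induction z with
    | zero => simp
    | tmul m w =>
      induction w with
      | zero => simp
      | tmul s q => simp
      | add a b ha hb => simp only [TensorProduct.tmul_add, map_add, Pi.add_apply, ha, hb]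
    | add a b ha hb => simp only [map_add, Pi.add_apply, ha, hb]
  refine (injective_iff_map_eq_zero _).2 fun x hx => ?_
  obtain ⟨z, rfl⟩ := (AlgebraTensorModule.cancelBaseChange R S S M (∀ i, Q i)).surjective x
  have hz : z = 0 := by
    refine h ι Q (hM ι _ (funext fun i => ?_))
    simp only [map_zero, Pi.zero_apply]
    refine (AlgebraTensorModule.cancelBaseChange R S S M (Q i)).injective ?_
    rw [key, hx]
    simp
  simp [hz]

theorem isMittagLeffler_quotient_of_base (I : Ideal R) (M : Type u) [AddCommGroup M]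
    [Module (R ⧸ I) M] [Module R M] [IsScalarTower R (R ⧸ I) M] (h : CAlg.IsMittagLeffler R M) :
    CAlg.IsMittagLeffler (R ⧸ I) M := by
  intro ι Q _ _
  let i1 : ∀ i, Module R (Q i) := fun i => Module.compHom (Q i) (algebraMap R (R ⧸ I))
  letI := i1
  haveI : ∀ i, IsScalarTower R (R ⧸ I) (Q i) := fun i =>
    IsScalarTower.of_algebraMap_smul fun r x => rfl
  refine (injective_iff_map_eq_zero _).2 fun x hx => ?_
  let C : M ⊗[R] (∀ i, Q i) →ₗ[R] M ⊗[R ⧸ I] (∀ i, Q i) := mapOfCompatibleSMul (R ⧸ I) R R M _
  obtain ⟨y, rfl⟩ : ∃ y, C y = x := mapOfCompatibleSMul_surjective (R ⧸ I) R R M _ x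
  have key : ∀ (y : M ⊗[R] (∀ i, Q i)) (i : ι), mapOfCompatibleSMul (R ⧸ I) R R M (Q i)
      (piRightHom R R M Q y i) = piRightHom (R ⧸ I) (R ⧸ I) M Q (C y) i := by
    intro y i
    induction y with
    | zero => simp
    | tmul m q => simp [C]
    | add a b ha hb => simp only [map_add, Pi.add_apply, ha, hb]
  have hy : y = 0 := by
    refine h ι Q (funext fun i => ?_)
    simp only [map_zero, Pi.zero_apply]
    haveI : CompatibleSMul R (R ⧸ I) M (Q i) :=
      CompatibleSMul.of_algebraMap_surjective _ _ Ideal.Quotient.mk_surjective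
    refine (equivOfCompatibleSMul (R ⧸ I) R R M (Q i)).injective ?_
    refine (key y i).trans ?_
    rw [hx]
    simp
  simp [hy]

theorem isMittagLeffler_baseChange {M : Type u} [AddCommGroup M] [Module R M]
    (hM : CAlg.IsMittagLeffler R M) : CAlg.IsMittagLeffler S (S ⊗[R] M) := by
  intro ι Q _ _
  let i1 : ∀ i, Module R (Q i) := fun i => Module.compHom (Q i) (algebraMap R S)
  letI := i1
  haveI : ∀ i, IsScalarTower R S (Q i) := fun i => IsScalarTower.of_algebraMap_smul fun r x => rfl
  let e : ∀ (X : Type u) [AddCommGroup X] [Module S X] [Module R X] [IsScalarTower R S X],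
      (S ⊗[R] M) ⊗[S] X ≃+ M ⊗[R] X := fun X _ _ _ _ =>
    ((TensorProduct.comm S (S ⊗[R] M) X).toAddEquiv.trans
      (AlgebraTensorModule.cancelBaseChange R S S X M).toAddEquiv).trans
        (TensorProduct.comm R X M).toAddEquiv
  have key : ∀ (z : (S ⊗[R] M) ⊗[S] (∀ i, Q i)) (i : ι),
      e (Q i) (piRightHom S S (S ⊗[R] M) Q z i) = piRightHom R R M Q (e (∀ i, Q i) z) i := by
    intro z i
    induction z with
    | zero => simp
    | tmul w q =>
      induction w with
      | zero => simp
      | tmul s m => simp [e]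
      | add a b ha hb => simp only [TensorProduct.add_tmul, map_add, Pi.add_apply, ha, hb]
    | add a b ha hb => simp only [map_add, Pi.add_apply, ha, hb]
  intro a b hab
  exact (e _).injective (hM ι Q (funext fun i => by rw [← key, ← key, hab]))

theorem flat_coker {M₁ M₂ M₃ : Type u} [AddCommGroup M₁] [Module R M₁] [AddCommGroup M₂] [Module R M₂]
    [AddCommGroup M₃] [Module R M₃] (f : M₁ →ₗ[R] M₂) (g : M₂ →ₗ[R] M₃) (hexact : Function.Exact f g)
    (hg : Function.Surjective g) [Module.Flat R M₂]
    (h : ∀ I : Ideal R, I.FG → Function.Injective (f.rTensor (R ⧸ I))) : Module.Flat R M₃ := by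
  refine Module.Flat.iff_lTensor_injective.2 fun {I} hI => ?_
  have hexI : Function.Exact I.subtype I.mkQ := LinearMap.exact_subtype_mkQ I
  exact lTensor_injective_of_exact_of_exact_of_rTensor_injective (R := R) (M₁ := M₁) (M₂ := M₂)
    (M₃ := M₃) (N₁ := I) (N₂ := R) (N₃ := R ⧸ I) hexact hg hexI I.mkQ_surjective (h I hI)
    (Module.Flat.iff_lTensor_injective.1 inferInstance hI)

end Groth.Calg2
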