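import Mathlib

/-!
A local ring with finitely generated maximal ideal in which every finitely generated ideal is
closed for the adic topology is Noetherian; applications to rings covered by Noetherian subrings.
-/

universe u v

open MvPolynomial

namespace Groth.Calg2

theorem hc_mul {σ R : Type*} [CommRing R] {f : MvPolynomial σ R} {d : ℕ} (hf : f.IsHomogeneous d)
    (h : MvPolynomial σ R) (n : ℕ) :
    homogeneousComponent n (h * f) = if d ≤ n then homogeneousComponent (n - d) h * f else 0 := by
  conv_lhs => rw [← sum_homogeneousComponent h, Finset.sum_mul, map_sum]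
  have key : ∀ i, homogeneousComponent n (homogeneousComponent i h * f) =
      if n = i + d then homogeneousComponent i h * f else 0 := fun i =>
    homogeneousComponent_of_mem ((homogeneousComponent_isHomogeneous i h).mul hf)
  simp only [key]
  split_ifs with hd
  · rw [Finset.sum_eq_single (n - d) (fun i _ hi => if_neg (by omega)) (fun hni => ?_)]
    · rw [if_pos (by omega)]
    · rw [if_pos (by omega), homogeneousComponent_eq_zero _ _ (by
        simp only [Finset.mem_range, not_lt] at hni; omega), zero_mul]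
  · exact Finset.sum_eq_zero fun i _ => if_neg (by omega)

/-- Criterion for Noetherianity. -/
theorem isNoetherianRing_of_fg_of_closed {B : Type u} [CommRing B] (m : Ideal B) (hm : m.FG)
    [hmax : m.IsMaximal]
    (hclosed : ∀ J : Ideal B, J.FG → ∀ x : B, (∀ n : ℕ, x ∈ J ⊔ m ^ n) → x ∈ J) :
    IsNoetherianRing B := by
  classical
  obtain ⟨d, g, hg⟩ := Submodule.fg_iff_exists_fin_generating_family.1 hm
  letI : Field (B ⧸ m) := Ideal.Quotient.field m
  let π : MvPolynomial (Fin d) B →+* MvPolynomial (Fin d) (B ⧸ m) := MvPolynomial.map (Ideal.Quotient.mk m)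
  have hπ : Function.Surjective π := MvPolynomial.map_surjective _ Ideal.Quotient.mk_surjective
  refine (isNoetherianRing_iff_ideal_fg B).2 fun I => ?_
  let S : Set (MvPolynomial (Fin d) B) :=
    {f | ∃ n, f.IsHomogeneous n ∧ eval g f ∈ I ⊔ m ^ (n + 1)}
  obtain ⟨s, hs, hspan⟩ := Submodule.fg_span_iff_fg_span_finset_subset (π '' S) |>.1
    (IsNoetherian.noetherian (Ideal.span (π '' S)))
  have hs' : ∀ y : s, ∃ f n, ∃ a ∈ I, π f = y ∧ f.IsHomogeneous n ∧ eval g f - a ∈ m ^ (n + 1) := by
    intro y
    obtain ⟨f, ⟨n, hfn, hf⟩, hfy⟩ := hs y.2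
    obtain ⟨a, ha, b, hb, hab⟩ := Submodule.mem_sup.1 hf
    exact ⟨f, n, a, ha, hfy, hfn, by rw [← hab, add_sub_cancel_left]; exact hb⟩
  choose F D a ha hF hD ham using hs'
  let J : Ideal B := Ideal.span (Set.range a)
  have hJI : J ≤ I := Ideal.span_le.2 (by rintro _ ⟨y, rfl⟩; exact ha y)
  have hgm : ∀ i, g i ∈ m := fun i => hg ▸ Submodule.subset_span ⟨i, rfl⟩
  have heval : ∀ (k : ℕ) (f : MvPolynomial (Fin d) B), f.IsHomogeneous k → eval g f ∈ m ^ k := by
    intro k f hf
    rw [← hg]
    exact (Ideal.mem_span_pow_iff_exists_isHomogeneous g _).2 ⟨f, hf, rfl⟩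
  have step : ∀ n, ∀ y ∈ I ⊓ m ^ n, y ∈ J ⊔ (I ⊓ m ^ (n + 1)) := by
    rintro n y ⟨hyI, hy⟩
    have hy' : y ∈ (Ideal.span (Set.range g)) ^ n := by
      rw [show Ideal.span (Set.range g) = m from hg]; exact hy
    obtain ⟨f, hf, hfy⟩ := (Ideal.mem_span_pow_iff_exists_isHomogeneous g y).1 hy'
    have hfS : f ∈ S := ⟨n, hf, by rw [hfy]; exact Ideal.mem_sup_left hyI⟩
    have hmem : π f ∈ Submodule.span (MvPolynomial (Fin d) (B ⧸ m)) ((s : Set _)) := by
      rw [← hspan]; exact Submodule.subset_span ⟨f, hfS, rfl⟩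
    obtain ⟨c, hc⟩ : ∃ c : s → MvPolynomial (Fin d) (B ⧸ m), ∑ k, c k * (k : MvPolynomial (Fin d) (B ⧸ m)) = π f := by
      rw [show (s : Set (MvPolynomial (Fin d) (B ⧸ m))) = Set.range ((↑) : s → _) by simp] at hmem
      exact (Submodule.mem_span_range_iff_exists_fun _).1 hmem
    choose h hh using fun k => hπ (c k)
    let r := f - ∑ k, h k * F k
    have hr : r ∈ Ideal.map (C : B →+* MvPolynomial (Fin d) B) m := by
      have : π r = 0 := by
        simp only [r, map_sub, map_sum, map_mul, hh, hF]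
        rw [hc, sub_self]
      refine MvPolynomial.mem_map_C_iff.2 fun e => ?_
      rw [← Ideal.Quotient.eq_zero_iff_mem, ← MvPolynomial.coeff_map]
      show (π r).coeff e = 0
      rw [this]; simp
    have hrn : homogeneousComponent n r ∈ Ideal.map (C : B →+* MvPolynomial (Fin d) B) m := by
      rw [MvPolynomial.mem_map_C_iff] at hr ⊢
      intro e
      rw [coeff_homogeneousComponent]
      split_ifs
      · exact hr e
      · exact m.zero_mem
    have hrn' : eval g (homogeneousComponent n r) ∈ m ^ (n + 1) := by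
      rw [MvPolynomial.mem_map_C_iff] at hrn
      rw [eval_eq]
      refine Ideal.sum_mem _ fun e he => ?_
      rw [pow_succ']
      refine Ideal.mul_mem_mul (hrn e) ?_
      have hdeg : (∑ i ∈ e.support, e i) = n := by
        by_contra hne
        refine MvPolynomial.mem_support_iff.1 he ?_
        rw [coeff_homogeneousComponent, if_neg]
        simpa [Finsupp.degree] using hne
      have := Ideal.prod_mem_prod (s := e.support) (I := fun i => m ^ e i) (x := fun i => g i ^ e i)
        fun i _ => Ideal.pow_mem_pow (hgm i) _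
      rwa [Finset.prod_pow_eq_pow_sum, hdeg] at this
    have hfn : homogeneousComponent n f = f := by
      rw [homogeneousComponent_of_mem hf, if_pos rfl]
    let q : s → B := fun k => if D k ≤ n then eval g (homogeneousComponent (n - D k) (h k)) else 0
    have hterm : ∀ k, eval g (homogeneousComponent n (h k * F k)) - q k * a k ∈ m ^ (n + 1) := by
      intro k
      rw [hc_mul (hD k)]
      by_cases hk : D k ≤ n
      · simp only [q, if_pos hk, map_mul, ← mul_sub]
        have := Ideal.mul_mem_mul (heval _ _ (homogeneousComponent_isHomogeneous (n - D k) (h k))) (ham k)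
        rwa [← pow_add, show n - D k + (D k + 1) = n + 1 by omega] at this
      · simp [q, hk]
    have hz : y - ∑ k, q k * a k ∈ m ^ (n + 1) := by
      have e1 : y = eval g (homogeneousComponent n r) + ∑ k, eval g (homogeneousComponent n (h k * F k)) := by
        rw [← map_sum, ← map_add, ← map_sum, ← map_add, show r + ∑ k, h k * F k = f from sub_add_cancel _ _, hfn, hfy]
      rw [e1, add_sub_assoc, ← Finset.sum_sub_distrib]
      exact Ideal.add_mem _ hrn' (Ideal.sum_mem _ fun k _ => hterm k)
    have hJ : ∑ k, q k * a k ∈ J :=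
      Ideal.sum_mem _ fun k _ => J.mul_mem_left _ (Ideal.subset_span ⟨k, rfl⟩)
    rw [← sub_add_cancel y (∑ k, q k * a k)]
    exact Ideal.add_mem _ (Ideal.mem_sup_right ⟨I.sub_mem hyI (hJI hJ), hz⟩) (Ideal.mem_sup_left hJ)
  have hfg : J.FG := Submodule.fg_span (Set.finite_range a)
  have : I = J := le_antisymm (fun x hx => hclosed J hfg x fun n => ?_) hJI
  · rw [this]; exact hfg
  · have : x ∈ J ⊔ (I ⊓ m ^ n) := by
      induction n with
      | zero => exact Ideal.mem_sup_right ⟨hx, by simp⟩
      | succ n ih =>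
        obtain ⟨j, hj, y, hy, rfl⟩ := Submodule.mem_sup.1 ih
        exact Ideal.add_mem _ (Ideal.mem_sup_left hj) (step n y hy)
    exact (sup_le le_sup_left (inf_le_right.trans le_sup_right) : J ⊔ (I ⊓ m ^ n) ≤ J ⊔ m ^ n) this

/-- A local ring covered by Noetherian local rings, faithfully flat below it, with the same maximal
ideal, is Noetherian. -/
theorem isNoetherianRing_of_cover {B : Type u} [CommRing B] [IsLocalRing B]
    (hm : (IsLocalRing.maximalIdeal B).FG)
    (h : ∀ s : Finset B, ∃ (C : Type v) (_ : CommRing C) (_ : IsLocalRing C) (_ : IsNoetherianRing C)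
      (ψ : C →+* B), (s : Set B) ⊆ Set.range ψ ∧
        (IsLocalRing.maximalIdeal C).map ψ = IsLocalRing.maximalIdeal B ∧
        ∀ J : Ideal C, (J.map ψ).comap ψ = J) :
    IsNoetherianRing B := by
  classical
  refine isNoetherianRing_of_fg_of_closed (IsLocalRing.maximalIdeal B) hm fun J hJ x hx => ?_
  obtain ⟨s, rfl⟩ := hJ
  obtain ⟨C, _, _, _, ψ, hsub, hmax, hff⟩ := h (insert x s)
  obtain ⟨x', rfl⟩ := hsub (Finset.mem_insert_self x s)
  have hs : ∀ y ∈ s, ∃ c, ψ c = y := fun y hy => hsub (Finset.mem_insert_of_mem hy)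
  let J' : Ideal C := (Ideal.span (s : Set B)).comap ψ
  have hJ' : J'.map ψ = Ideal.span (s : Set B) := by
    refine le_antisymm Ideal.map_comap_le (Ideal.span_le.2 fun y hy => ?_)
    obtain ⟨c, rfl⟩ := hs y hy
    exact Ideal.mem_map_of_mem _ (Ideal.subset_span hy : ψ c ∈ Ideal.span _)
  have hmem : ∀ n, x' ∈ J' ⊔ IsLocalRing.maximalIdeal C ^ n := fun n => by
    rw [← hff (J' ⊔ _), Ideal.mem_comap, Ideal.map_sup, Ideal.map_pow, hJ', hmax]
    exact hx n
  rw [← hJ']
  refine Ideal.mem_map_of_mem _ ?_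
  by_cases hJ'top : J' = ⊤
  · simp [hJ'top]
  have hne : J' ≤ IsLocalRing.maximalIdeal C := IsLocalRing.le_maximalIdeal hJ'top
  have hkey := Ideal.iInf_pow_smul_eq_bot_of_le_jacobson (R := C) (M := C ⧸ J')
    (IsLocalRing.maximalIdeal C) (IsLocalRing.maximalIdeal_le_jacobson _)
  have h0 : Ideal.Quotient.mk J' x' ∈ (⨅ n, IsLocalRing.maximalIdeal C ^ n • ⊤ : Submodule C (C ⧸ J')) := by
    rw [Submodule.mem_iInf]
    intro n
    obtain ⟨j, hj, y, hy, hjy⟩ := Submodule.mem_sup.1 (hmem n)
    rw [← hjy, map_add, Ideal.Quotient.eq_zero_iff_mem.2 hj, zero_add,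
      show Ideal.Quotient.mk J' y = y • (1 : C ⧸ J') by rw [Algebra.smul_def, mul_one]; rfl]
    exact Submodule.smul_mem_smul hy Submodule.mem_top
  rw [hkey] at h0
  exact Ideal.Quotient.eq_zero_iff_mem.1 h0

end Groth.Calg2
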