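import Mathlib.RingTheory.FinitePresentation
import Mathlib.RingTheory.Localization.AtPrime.Basic
import Mathlib.RingTheory.Localization.Away.Basic

universe u v w

namespace Groth.Calg2.SpreadAlg

variable {R : Type u} [CommRing R] {S : Type v} [CommRing S] [Algebra R S]
  {T : Type w} [CommRing T] [Algebra R T]

theorem isUnit_of_dvd {g k : T} (h : g ∣ k) :
    ∀ y : Submonoid.powers g, IsUnit ((Algebra.ofId T (Localization.Away k)) y) := by
  rintro ⟨_, n, rfl⟩
  obtain ⟨c, rfl⟩ := h
  have := IsLocalization.Away.algebraMap_isUnit (S := Localization.Away (g * c)) (g * c)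
  rw [map_mul, IsUnit.mul_iff] at this
  simpa using this.1.pow n

/-- `T_g → T_k` for `g ∣ k`. -/
noncomputable def res {g k : T} (h : g ∣ k) : Localization.Away g →ₐ[T] Localization.Away k :=
  IsLocalization.liftAlgHom (isUnit_of_dvd h)

/-- `T_g → T_q` for `g ∉ q`. -/
noncomputable def toStalk {q : Ideal T} [q.IsPrime] {g : T} (h : g ∉ q) :
    Localization.Away g →ₐ[T] Localization.AtPrime q :=
  IsLocalization.liftAlgHom (M := Submonoid.powers g) (f := Algebra.ofId T _) (by
    rintro ⟨_, n, rfl⟩
    simpa using (IsLocalization.map_units (Localization.AtPrime q) (⟨g, h⟩ : q.primeCompl)).pow n)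

theorem res_comp {g k l : T} (h : g ∣ k) (h' : k ∣ l) :
    (res h').comp (res h) = res (h.trans h') :=
  IsLocalization.algHom_ext (Submonoid.powers g) (Subsingleton.elim _ _)

theorem res_res {g k l : T} (h : g ∣ k) (h' : k ∣ l) (x : Localization.Away g) :
    res h' (res h x) = res (h.trans h') x := by
  rw [← res_comp h h']; rfl

theorem toStalk_res {q : Ideal T} [q.IsPrime] {g k : T} (h : g ∣ k) (hk : k ∉ q) (hg : g ∉ q)
    (x : Localization.Away g) : toStalk hk (res h x) = toStalk hg x := by
  have : (toStalk hk).comp (res h) = toStalk hg :=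
    IsLocalization.algHom_ext (Submonoid.powers g) (Subsingleton.elim _ _)
  rw [← this]; rfl

theorem exists_res_eq {q : Ideal T} [q.IsPrime] {g : T} (hg : g ∉ q) (x y : Localization.Away g)
    (h : toStalk hg x = toStalk hg y) :
    ∃ c : T, c ∉ q ∧ ∀ (k : T) (hk : g ∣ k), c ∣ k → res hk x = res hk y := by
  obtain ⟨a, ⟨_, m, rfl⟩, ha⟩ := IsLocalization.exists_mk'_eq (Submonoid.powers g) (x - y)
  have h1 : algebraMap T (Localization.AtPrime q) a = 0 := by
    have h2 : toStalk hg (x - y) = 0 := by rw [map_sub, h, sub_self]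
    have h3 : (x - y) * algebraMap T _ (g ^ m) = algebraMap T _ a := by
      rw [← ha]; exact IsLocalization.mk'_spec _ _ _
    have := congrArg (toStalk hg) h3
    rw [map_mul, h2, zero_mul, AlgHom.commutes] at this
    exact this.symm
  obtain ⟨⟨c, hc⟩, hc0⟩ := (IsLocalization.map_eq_zero_iff q.primeCompl _ _).1 h1
  refine ⟨c, hc, fun k hk hck => ?_⟩
  rw [← sub_eq_zero, ← map_sub]
  have h3 : (x - y) * algebraMap T _ (g ^ m) = algebraMap T _ a := by
    rw [← ha]; exact IsLocalization.mk'_spec _ _ _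
  have h4 := congrArg (res hk) h3
  rw [map_mul, AlgHom.commutes, AlgHom.commutes] at h4
  have hu : IsUnit (algebraMap T (Localization.Away k) c) :=
    isUnit_of_dvd hck ⟨c, 1, pow_one c⟩
  have hu' : IsUnit (algebraMap T (Localization.Away k) (g ^ m)) :=
    isUnit_of_dvd hk ⟨g ^ m, m, rfl⟩
  have h5 : algebraMap T (Localization.Away k) a = 0 := by
    apply hu.mul_right_eq_zero.1
    rw [← map_mul]
    rw [show c * a = 0 from hc0, map_zero]
  rw [h5] at h4
  exact hu'.mul_left_eq_zero.1 h4

theorem exists_num {q : Ideal T} [q.IsPrime] {a : T} (ha : a ∉ q) (x : Localization.Away a)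
    (h : IsUnit (toStalk ha x)) :
    ∃ (b : T) (m : ℕ), b ∉ q ∧ x * algebraMap T _ (a ^ m) = algebraMap T _ b := by
  obtain ⟨b, ⟨_, m, rfl⟩, hb⟩ := IsLocalization.exists_mk'_eq (Submonoid.powers a) x
  have h1 : x * algebraMap T _ (a ^ m) = algebraMap T _ b := by
    rw [← hb]; exact IsLocalization.mk'_spec _ _ _
  refine ⟨b, m, fun hbq => ?_, h1⟩
  have h2 := congrArg (toStalk ha) h1
  rw [map_mul, AlgHom.commutes, AlgHom.commutes] at h2
  have hu : IsUnit (algebraMap T (Localization.AtPrime q) b) := by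
    rw [← h2]
    exact h.mul (IsLocalization.map_units _ (⟨a ^ m, q.primeCompl.pow_mem ha m⟩ : q.primeCompl))
  exact (IsLocalization.AtPrime.isUnit_to_map_iff _ q b).1 hu hbq

theorem isUnit_res_of_num {a b k : T} {m : ℕ} {x : Localization.Away a}
    (h : x * algebraMap T _ (a ^ m) = algebraMap T _ b) (hk : a ∣ k) (hb : b ∣ k) :
    IsUnit (res hk x) := by
  have h2 := congrArg (res hk) h
  rw [map_mul, AlgHom.commutes, AlgHom.commutes] at h2
  have hu : IsUnit (algebraMap T (Localization.Away k) b) := isUnit_of_dvd hb ⟨b, 1, pow_one b⟩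
  rw [← h2, IsUnit.mul_iff] at hu
  exact hu.1

/-- Two maps from a finite type algebra to `T_g` which agree in `T_q` agree near `q`. -/
theorem exists_comp_eq [Algebra.FiniteType R S] {q : Ideal T} [q.IsPrime] {g : T} (hg : g ∉ q)
    (f₁ f₂ : S →ₐ[R] Localization.Away g) (h : ∀ s, toStalk hg (f₁ s) = toStalk hg (f₂ s)) :
    ∃ c : T, c ∉ q ∧ ∀ (k : T) (hk : g ∣ k), c ∣ k → ∀ s, res hk (f₁ s) = res hk (f₂ s) := by
  classical
  obtain ⟨G, hG⟩ := Algebra.FiniteType.out (R := R) (A := S)
  choose c hc hk' using fun s : S => exists_res_eq hg (f₁ s) (f₂ s) (h s)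
  refine ⟨∏ s ∈ G, c s, Submonoid.prod_mem q.primeCompl fun s _ => hc s, fun k hk hck => ?_⟩
  have : ((res hk).restrictScalars R).comp f₁ = ((res hk).restrictScalars R).comp f₂ := by
    refine AlgHom.ext_of_adjoin_eq_top hG fun s hs => ?_
    exact hk' s k hk ((Finset.dvd_prod_of_mem c hs).trans hck)
  exact fun s => DFunLike.congr_fun this s

/-- A map from a finitely presented algebra to a local ring `T_q` comes from some `T_g`. -/
theorem exists_lift [Algebra.FinitePresentation R S] {q : Ideal T} [q.IsPrime]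
    (φ : S →ₐ[R] Localization.AtPrime q) :
    ∃ (g : T) (hg : g ∉ q) (ψ : S →ₐ[R] Localization.Away g), ∀ s, toStalk hg (ψ s) = φ s := by
  classical
  obtain ⟨n, π, hπ, hker⟩ := Algebra.FinitePresentation.out (R := R) (A := S)
  have hx : ∀ i, ∃ ab : T × q.primeCompl,
      φ (π (MvPolynomial.X i)) * algebraMap T _ (ab.2 : T) = algebraMap T _ ab.1 :=
    fun i => IsLocalization.surj q.primeCompl _
  choose ab hab using hx
  let g : T := ∏ i, ((ab i).2 : T)
  have hg : g ∉ q := Submonoid.prod_mem q.primeCompl fun i _ => (ab i).2.2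
  have hu : ∀ i, IsUnit (algebraMap T (Localization.Away g) ((ab i).2 : T)) := fun i =>
    isUnit_of_dvd (Finset.dvd_prod_of_mem _ (Finset.mem_univ i)) ⟨_, 1, pow_one _⟩
  let F : MvPolynomial (Fin n) R →ₐ[R] Localization.Away g :=
    MvPolynomial.aeval fun i => algebraMap T _ (ab i).1 * ((hu i).unit⁻¹ : _)
  have hF : ((toStalk hg).restrictScalars R).comp F = φ.comp π := by
    refine MvPolynomial.algHom_ext fun i => ?_
    have h1 : F (MvPolynomial.X i) * algebraMap T _ ((ab i).2 : T) = algebraMap T _ (ab i).1 := by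
      simp only [F, MvPolynomial.aeval_X]
      rw [mul_assoc, IsUnit.val_inv_mul, mul_one]
    have h2 := congrArg (toStalk hg) h1
    rw [map_mul, AlgHom.commutes, AlgHom.commutes, ← hab i] at h2
    exact (IsLocalization.map_units _ (ab i).2).mul_right_cancel h2
  obtain ⟨K, hK⟩ := hker
  choose c hc hk' using fun r : MvPolynomial (Fin n) R => fun (hr : π r = 0) =>
    exists_res_eq hg (F r) 0 (by
      rw [map_zero]
      refine (DFunLike.congr_fun hF r).trans ?_
      simp [hr])
  let c' : MvPolynomial (Fin n) R → T := fun r => if hr : π r = 0 then c r hr else 1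
  let g' := g * ∏ r ∈ K, c' r
  have hg' : g' ∉ q := q.primeCompl.mul_mem hg (Submonoid.prod_mem q.primeCompl fun r _ => by
    change c' r ∈ q.primeCompl
    simp only [c']
    split_ifs with hr
    · exact hc r hr
    · exact q.primeCompl.one_mem)
  have hd : g ∣ g' := dvd_mul_right _ _
  let F' := ((res hd).restrictScalars R).comp F
  have hle : RingHom.ker π ≤ RingHom.ker F' := by
    change RingHom.ker π.toRingHom ≤ _
    rw [← hK, Submodule.span_le]
    intro r hr
    have hr0 : π r = 0 := by
      show r ∈ RingHom.ker π.toRingHom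
      rw [← hK]; exact Submodule.subset_span hr
    have := hk' r hr0 g' hd ((by
      have : c' r = c r hr0 := dif_pos hr0
      rw [← this]
      exact (Finset.dvd_prod_of_mem c' hr).trans (dvd_mul_left _ _)))
    rw [map_zero] at this
    exact this
  refine ⟨g', hg', AlgHom.liftOfSurjective π hπ F' hle, fun s => ?_⟩
  obtain ⟨x, rfl⟩ := hπ s
  rw [AlgHom.liftOfSurjective_apply]
  exact (toStalk_res hd hg' hg _).trans (DFunLike.congr_fun hF x)

end Groth.Calg2.SpreadAlg
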